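import Groth.Agent.SpChev.FinQABasic

/-!
# Affine opens saturated for a finite surjection
-/

set_option autoImplicit false
set_option linter.style.haveILetI false

universe u

open CategoryTheory CategoryTheory.Limits AlgebraicGeometry TopologicalSpace

set_option backward.isDefEq.respectTransparency false

namespace Groth.Agent.SpChev

open _root_.AlgSp Groth.Agent.AlgSpLib

variable {S : Scheme.{u}}

theorem ofPt_eq_map {Y : Sp S} {T : Over S} (f : (yon S).obj T ⟶ Y) (t : T.left) :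
    Points.ofPt f t = Points.map f (Points.schemeHomeo T t) := by
  show _ = Points.map f (Points.ofPt (𝟙 _) t)
  rw [Points.map_ofPt, Category.id_comp]

theorem isClosedMap_ofPt_of_univClosed {Y : Sp S} (hY : IsAlgSpace Y) {T : Over S} {f : (yon S).obj T ⟶ Y}
    (hf : RepWith @UniversallyClosed f) : IsClosedMap (Points.ofPt f) := fun C hC => by
  have h : IsClosedMap (Points.map f) :=
    (isUnivClosedMor_iff_repWith hf.1).2 hf hY (𝟙 Y) (𝟙 _) f (IsPullback.id_horiz f)
  have e : Points.ofPt f '' C = Points.map f '' (Points.schemeHomeo T '' C) := by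
    rw [Set.image_image]
    exact Set.image_congr fun t _ => ofPt_eq_map f t
  rw [e]
  exact h _ ((Points.schemeHomeo T).isClosedMap _ hC)

theorem exists_point_of_isPullback_yon {Y : Sp S} {P A B : Over S} {f : (yon S).obj A ⟶ Y}
    {g : (yon S).obj B ⟶ Y} {p : P ⟶ A} {q : P ⟶ B} (sq : IsPullback ((yon S).map p) ((yon S).map q) f g)
    (a : A.left) (b : B.left) (e : Points.ofPt f a = Points.ofPt g b) :
    ∃ z : P.left, p.left z = a ∧ q.left z = b := by
  obtain ⟨z, hz₁, hz₂⟩ := exists_point_of_isPullback sq (Points.schemeHomeo A a) (Points.schemeHomeo B b)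
    (by rwa [← ofPt_eq_map, ← ofPt_eq_map])
  obtain ⟨z, rfl⟩ := (Points.schemeHomeo P).surjective z
  rw [Points.map_yon_map_apply] at hz₁ hz₂
  exact ⟨z, (Points.schemeHomeo A).injective hz₁, (Points.schemeHomeo B).injective hz₂⟩

/-- an affine open saturated over a closed subscheme, containing a given fibre -/
theorem exists_affine_saturated {Y : Sp S} (hY : IsAlgSpace Y) {T U TZ : Over S} [T.left.IsQuasiAffine]
    {f : (yon S).obj T ⟶ Y} (hf : RepWith @IsFinite f) {a : (yon S).obj U ⟶ Y} (has : RepWith @Surjective a)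
    {g : (yon S).obj TZ ⟶ Y} (hg : RepWith @IsClosedImmersion g) (x : Points Y) :
    ∃ V : T.left.Opens, IsAffineOpen V ∧ (∀ t, Points.ofPt f t = x → t ∈ V) ∧
      ∀ t t', Points.ofPt f t = Points.ofPt f t' → Points.ofPt f t ∈ Set.range (Points.ofPt g) →
        t ∈ V → t' ∈ V := by
  have hfc : IsClosedMap (Points.ofPt f) := isClosedMap_ofPt_of_univClosed hY (repWith_mono (fun _ _ r hr => by
    have : IsFinite r := hr
    exact (inferInstance : UniversallyClosed r)) hf)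
  have hgc := isClosedMap_ofPt_of_closed hY hg
  have hF := finite_fibre hf has x
  by_cases hx : x ∈ Set.range (Points.ofPt g)
  swap
  · obtain ⟨V, hV, hFV, hVO⟩ := exists_affine_finset hF
      ⟨Points.ofPt f ⁻¹' (Set.range (Points.ofPt g))ᶜ,
        hgc.isClosed_range.isOpen_compl.preimage (Points.continuous_ofPt f)⟩
      (fun t ht => by
        show Points.ofPt f t ∈ (Set.range (Points.ofPt g))ᶜ
        rwa [show Points.ofPt f t = x from ht])
    exact ⟨V, hV, fun t ht => hFV ht, fun t t' _ h1 h2 => (hVO h2 h1).elim⟩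
  obtain ⟨s, rfl⟩ := hx
  have : Mono g := SchImg.mono_of_closed hg
  have hginj : Function.Injective (Points.ofPt g) := fun u v e => by
    rw [ofPt_eq_map, ofPt_eq_map] at e
    exact (Points.schemeHomeo TZ).injective (SchImg.injective_map_of_mono e)
  obtain ⟨Q, hQ, hsQ, -⟩ := exists_isAffineOpen_mem_and_subset (x := s) (U := ⊤) trivial
  obtain ⟨V, hV, hFV, hVN⟩ := exists_affine_finset hF
    ⟨Points.ofPt f ⁻¹' (Points.ofPt g '' (↑Q : Set TZ.left)ᶜ)ᶜ,
      (hgc _ Q.isOpen.isClosed_compl).isOpen_compl.preimage (Points.continuous_ofPt f)⟩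
    (fun t ht => by
      rintro ⟨s', hs', e⟩
      exact hs' (hginj (e.trans ht) ▸ hsQ))
  -- the part of `V` over the closed subscheme
  let Vo : Over S := Over.mk (V.ι ≫ T.hom)
  let vι : Vo ⟶ T := Over.homMk V.ι rfl
  obtain ⟨ZV, z₁', z₂, sqZ, hz₂⟩ := exists_repWith hg ((yon S).map vι ≫ f)
  obtain ⟨z₁, rfl⟩ := exists_map_eq z₁'
  have : IsClosedImmersion z₂.left := hz₂
  have : IsAffine Vo.left := hV
  have hzQ : (⊤ : ZV.left.Opens) ≤ z₁.left ⁻¹ᵁ Q := fun z _ => by
    by_contra hz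
    have h1 := hVN (z₂.left z).2
    refine h1 ⟨z₁.left z, hz, ?_⟩
    rw [← ofPt_comp, sqZ.w, ofPt_comp, ofPt_comp]
    rfl
  have hE : IsClosed (Points.ofPt g ⁻¹' (Points.ofPt f '' (↑V : Set T.left)ᶜ)) :=
    (hfc _ V.isOpen.isClosed_compl).preimage (Points.continuous_ofPt g)
  obtain ⟨a₀, ha₀, hsa₀⟩ := hQ.exists_basicOpen_le (V := ⟨_, hE.isOpen_compl⟩) ⟨s, (by
    rintro ⟨t, ht, e⟩
    exact ht (hFV e))⟩ hsQ
  obtain ⟨b, hb⟩ := Scheme.Hom.app_surjective z₂.left ⊤ (isAffineOpen_top _) (z₁.left.appLE Q (z₂.left ⁻¹ᵁ ⊤) hzQ a₀)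
  have hbz : ∀ z : ZV.left, z₂.left z ∈ Vo.left.basicOpen b ↔ z₁.left z ∈ TZ.left.basicOpen a₀ := fun z => by
    show z ∈ z₂.left ⁻¹ᵁ Vo.left.basicOpen b ↔ _
    rw [Scheme.preimage_basicOpen, hb, Scheme.basicOpen_appLE]
    exact ⟨fun h => h.2, fun h => ⟨trivial, h⟩⟩
  have hpt : ∀ (t : T.left) (ht : t ∈ V) (q : TZ.left), Points.ofPt f t = Points.ofPt g q →
      ((⟨t, ht⟩ : V.toScheme) ∈ Vo.left.basicOpen b ↔ q ∈ TZ.left.basicOpen a₀) := fun t ht q e => by
    obtain ⟨z, hz1, hz2⟩ := exists_point_of_isPullback_yon sqZ q (⟨t, ht⟩ : V.toScheme) (by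
      rw [ofPt_comp]
      exact e.symm)
    rw [← hz1, ← hbz, hz2]
  refine ⟨V.ι ''ᵁ Vo.left.basicOpen b, ((isAffineOpen_top Vo.left).basicOpen b).image_of_isOpenImmersion V.ι,
    fun t ht => ⟨⟨t, hFV ht⟩, (hpt t (hFV ht) s ht).2 hsa₀, rfl⟩, fun t t' e hr ht => ?_⟩
  obtain ⟨⟨t, htV⟩, htb, rfl⟩ := ht
  obtain ⟨q, hq⟩ := hr
  have hqa : q ∈ TZ.left.basicOpen a₀ := (hpt t htV q hq.symm).1 htb
  have ht'V : t' ∈ V := by
    by_contra h
    exact ha₀ hqa ⟨t', h, e.symm.trans hq.symm⟩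
  exact ⟨⟨t', ht'V⟩, (hpt t' ht'V q (e.symm.trans hq.symm)).2 hqa, rfl⟩

set_option maxHeartbeats 800000 in
/-- neighbourhoods are affine when a cover sees whole fibres away from a closed subscheme -/
theorem exists_affine_nhd_of_exhaust {Y : Sp S} (hY : IsAlgSpace Y) {T U TZ : Over S} [T.left.IsQuasiAffine]
    {f : (yon S).obj T ⟶ Y} (hf : RepWith @IsFinite f) {a : (yon S).obj U ⟶ Y} (has : RepWith @Surjective a)
    {g : (yon S).obj TZ ⟶ Y} (hg : RepWith @IsClosedImmersion g) {C : Over S} {πC : (yon S).obj C ⟶ Y}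
    (hπC : RepWith @IsFinite πC) (hπs : Function.Surjective (Points.ofPt πC)) {n : ℕ} (q : Fin (n + 1) → (C ⟶ T))
    (hqa : ∀ i, IsAffineHom (q i).left) (hqc : ∀ i, (yon S).map (q i) ≫ f = πC)
    (hex : ∀ (c : C.left) (t : T.left), Points.ofPt πC c ∉ Set.range (Points.ofPt g) →
      Points.ofPt f t = Points.ofPt πC c → ∃ i, (q i).left c = t) (x : Points Y) :
    ∃ W : Set (Points Y), IsOpen W ∧ x ∈ W ∧ IsAff (subSheaf W) := by
  obtain ⟨V, hV, hFV, hsat⟩ := exists_affine_saturated hY hf has hg x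
  let W : Set (Points Y) := (Points.ofPt f '' (↑V : Set T.left)ᶜ)ᶜ
  have hW : IsOpen W := (isClosedMap_ofPt_of_univClosed hY (repWith_mono (fun _ _ r hr => by
    have : IsFinite r := hr
    exact (inferInstance : UniversallyClosed r)) hf) _ V.isOpen.isClosed_compl).isOpen_compl
  have hxW : x ∈ W := by
    rintro ⟨t, ht, e⟩
    exact ht (hFV t e)
  refine ⟨W, hW, hxW, ?_⟩
  let O : C.left.Opens := ⨅ i, (q i).left ⁻¹ᵁ V
  have hOmem : ∀ c, c ∈ O ↔ ∀ i, (q i).left c ∈ V := fun c => by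
    show c ∈ (↑(⨅ i, (q i).left ⁻¹ᵁ V : C.left.Opens) : Set C.left) ↔ _
    rw [TopologicalSpace.Opens.coe_iInf]
    simp
  have hOW : Points.ofPt πC ⁻¹' W = (O : Set C.left) := by
    ext c
    have hf' : ∀ i, Points.ofPt f ((q i).left c) = Points.ofPt πC c := fun i => by rw [← ofPt_comp, hqc]
    refine ⟨fun h => (hOmem c).2 fun i => by_contra fun hi => h ⟨_, hi, hf' i⟩, fun h => ?_⟩
    rintro ⟨t, ht, e⟩
    by_cases hr : Points.ofPt πC c ∈ Set.range (Points.ofPt g)
    · exact ht (hsat _ t ((hf' 0).trans e.symm) (by rwa [hf' 0]) ((hOmem c).1 h 0))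
    · obtain ⟨i, rfl⟩ := hex c t hr e
      exact ht ((hOmem c).1 h i)
  have hsub := isAlgSpace_subSheaf hY hW
  obtain ⟨g₀, hg₀⟩ := exists_factor_subInc (W := W)
    ((yon S).map (Over.homMk O.ι rfl : Over.mk (O.ι ≫ C.hom) ⟶ C) ≫ πC) fun y => by
      obtain ⟨v, rfl⟩ := (Points.schemeHomeo _).surjective y
      rw [← ofPt_eq_map, ofPt_comp]
      exact (hOW.symm ▸ v.2 : v.1 ∈ Points.ofPt πC ⁻¹' W)
  have hg₀f : RepWith @IsFinite g₀ :=
    repWith_baseChange (isPullback_subInc_of_preimage hW O hOW hg₀) hπC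
  have : IsSeparated (terminal.from T.left) := inferInstance
  have := hqa 0
  have : IsSeparated (terminal.from C.left) := by
    rw [show terminal.from C.left = (q 0).left ≫ terminal.from T.left from Subsingleton.elim _ _]
    infer_instance
  have hO : IsAffineOpen O := IsAffineOpen.iInf fun i =>
    have := hqa i
    hV.preimage (q i).left
  refine isAff_of_univClosed_surj hsub ⟨Over.mk (O.ι ≫ C.hom), hO, ⟨Iso.refl _⟩⟩ g₀ ((isUnivClosedMor_iff_repWith hg₀f.1).2
    (repWith_mono (fun _ _ r hr => by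
      have : IsFinite r := hr
      exact (inferInstance : UniversallyClosed r)) hg₀f)) fun w => ?_
  obtain ⟨c, hc⟩ := hπs (Points.map (subInc W) w)
  have hcO : c ∈ O := by
    show c ∈ (O : Set C.left)
    rw [← hOW]
    show Points.ofPt πC c ∈ W
    rw [hc]
    exact map_subInc_mem w
  refine ⟨Points.schemeHomeo _ (⟨c, hcO⟩ : O.toScheme), SchImg.injective_map_of_mono (i := subInc W) ?_⟩
  rw [← Points.map_comp, hg₀, ← ofPt_eq_map, ofPt_comp, ← hc]
  rfl

end Groth.Agent.SpChev
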