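import Groth.Agent.SpChev.Main
import Groth.Agent.AlgSpLib.ShriekEqv
import Groth.Agent.AlgSpLib.RepUniv

/-!
# Chevalley's theorem over an arbitrary base
-/

set_option autoImplicit false
set_option linter.style.haveILetI false

universe u

open CategoryTheory CategoryTheory.Limits AlgebraicGeometry

set_option backward.isDefEq.respectTransparency false

namespace Groth.Agent.SpChev

open _root_.AlgSp Groth.Agent.AlgSpLib

variable {S : Scheme.{u}}

/-- being affine is seen over the terminal base -/
theorem isAff_of_jFun {Y : Sp S} (h : IsAff ((ShriekS.jFun (terminal.from S)).obj Y)) : IsAff Y := by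
  let g := terminal.from S
  obtain ⟨T'', hT'', ⟨θ⟩⟩ := h
  obtain ⟨m, hm⟩ := exists_map_eq (θ.hom ≫ ShriekS.jπ g Y)
  let T₁ : Over S := Over.mk m.left
  have : IsAffine T₁.left := hT''
  let ε : (Over.map g).obj T₁ ≅ T'' := Over.isoMk (Iso.refl _) (terminalIsTerminal.hom_ext _ _)
  let β := (ShriekS.jYonIso g T₁).inv ≫ (yon _).map ε.hom ≫ θ.hom
  have hβ : β ≫ ShriekS.jπ g Y = ShriekS.jπ g ((yon S).obj T₁) := by
    have h1 : (ShriekS.jYonIso g T₁).hom ≫ ShriekS.jπ g ((yon S).obj T₁) = (yon _).map (ε.hom ≫ m) := by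
      ext W ⟨f⟩
      refine ULift.ext _ _ (Over.OverMorphism.ext ?_)
      show f.left ≫ m.left = f.left ≫ 𝟙 _ ≫ m.left
      rw [Category.id_comp]
    simp only [β, Category.assoc]
    rw [← hm, ← Functor.map_comp, ← h1, Iso.inv_hom_id_assoc]
  obtain ⟨α, hα⟩ := ShriekS.exists_jFun_eq g β hβ
  have : IsIso α := (isIso_iff_repWith α).2
    ((ShriekS.repWith_jFun_iff g (MorphismProperty.isomorphisms Scheme.{u}) α).1
      ((isIso_iff_repWith _).1 (by rw [hα]; infer_instance)))
  exact ⟨T₁, inferInstance, ⟨asIso α⟩⟩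

/-- the image of an affine scheme under a universally closed map is affine, over a terminal base -/
theorem isAff_of_univClosed_surj_terminal (hS : IsTerminal S) {Y : Sp S} (hYa : IsAlgSpace Y) {W : Over S}
    [IsAffine W.left] (f : (yon S).obj W ⟶ Y) (hc : IsUnivClosedMor f) (hs : IsSurjectiveMor f) : IsAff Y := by
  obtain ⟨hY, -⟩ := separated_of_image hS hYa f hc hs
  have hint : RepWith @IsIntegralHom f := (isIntegralMor_iff_repWith f).1 ((isIntegralMor_iff f).2
    ⟨(isAffineMor_iff_repWith f).2 (repWith_affine_of_affine hS hY f), hc⟩)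
  exact isAff_of_integral_surj hS hYa hY hint (repWith_surjective_of_isSurjectiveMor hint.1 hs)

/-- Chevalley: the image of an affine scheme under a universally closed map is affine -/
theorem isAff_of_univClosed_surj {X Y : Sp S} (hYa : IsAlgSpace Y) (hX : IsAff X) (f : X ⟶ Y)
    (hc : IsUnivClosedMor f) (hs : IsSurjectiveMor f) : IsAff Y := by
  obtain ⟨T, hT, ⟨e⟩⟩ := hX
  let g := terminal.from S
  have hr : Representable (e.hom ≫ f) := Functor.relativelyRepresentable.of_diag hYa.diag _
  have hre : Representable f := by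
    have h := (repWith_iso_comp_iff (P := ⊤) e.hom f).1 ⟨hr, fun _ _ _ _ _ _ => trivial⟩
    exact h.1
  have hc' : RepWith @UniversallyClosed (e.hom ≫ f) :=
    (repWith_iso_comp_iff _ _).2 ((isUnivClosedMor_iff_repWith hre).1 hc)
  have hs' : RepWith @Surjective (e.hom ≫ f) :=
    (repWith_iso_comp_iff _ _).2 (repWith_surjective_of_isSurjectiveMor hre hs)
  have h1 := (repWith_iso_comp_iff (ShriekS.jYonIso g T).hom _).2 ((ShriekS.repWith_jFun_iff g _ _).2 hc')
  have h2 := (repWith_iso_comp_iff (ShriekS.jYonIso g T).hom _).2 ((ShriekS.repWith_jFun_iff g _ _).2 hs')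
  have : IsAffine ((Over.map g).obj T).left := ‹IsAffine T.left›
  exact isAff_of_jFun (isAff_of_univClosed_surj_terminal terminalIsTerminal (ShriekS.isAlgSpace_jFun g hYa) _
    ((isUnivClosedMor_iff_repWith h1.1).2 h1) (isSurjectiveMor_of_repWith h2))

end Groth.Agent.SpChev
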