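import Groth.Agent.SpChev.Results
import Groth.Agent.AlgSpLib.Glue

/-!
# Spaces receiving bijective integral maps from schemes are schemes
-/

set_option autoImplicit false
set_option linter.style.haveILetI false

universe u

open CategoryTheory CategoryTheory.Limits AlgebraicGeometry Topology

set_option backward.isDefEq.respectTransparency false

namespace Groth.Agent.SpChev

open _root_.AlgSp Groth.Agent.AlgSpLib

variable {S : Scheme.{u}}

/-- a space receiving an integral bijective map from a scheme is a scheme -/
theorem exists_iso_yon_of_bijective {V' : Sp S} (hV' : IsAlgSpace V') {V : Over S} (c : (yon S).obj V ⟶ V')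
    (hc : RepWith @IsIntegralHom c) (hb : Function.Bijective (Points.map c)) :
    ∃ W : Over S, Nonempty (V' ≅ (yon S).obj W) := by
  have hclosed : IsClosedMap (Points.map c) :=
    ((isUnivClosedMor_iff_repWith hc.1).2 (repWith_mono (fun _ _ r hr => by
      have : IsIntegralHom r := hr
      exact (inferInstance : UniversallyClosed r)) hc)) hV' (𝟙 _) (𝟙 _) c IsPullback.of_id_fst
  have hopen : ∀ {B : Set (Points V')}, IsOpen (Points.map c ⁻¹' B) → IsOpen B := fun {B} h =>
    ((hclosed.isQuotientMap (Points.continuous_map c) hb.2).isOpen_preimage).1 h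
  have hinj : Function.Injective (Points.ofPt c) := fun x y e => (Points.schemeHomeo V).injective (hb.1 (by
    show Points.map c (Points.ofScheme V x) = Points.map c (Points.ofScheme V y)
    rw [← Points.ofPt_eq_map_ofScheme, ← Points.ofPt_eq_map_ofScheme, e]))
  choose A hA hxA _ using fun x : ↥V.left => exists_isAffineOpen_mem_and_subset (X := V.left) (x := x) (U := ⊤) trivial
  have hO : ∀ x, IsOpen (Points.ofPt c '' (A x : Set V.left)) := fun x => hopen (by
    have : Points.map c ⁻¹' (Points.ofPt c '' (A x : Set V.left)) = Points.schemeHomeo V '' (A x : Set V.left) := by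
      ext p
      obtain ⟨v, rfl⟩ := (Points.schemeHomeo V).surjective p
      rw [Set.mem_preimage, show Points.map c (Points.schemeHomeo V v) = Points.ofPt c v from
        (Points.ofPt_eq_map_ofScheme c v).symm, hinj.mem_set_image, (Points.schemeHomeo V).injective.mem_set_image]
    rw [this]
    exact (Points.schemeHomeo V).isOpenMap _ (A x).2)
  have key : ∀ x, ∃ W : Over S, Nonempty (subSheaf (Points.ofPt c '' (A x : Set V.left)) ≅ (yon S).obj W) := fun x => by
    let O := Points.ofPt c '' (A x : Set V.left)
    have hj : RepWith @IsOpenImmersion (subInc O) := repWith_subInc (hO x)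
    have hQ : IsAlgSpace (subSheaf O) := isAlgSpace_subSheaf hV' (hO x)
    obtain ⟨V₁, c₁, i, sq₁, hi⟩ := exists_repWith hj c
    have : IsOpenImmersion i.left := hi
    have hri : Set.range i.left = A x := by
      ext v
      constructor
      · rintro ⟨z, rfl⟩
        rw [SetLike.mem_coe, ← SetLike.mem_coe, ← hinj.mem_set_image, ← ofPt_comp]
        rw [← sq₁.w, ← Points.map_ofPt]
        exact map_subInc_mem _
      · intro hv
        obtain ⟨y, hy⟩ : Points.ofPt c v ∈ Set.range (Points.map (subInc O)) := by
          rw [range_subInc]; exact ⟨v, hv, rfl⟩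
        obtain ⟨p, -, hp⟩ := exists_point_of_isPullback sq₁ y (Points.ofScheme V v) (by
          rw [hy, Points.ofPt_eq_map_ofScheme c v])
        obtain ⟨z, rfl⟩ := (Points.schemeHomeo V₁).surjective p
        rw [Points.map_yon_map_apply] at hp
        exact ⟨z, (Points.schemeHomeo V).injective hp⟩
    have : IsAffine V₁.left := by
      have hr : i.left.opensRange = A x := TopologicalSpace.Opens.ext hri
      have : IsAffine (A x).toScheme := hA x
      exact .of_isIso (IsOpenImmersion.isoOfRangeEq i.left (A x).ι (by rw [hri, Scheme.Opens.range_ι])).hom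
    have hc₁ : RepWith @IsIntegralHom c₁ := repWith_baseChange sq₁.flip hc
    obtain ⟨W₁, -, ⟨e₁⟩⟩ := isAff_of_univClosed_surj hQ ⟨V₁, ‹_›, ⟨Iso.refl _⟩⟩ c₁
      ((isUnivClosedMor_iff_repWith hc₁.1).2 (repWith_mono (fun _ _ r hr => by
        have : IsIntegralHom r := hr
        exact (inferInstance : UniversallyClosed r)) hc₁)) (isSurjectiveMor_baseChange sq₁.flip hb.2)
    exact ⟨W₁, ⟨e₁.symm⟩⟩
  choose W hW using key
  obtain ⟨W', ⟨e⟩⟩ := exists_iso_yon_of_open_cover hV' W (fun x => (hW x).some.inv ≫ subInc _)
    (fun x => (repWith_iso_comp_iff _ _).2 (repWith_subInc (hO x))) fun p => by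
      obtain ⟨q, rfl⟩ := hb.2 p
      obtain ⟨v, rfl⟩ := (Points.schemeHomeo V).surjective q
      obtain ⟨y, hy⟩ : Points.map c (Points.schemeHomeo V v) ∈
          Set.range (Points.map (subInc (Points.ofPt c '' (A v : Set V.left)))) := by
        rw [range_subInc]
        exact ⟨v, hxA v, Points.ofPt_eq_map_ofScheme c v⟩
      refine ⟨v, Points.map (hW v).some.hom y, ?_⟩
      rw [← Points.map_comp, Iso.hom_inv_id_assoc, hy]
  exact ⟨W', ⟨e⟩⟩

end Groth.Agent.SpChev
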