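import Groth.Agent.SpChev.Basic
import Groth.Agent.SpThick.Closed
import Groth.Agent.SpDesc.AffStage
import Groth.Agent.SpDesc.Results
import Groth.Agent.AlgSpLib.QSChart

/-!
# Closed subspaces of a separated space; affineness along a directed family
-/

set_option autoImplicit false
set_option linter.style.haveILetI false

universe u

open CategoryTheory CategoryTheory.Limits AlgebraicGeometry

set_option backward.isDefEq.respectTransparency false

namespace Groth.Agent.SpChev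

open _root_.AlgSp Groth.Agent.AlgSpLib

variable {S : Scheme.{u}}

/-- closed subspaces of separated quasi-compact spaces -/
theorem good_of_closed {Y Z : Sp S} (hYa : IsAlgSpace Y) (hY : IsSeparatedSp Y) (hq : IsQuasiCompactSp Y)
    {i : Z ⟶ Y} (hi : RepWith @IsClosedImmersion i) :
    IsAlgSpace Z ∧ IsSeparatedSp Z ∧ IsQuasiCompactSp Z ∧ IsQuasiSeparatedSp Z := by
  have hZ := SchImg.isAlgSpace_of_closed hYa hi
  have := SchImg.mono_of_closed hi
  have hZs : IsSeparatedSp Z := by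
    refine (isSeparatedSp_iff_mor (SpQS.baseStr Z)).2 ?_
    rw [show SpQS.baseStr Z = i ≫ SpQS.baseStr Y from SpQS.isTerminalBase.hom_ext _ _]
    exact isSeparatedMor_comp (UnivInjMor.isSeparatedMor_of_mono i) ((isSeparatedSp_iff_mor _).1 hY)
  have hqs : IsQuasiSeparatedSp Y := repWith_mono (fun _ _ r hr => by
    have : IsClosedImmersion r := hr
    infer_instance) hY
  obtain ⟨h1, h2⟩ := SpDesc.qcqs_of_affine hZ hYa (a := i) (repWith_mono (fun _ _ r hr => by
    have : IsClosedImmersion r := hr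
    exact (inferInstance : IsAffineHom r)) hi) hq hqs
  exact ⟨hZ, hZs, h1, h2⟩

set_option maxHeartbeats 4000000 in
/-- if the union of a directed family of invariant ideals cuts out an affine subspace, some member does -/
theorem exists_isAff_stage (hS : IsTerminal S) {Y : Sp S} (hYa : IsAlgSpace Y) (hY : IsSeparatedSp Y)
    (hq : IsQuasiCompactSp Y) {U R : Over S} [IsAffine U.left] {π : (yon S).obj U ⟶ Y}
    (hπe : RepWith @Etale π) (hπs : RepWith @Surjective π) {p₁ p₂ : R ⟶ U}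
    (sqR : IsPullback ((yon S).map p₁) ((yon S).map p₂) π π)
    {κ : Type u} [Nonempty κ] (I : κ → U.left.IdealSheafData) (hdir : ∀ a b, ∃ c, I a ≤ I c ∧ I b ≤ I c)
    (hinv : ∀ k, (I k).comap p₁.left = (I k).comap p₂.left) {X : Sp S} {i : X ⟶ Y}
    (hi : RepWith @IsClosedImmersion i) {J : U.left.IdealSheafData} (hJ : SchImg.IsPullIdeal i π J)
    (hIJ : ∀ k, I k ≤ J)
    (hcov : ∀ x ∈ J.ideal ⟨⊤, isAffineOpen_top U.left⟩, ∃ k, x ∈ (I k).ideal ⟨⊤, isAffineOpen_top U.left⟩)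
    (hXaff : IsAff X) :
    ∃ k, ∀ ⦃Z : Sp S⦄ (iZ : Z ⟶ Y), RepWith @IsClosedImmersion iZ → SchImg.IsPullIdeal iZ π (I k) → IsAff Z := by
  have := isAffine_base hS
  obtain ⟨T, hT, ⟨e⟩⟩ := hXaff
  letI : Preorder κ := Preorder.lift I
  have hst : ∀ k, ∃ (Z : Sp S) (iZ : Z ⟶ Y), IsAlgSpace Z ∧ RepWith @IsClosedImmersion iZ ∧
      SchImg.IsPullIdeal iZ π (I k) := fun k => SchImg.exists_closedSub hYa hπe hπs sqR (I k) (hinv k)
  choose Zs iZ hZa hiZ hiK using hst
  have hmono : ∀ k, Mono (iZ k) := fun k => SchImg.mono_of_closed (hiZ k)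
  have hle : ∀ {a b : κᵒᵈ} (_ : a ⟶ b),
      ∃ f : Zs (OrderDual.ofDual a) ⟶ Zs (OrderDual.ofDual b), f ≫ iZ _ = iZ _ := fun {a b} φ =>
    SchImg.exists_factor_of_le (hiZ _) (hZa _) hYa hπe hπs (hiK _)
      ((show I (OrderDual.ofDual b) ≤ I (OrderDual.ofDual a) from leOfHom φ).trans (hiK _).le_kerIdeal_self)
  choose mp hmp using @hle
  let D : κᵒᵈ ⥤ Sp S :=
    { obj := fun a => Zs (OrderDual.ofDual a)
      map := fun φ => mp φ
      map_id := fun a => (cancel_mono (iZ _)).1 (by rw [hmp, Category.id_comp])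
      map_comp := fun φ ψ => (cancel_mono (iZ _)).1 (by rw [hmp, Category.assoc, hmp, hmp]) }
  have hD : ∀ {a b : κᵒᵈ} (φ : a ⟶ b), D.map φ ≫ iZ (OrderDual.ofDual b) = iZ (OrderDual.ofDual a) := @hmp
  have hX : IsAlgSpace X := SchImg.isAlgSpace_of_closed hYa hi
  have hf : ∀ k, ∃ f : X ⟶ Zs k, f ≫ iZ k = i := fun k =>
    SchImg.exists_factor_of_le (hiZ k) hX hYa hπe hπs (hiK k) ((hIJ k).trans hJ.le_kerIdeal_self)
  choose f hf using hf
  let c : Cone D :=
    { pt := X
      π := { app := fun a => f (OrderDual.ofDual a)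
             naturality := fun a b φ => (cancel_mono (iZ _)).1 (by
              show (𝟙 X ≫ f _) ≫ _ = (f _ ≫ D.map φ) ≫ _
              rw [Category.id_comp, hf, Category.assoc, hD, hf]) } }
  have hmi : Mono i := SchImg.mono_of_closed hi
  let a₀ : κᵒᵈ := OrderDual.toDual (Classical.arbitrary κ)
  have : Nonempty κᵒᵈ := ⟨a₀⟩
  have : IsCodirectedOrder κᵒᵈ := ⟨fun a b =>
    let ⟨c, hc₁, hc₂⟩ := hdir (OrderDual.ofDual a) (OrderDual.ofDual b)
    ⟨OrderDual.toDual c, hc₁, hc₂⟩⟩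
  have hlift : ∀ s : Cone D, ∃ l : s.pt ⟶ X, l ≫ i = s.π.app a₀ ≫ iZ (OrderDual.ofDual a₀) := fun s => by
    have hconst : ∀ a, s.π.app a ≫ iZ (OrderDual.ofDual a) = s.π.app a₀ ≫ iZ (OrderDual.ofDual a₀) := fun a => by
      have : ∀ (c d : κᵒᵈ) (φ : c ⟶ d), s.π.app d ≫ iZ (OrderDual.ofDual d) =
          s.π.app c ≫ iZ (OrderDual.ofDual c) := fun c d φ => by rw [← s.w φ, Category.assoc, hD]
      rw [this (IsCofiltered.min a a₀) a (IsCofiltered.minToLeft a a₀),
        this (IsCofiltered.min a a₀) a₀ (IsCofiltered.minToRight a a₀)]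
    refine SpQS.exists_lift_mono _ i fun T' y => ?_
    refine SchImg.exists_factor_of_le hi (IsAlgSpace.yon_obj T') hYa hπe hπs hJ ?_
    refine (SchImg.kills_iff _ π _).1 fun T'' w' α h' => ?_
    rw [SchImg.comap_eq_bot_iff]
    refine Scheme.IdealSheafData.le_of_isAffine fun x hx => ?_
    obtain ⟨k, hk⟩ := hcov x hx
    refine ((SchImg.comap_eq_bot_iff _ _).1
      ((hiK k α).1 ⟨w' ≫ y ≫ s.π.app (OrderDual.toDual k), ?_⟩)) _ hk
    rw [Category.assoc, Category.assoc]
    exact (congrArg (fun k => w' ≫ y ≫ k) (hconst (OrderDual.toDual k))).trans h'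
  choose l hl using hlift
  have hc : IsLimit c :=
    { lift := l
      fac := fun s a => (cancel_mono (iZ (OrderDual.ofDual a))).1 (by
        show (l s ≫ f _) ≫ _ = _
        rw [Category.assoc, hf, hl]
        rw [← s.w (IsCofiltered.minToLeft a a₀), ← s.w (IsCofiltered.minToRight a a₀), Category.assoc,
          Category.assoc, hD, hD])
      uniq := fun s m hm => (cancel_mono i).1 (by
        rw [hl, ← hm a₀]
        show _ = (m ≫ f _) ≫ _
        rw [Category.assoc, hf]) }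
  obtain ⟨a, ha⟩ := SpDesc.exists_affine_stage D (fun a => hZa _)
    (fun a b φ => (isAffineMor_iff_repWith _).2 (repWith_mono (fun _ _ r hr => by
      have : IsClosedImmersion r := hr
      infer_instance) (repWith_of_comp_mono (m := iZ (OrderDual.ofDual b)) (by rw [hD]; exact hiZ _))))
    c hc a₀ (good_of_closed hYa hY hq (hiZ _)).2.2.1
    (fun a => (good_of_closed hYa hY hq (hiZ _)).2.2.2) e
  obtain ⟨T₁, hT₁, ⟨e₁⟩⟩ := ha a (𝟙 a)
  refine ⟨OrderDual.ofDual a, fun Z iZ' hZ hI' => ?_⟩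
  obtain ⟨e₂⟩ := nonempty_iso_of_pullIdeal hYa hπe hπs (hiZ _) hZ (hiK _) hI'
  exact ⟨T₁, hT₁, ⟨e₁ ≪≫ e₂⟩⟩

end Groth.Agent.SpChev
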