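import Groth.Agent.SpChev.Results
import Groth.Agent.SpChev.Chain
import Groth.Agent.SpDesc.SchemeStage
import Groth.Agent.SpThick.Main
import Groth.Agent.LqfRep.Main

/-!
# Minimal closed subspaces which are not schemes
-/

set_option autoImplicit false
set_option linter.style.haveILetI false

universe u

open CategoryTheory CategoryTheory.Limits AlgebraicGeometry

set_option backward.isDefEq.respectTransparency false

namespace Groth.Agent.SpChev

open _root_.AlgSp Groth.Agent.AlgSpLib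

variable {S : Scheme.{u}}

/-- isomorphic to a scheme over the base -/
def IsSch (Y : Sp S) : Prop := ∃ T : Over S, Nonempty ((yon S).obj T ≅ Y)

theorem IsSch.of_iso {X Y : Sp S} (h : IsSch X) (e : X ≅ Y) : IsSch Y :=
  let ⟨T, ⟨a⟩⟩ := h
  ⟨T, ⟨a ≪≫ e⟩⟩

theorem isSch_iff {Y : Sp S} : IsSch Y ↔ Y.obj.IsRepresentable :=
  ⟨fun ⟨_, ⟨e⟩⟩ => LqfRep.isRepresentable_of_iso e.symm, SpDesc.exists_yon_iso⟩

theorem IsAff.isSch {Y : Sp S} (h : IsAff Y) : IsSch Y :=
  let ⟨T, _, hT⟩ := h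
  ⟨T, hT⟩

theorem IsSch.of_closed {Y Z : Sp S} (h : IsSch Y) {i : Z ⟶ Y} (hi : RepWith @IsClosedImmersion i) : IsSch Z := by
  obtain ⟨T, ⟨e⟩⟩ := h
  obtain ⟨V, v₁, v₂, sq, -⟩ := exists_repWith hi e.hom
  have := sq.isIso_fst_of_isIso
  exact ⟨V, ⟨asIso v₁⟩⟩

theorem qcqs_of_closed {Y Z : Sp S} (hYa : IsAlgSpace Y) (hq : IsQuasiCompactSp Y) (hqs : IsQuasiSeparatedSp Y)
    {i : Z ⟶ Y} (hi : RepWith @IsClosedImmersion i) :
    IsAlgSpace Z ∧ IsQuasiCompactSp Z ∧ IsQuasiSeparatedSp Z :=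
  ⟨SchImg.isAlgSpace_of_closed hYa hi, SpDesc.qcqs_of_affine (SchImg.isAlgSpace_of_closed hYa hi) hYa (a := i)
    (repWith_mono (fun _ _ r hr => by
      have : IsClosedImmersion r := hr
      exact (inferInstance : IsAffineHom r)) hi) hq hqs⟩

set_option maxHeartbeats 4000000 in
/-- if the union of a directed family of invariant ideals cuts out a scheme, some member does -/
theorem exists_isSch_stage [QuasiSeparatedSpace ↥S] {Y : Sp S} (hYa : IsAlgSpace Y)
    (hq : IsQuasiCompactSp Y) (hqs : IsQuasiSeparatedSp Y) {U R : Over S} [IsAffine U.left]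
    {π : (yon S).obj U ⟶ Y}
    (hπe : RepWith @Etale π) (hπs : RepWith @Surjective π) {p₁ p₂ : R ⟶ U}
    (sqR : IsPullback ((yon S).map p₁) ((yon S).map p₂) π π)
    {κ : Type u} [Nonempty κ] (I : κ → U.left.IdealSheafData) (hdir : ∀ a b, ∃ c, I a ≤ I c ∧ I b ≤ I c)
    (hinv : ∀ k, (I k).comap p₁.left = (I k).comap p₂.left) {X : Sp S} {i : X ⟶ Y}
    (hi : RepWith @IsClosedImmersion i) {J : U.left.IdealSheafData} (hJ : SchImg.IsPullIdeal i π J)
    (hIJ : ∀ k, I k ≤ J)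
    (hcov : ∀ x ∈ J.ideal ⟨⊤, isAffineOpen_top U.left⟩, ∃ k, x ∈ (I k).ideal ⟨⊤, isAffineOpen_top U.left⟩)
    (hXsch : IsSch X) :
    ∃ k, ∀ ⦃Z : Sp S⦄ (iZ : Z ⟶ Y), RepWith @IsClosedImmersion iZ → SchImg.IsPullIdeal iZ π (I k) → IsSch Z := by
  obtain ⟨T, ⟨e⟩⟩ := hXsch
  letI : Preorder κ := Preorder.lift I
  have hst : ∀ k, ∃ (Z : Sp S) (iZ : Z ⟶ Y), IsAlgSpace Z ∧ RepWith @IsClosedImmersion iZ ∧
      SchImg.IsPullIdeal iZ π (I k) := fun k => SchImg.exists_closedSub hYa hπe hπs sqR (I k) (hinv k)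
  choose Zs iZ hZa hiZ hiK using hst
  have hmono : ∀ k, Mono (iZ k) := fun k => SchImg.mono_of_closed (hiZ k)
  have hle : ∀ {a b : κᵒᵈ} (_ : a ⟶ b),
      ∃ f : Zs (OrderDual.ofDual a) ⟶ Zs (OrderDual.ofDual b), f ≫ iZ _ = iZ _ := fun {a b} φ =>
    SchImg.exists_factor_of_le (hiZ _) (hZa _) hYa hπe hπs (hiK _)
      ((show I (OrderDual.ofDual b) ≤ I (OrderDual.ofDual a) from leOfHom φ).trans (hiK _).le_kerIdeal_self)
  choose mp hmp using @hle
  let D : κᵒᵈ ⥤ Sp S :=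
    { obj := fun a => Zs (OrderDual.ofDual a)
      map := fun φ => mp φ
      map_id := fun a => (cancel_mono (iZ _)).1 (by rw [hmp, Category.id_comp])
      map_comp := fun φ ψ => (cancel_mono (iZ _)).1 (by rw [hmp, Category.assoc, hmp, hmp]) }
  have hD : ∀ {a b : κᵒᵈ} (φ : a ⟶ b), D.map φ ≫ iZ (OrderDual.ofDual b) = iZ (OrderDual.ofDual a) := @hmp
  have hX : IsAlgSpace X := SchImg.isAlgSpace_of_closed hYa hi
  have hf : ∀ k, ∃ f : X ⟶ Zs k, f ≫ iZ k = i := fun k =>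
    SchImg.exists_factor_of_le (hiZ k) hX hYa hπe hπs (hiK k) ((hIJ k).trans hJ.le_kerIdeal_self)
  choose f hf using hf
  let c : Cone D :=
    { pt := X
      π := { app := fun a => f (OrderDual.ofDual a)
             naturality := fun a b φ => (cancel_mono (iZ _)).1 (by
              show (𝟙 X ≫ f _) ≫ _ = (f _ ≫ D.map φ) ≫ _
              rw [Category.id_comp, hf, Category.assoc, hD, hf]) } }
  have hmi : Mono i := SchImg.mono_of_closed hi
  let a₀ : κᵒᵈ := OrderDual.toDual (Classical.arbitrary κ)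
  have : Nonempty κᵒᵈ := ⟨a₀⟩
  have : IsCodirectedOrder κᵒᵈ := ⟨fun a b =>
    let ⟨c, hc₁, hc₂⟩ := hdir (OrderDual.ofDual a) (OrderDual.ofDual b)
    ⟨OrderDual.toDual c, hc₁, hc₂⟩⟩
  have hlift : ∀ s : Cone D, ∃ l : s.pt ⟶ X, l ≫ i = s.π.app a₀ ≫ iZ (OrderDual.ofDual a₀) := fun s => by
    have hconst : ∀ a, s.π.app a ≫ iZ (OrderDual.ofDual a) = s.π.app a₀ ≫ iZ (OrderDual.ofDual a₀) := fun a => by
      have : ∀ (c d : κᵒᵈ) (φ : c ⟶ d), s.π.app d ≫ iZ (OrderDual.ofDual d) =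
          s.π.app c ≫ iZ (OrderDual.ofDual c) := fun c d φ => by rw [← s.w φ, Category.assoc, hD]
      rw [this (IsCofiltered.min a a₀) a (IsCofiltered.minToLeft a a₀),
        this (IsCofiltered.min a a₀) a₀ (IsCofiltered.minToRight a a₀)]
    refine SpQS.exists_lift_mono _ i fun T' y => ?_
    refine SchImg.exists_factor_of_le hi (IsAlgSpace.yon_obj T') hYa hπe hπs hJ ?_
    refine (SchImg.kills_iff _ π _).1 fun T'' w' α h' => ?_
    rw [SchImg.comap_eq_bot_iff]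
    refine Scheme.IdealSheafData.le_of_isAffine fun x hx => ?_
    obtain ⟨k, hk⟩ := hcov x hx
    refine ((SchImg.comap_eq_bot_iff _ _).1
      ((hiK k α).1 ⟨w' ≫ y ≫ s.π.app (OrderDual.toDual k), ?_⟩)) _ hk
    rw [Category.assoc, Category.assoc]
    exact (congrArg (fun k => w' ≫ y ≫ k) (hconst (OrderDual.toDual k))).trans h'
  choose l hl using hlift
  have hc : IsLimit c :=
    { lift := l
      fac := fun s a => (cancel_mono (iZ (OrderDual.ofDual a))).1 (by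
        show (l s ≫ f _) ≫ _ = _
        rw [Category.assoc, hf, hl]
        rw [← s.w (IsCofiltered.minToLeft a a₀), ← s.w (IsCofiltered.minToRight a a₀), Category.assoc,
          Category.assoc, hD, hD])
      uniq := fun s m hm => (cancel_mono i).1 (by
        rw [hl, ← hm a₀]
        show _ = (m ≫ f _) ≫ _
        rw [Category.assoc, hf]) }
  obtain ⟨a, W, ⟨eW⟩⟩ := SpDesc.exists_representable_stage D (fun a => hZa _)
    (fun a b φ => (isAffineMor_iff_repWith _).2 (repWith_mono (fun _ _ r hr => by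
      have : IsClosedImmersion r := hr
      infer_instance) (repWith_of_comp_mono (m := iZ (OrderDual.ofDual b)) (by rw [hD]; exact hiZ _))))
    (fun a => (qcqs_of_closed hYa hq hqs (hiZ _)).2.1) (fun a => (qcqs_of_closed hYa hq hqs (hiZ _)).2.2)
    c hc e
  refine ⟨OrderDual.ofDual a, fun Z iZ' hZ hI' => ?_⟩
  obtain ⟨e₂⟩ := nonempty_iso_of_pullIdeal hYa hπe hπs (hiZ _) hZ (hiK _) hI'
  exact ⟨W, ⟨eW.symm ≪≫ e₂⟩⟩

set_option maxHeartbeats 2000000 in
/-- a qcqs space which is no scheme contains a minimal closed subspace which is no scheme -/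
theorem exists_minimal_nonscheme [QuasiSeparatedSpace ↥S] {Y : Sp S} (hYa : IsAlgSpace Y)
    (hq : IsQuasiCompactSp Y) (hqs : IsQuasiSeparatedSp Y) (hY0 : ¬ IsSch Y) :
    ∃ (Z : Sp S) (i : Z ⟶ Y), IsAlgSpace Z ∧ RepWith @IsClosedImmersion i ∧ ¬ IsSch Z ∧
      ∀ ⦃Z' : Sp S⦄ (i' : Z' ⟶ Z), RepWith @IsClosedImmersion i' → IsIso i' ∨ IsSch Z' := by
  classical
  have := compactSpace_of_isQuasiCompactSp hq
  obtain ⟨U, π, hU, hπe, hπs⟩ := exists_affine_chart_of_compact hYa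
  obtain ⟨R, p₁, p₂, sqR⟩ := exists_pullback hYa.diag π π
  let bad : Set U.left.IdealSheafData := {I | I.comap p₁.left = I.comap p₂.left ∧
    ∀ ⦃Z : Sp S⦄ (i : Z ⟶ Y), RepWith @IsClosedImmersion i → SchImg.IsPullIdeal i π I → ¬ IsSch Z}
  have hbot : (⊥ : U.left.IdealSheafData) ∈ bad := by
    refine ⟨by simp, fun Z i hi hI hZ => hY0 ?_⟩
    have := SpThick.isIso_of_bot hi hπe hπs hI
    exact hZ.of_iso (asIso i)
  obtain ⟨I, hbotI, hI⟩ := zorn_le_nonempty₀ bad (fun c hc hchain I₀ hI₀ => by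
    refine ⟨sSup c, ⟨?_, fun Z i hi hJ hZ => ?_⟩, fun I hI => le_sSup hI⟩
    · rw [SchImg.comap_sSup, SchImg.comap_sSup]
      exact iSup_congr fun I => iSup_congr fun hI => (hc hI).1
    · have : Nonempty c := ⟨⟨I₀, hI₀⟩⟩
      obtain ⟨k, hk⟩ := exists_isSch_stage hYa hq hqs hπe hπs sqR (κ := c) Subtype.val
        (fun a b => (hchain.total a.2 b.2).elim (fun h => ⟨b, h, le_rfl⟩) (fun h => ⟨a, le_rfl, h⟩))
        (fun k => (hc k.2).1) hi hJ (fun k => le_sSup k.2) (fun x hx => by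
          rw [sSup_eq_iSup', Scheme.IdealSheafData.ideal_iSup, iSup_apply] at hx
          refine (Submodule.mem_iSup_of_directed _ ?_).1 hx
          intro a b
          rcases hchain.total a.2 b.2 with h | h
          · exact ⟨b, h _, le_rfl⟩
          · exact ⟨a, le_rfl, h _⟩) hZ
      obtain ⟨Zk, ik, -, hik, hIk⟩ := SchImg.exists_closedSub hYa hπe hπs sqR k.1 (hc k.2).1
      exact (hc k.2).2 ik hik hIk (hk ik hik hIk)) ⊥ hbot
  obtain ⟨Z, i, hZa, hi, hIi⟩ := SchImg.exists_closedSub hYa hπe hπs sqR I hI.prop.1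
  refine ⟨Z, i, hZa, hi, hI.prop.2 i hi hIi, fun Z' i' hi' => ?_⟩
  have hcomp : RepWith @IsClosedImmersion (i' ≫ i) := repWith_comp hi' hi
  obtain ⟨I', hI'⟩ := SchImg.exists_pullIdeal hcomp π
  have hle : I ≤ I' := hI'.le_of_factor hIi i' rfl
  by_cases hbad : I' ∈ bad
  · left
    have heq : I = I' := le_antisymm hle (hI.le_of_ge hbad hle)
    obtain ⟨b, hb⟩ := SchImg.exists_factor_of_le hcomp hZa hYa hπe hπs hI'
      (heq ▸ hIi.le_kerIdeal_self)
    have := SchImg.mono_of_closed hi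
    have := SchImg.mono_of_closed hi'
    have hbi : b ≫ i' = 𝟙 Z := (cancel_mono i).1 (by rw [Category.assoc, hb, Category.id_comp])
    exact ⟨b, (cancel_mono i').1 (by rw [Category.assoc, hbi, Category.comp_id, Category.id_comp]), hbi⟩
  · right
    have hnot : ¬ ∀ ⦃Z : Sp S⦄ (i : Z ⟶ Y), RepWith @IsClosedImmersion i → SchImg.IsPullIdeal i π I' → ¬ IsSch Z :=
      fun h => hbad ⟨hI'.invariant sqR, h⟩
    push Not at hnot
    obtain ⟨Z'', i'', hi'', hI'', hZ''⟩ := hnot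
    exact hZ''.of_iso (nonempty_iso_of_pullIdeal hYa hπe hπs hi'' hcomp hI'' hI').some

end Groth.Agent.SpChev
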