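import Groth.Agent.SpChev.SchemeMin
import Groth.Agent.RelNorm.SigmaInt
import Groth.Agent.AlgSpLib.Glue
import Groth.Agent.AlgSpLib.PointMisc
import Groth.Agent.SchImg.ValPoint

/-!
# A space covered by two closed subschemes is a scheme
-/

set_option autoImplicit false
set_option linter.style.haveILetI false

universe u

open CategoryTheory CategoryTheory.Limits AlgebraicGeometry

set_option backward.isDefEq.respectTransparency false

namespace Groth.Agent.SpChev

open _root_.AlgSp Groth.Agent.AlgSpLib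

variable {S : Scheme.{u}}

theorem isClosedMap_map_of_closed {Y Z : Sp S} (hY : IsAlgSpace Y) {i : Z ⟶ Y}
    (hi : RepWith @IsClosedImmersion i) : IsClosedMap (Points.map i) := by
  have h : IsUnivClosedMor i := (isUnivClosedMor_iff_repWith hi.1).2 (repWith_mono (fun _ _ r hr => by
    have : IsClosedImmersion r := hr
    exact (inferInstance : UniversallyClosed r)) hi)
  exact h hY (𝟙 Y) (𝟙 Z) i (IsPullback.id_horiz i)

theorem isClosedMap_ofPt_of_closed {Y : Sp S} (hY : IsAlgSpace Y) {T : Over S} {f : (yon S).obj T ⟶ Y}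
    (hf : RepWith @IsClosedImmersion f) : IsClosedMap (Points.ofPt f) := fun C hC => by
  have e : Points.ofPt f '' C = Points.map f '' (Points.schemeHomeo T '' C) := by
    rw [Set.image_image]
    refine Set.image_congr fun t _ => ?_
    show Points.ofPt f t = Points.map f (Points.ofPt (𝟙 _) t)
    rw [Points.map_ofPt, Category.id_comp]
  rw [e]
  exact isClosedMap_map_of_closed hY hf _ ((Points.schemeHomeo T).isClosedMap _ hC)

/-- an open immersion of schemes into a closed immersion over an open subspace -/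
theorem isPullback_subInc_of_preimage {Y : Sp S} {T : Over S} {f : (yon S).obj T ⟶ Y} {W : Set (Points Y)}
    (hW : IsOpen W) (O : T.left.Opens) (hO : Points.ofPt f ⁻¹' W = (O : Set T.left))
    {g : (yon S).obj (Over.mk (O.ι ≫ T.hom)) ⟶ subSheaf W}
    (hg : g ≫ subInc W = (yon S).map (Over.homMk O.ι rfl : Over.mk (O.ι ≫ T.hom) ⟶ T) ≫ f) :
    IsPullback ((yon S).map (Over.homMk O.ι rfl : Over.mk (O.ι ≫ T.hom) ⟶ T)) g f (subInc W) := by
  refine isPullback_of_points hg.symm fun T' a b hab => ?_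
  obtain ⟨a', rfl⟩ := exists_map_eq a
  have hin : ∀ t, a'.left t ∈ O := fun t => by
    show a'.left t ∈ (O : Set T.left)
    rw [← hO, Set.mem_preimage, ← ofPt_comp, hab, ← Points.map_ofPt]
    exact map_subInc_mem _
  let c : T' ⟶ Over.mk (O.ι ≫ T.hom) := Over.homMk (IsOpenImmersion.lift O.ι a'.left (by
      rintro _ ⟨t, rfl⟩
      show _ ∈ Set.range O.ι.base
      exact ⟨⟨_, hin t⟩, rfl⟩)) (by
    show _ ≫ O.ι ≫ T.hom = T'.hom
    rw [IsOpenImmersion.lift_fac_assoc, Over.w a'])
  have hc : c ≫ (Over.homMk O.ι rfl : Over.mk (O.ι ≫ T.hom) ⟶ T) = a' :=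
    Over.OverMorphism.ext (IsOpenImmersion.lift_fac _ _ _)
  have : Mono (subInc W) := inferInstance
  refine ⟨(yon S).map c, ⟨by rw [← Functor.map_comp, hc], (cancel_mono (subInc W)).1 ?_⟩, fun d hd => ?_⟩
  · rw [Category.assoc, hg, ← Functor.map_comp_assoc, hc, hab]
  · obtain ⟨d', rfl⟩ := exists_map_eq d
    refine congrArg (yon S).map (Over.OverMorphism.ext ((cancel_mono O.ι).1 ?_))
    have h1 := congrArg (fun k : T' ⟶ T => k.left) ((yon S).map_injective (((yon S).map_comp _ _).trans hd.1))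
    exact h1.trans (IsOpenImmersion.lift_fac _ _ _).symm

set_option maxHeartbeats 1000000 in
/-- compatible affine opens of the two closed subschemes give an affine open subspace -/
theorem exists_affine_piece {Y : Sp S} (hY : IsAlgSpace Y) (T : Bool → Over S)
    (f : ∀ k, (yon S).obj (T k) ⟶ Y) (hf : ∀ k, RepWith @IsClosedImmersion (f k))
    (hcov : ∀ y : Points Y, ∃ k, y ∈ Set.range (Points.ofPt (f k)))
    (V : ∀ k, (T k).left.Opens) (hV : ∀ k, IsAffineOpen (V k))
    (hcompat : ∀ k k' (t : (T k).left) (t' : (T k').left),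
      Points.ofPt (f k) t = Points.ofPt (f k') t' → t ∈ V k → t' ∈ V k') :
    ∃ (W : Set (Points Y)), IsOpen W ∧ IsAff (subSheaf W) ∧
      ∀ k t, (Points.ofPt (f k) t ∈ W ↔ t ∈ V k) := by
  let W : Set (Points Y) := (⋃ k, Points.ofPt (f k) '' (↑(V k) : Set (T k).left)ᶜ)ᶜ
  have hW : IsOpen W := (isClosed_iUnion_of_finite fun k =>
    isClosedMap_ofPt_of_closed hY (hf k) _ (V k).isOpen.isClosed_compl).isOpen_compl
  have hmem : ∀ k t, Points.ofPt (f k) t ∈ W ↔ t ∈ V k := fun k t => by
    simp only [W, Set.mem_compl_iff, Set.mem_iUnion, Set.mem_image, not_exists, not_and]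
    refine ⟨fun h => by_contra fun ht => h k t ht rfl, fun ht k' t' ht' e => ?_⟩
    exact ht' (hcompat k k' t t' e.symm ht)
  refine ⟨W, hW, ?_, hmem⟩
  have hsub := isAlgSpace_subSheaf hY hW
  have hg : ∀ k, ∃ g : (yon S).obj (Over.mk ((V k).ι ≫ (T k).hom)) ⟶ subSheaf W,
      g ≫ subInc W = (yon S).map (Over.homMk (V k).ι rfl : Over.mk ((V k).ι ≫ (T k).hom) ⟶ T k) ≫ f k :=
    fun k => exists_factor_subInc _ fun x => by
      obtain ⟨v, rfl⟩ := (Points.schemeHomeo _).surjective x
      show Points.map _ (Points.ofPt (𝟙 _) v) ∈ W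
      rw [Points.map_ofPt, Category.id_comp, ofPt_comp]
      exact (hmem k _).2 v.2
  choose g hg using hg
  have hgc : ∀ k, RepWith @IsClosedImmersion (g k) := fun k =>
    repWith_baseChange (isPullback_subInc_of_preimage hW (V k)
      (Set.ext fun t => hmem k t) (hg k)) (hf k)
  obtain ⟨T₀, G, j, hG, hjo, hjf, hjd, hjc⟩ := RelNorm.exists_sigma_integral' hsub
    (fun k : ULift.{u} Bool => Over.mk ((V k.down).ι ≫ (T k.down).hom)) (fun k => g k.down)
    (fun k => repWith_mono (fun _ _ r hr => by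
      have : IsClosedImmersion r := hr
      exact (inferInstance : IsIntegralHom r)) (hgc k.down))
  have := hjo
  have haff : IsAffine T₀.left := by
    have : IsOpenImmersion (Limits.Sigma.desc fun k => (j k).left) := isOpenImmersion_sigmaDesc _ _ hjd
    have : Surjective (Limits.Sigma.desc fun k => (j k).left) := ⟨fun t => by
      obtain ⟨k, y, rfl⟩ := hjc t
      exact ⟨Limits.Sigma.ι (fun k : ULift.{u} Bool => (Over.mk ((V k.down).ι ≫ (T k.down).hom)).left) k y,
        by rw [← Scheme.Hom.comp_apply, Limits.Sigma.ι_desc]⟩⟩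
    have : Epi (Limits.Sigma.desc fun k => (j k).left).base :=
      (TopCat.epi_iff_surjective _).2 (Limits.Sigma.desc fun k => (j k).left).surjective
    have := IsOpenImmersion.isIso (Limits.Sigma.desc fun k => (j k).left)
    have : ∀ k : ULift.{u} Bool, IsAffine (Over.mk ((V k.down).ι ≫ (T k.down).hom)).left := fun k => hV k.down
    exact IsAffine.of_isIso (inv (Limits.Sigma.desc fun k => (j k).left))
  have hGc : IsUnivClosedMor G := (isUnivClosedMor_iff_repWith hG.1).2 (repWith_mono (fun _ _ r hr => by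
    have : IsIntegralHom r := hr
    exact (inferInstance : UniversallyClosed r)) hG)
  refine isAff_of_univClosed_surj hsub ⟨T₀, haff, ⟨Iso.refl _⟩⟩ G hGc fun w => ?_
  obtain ⟨k, t, ht⟩ := hcov (Points.map (subInc W) w)
  have htV : t ∈ V k := (hmem k t).1 (ht ▸ map_subInc_mem w)
  refine ⟨Points.map ((yon S).map (j ⟨k⟩)) (Points.schemeHomeo _ (⟨t, htV⟩ : (V k).toScheme)), ?_⟩
  refine (SchImg.injective_map_of_mono (i := subInc W)) ?_
  rw [← Points.map_comp _ G, hjf, ← ht]
  show Points.map _ (Points.map _ (Points.ofPt (𝟙 _) _)) = _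
  rw [Points.map_ofPt, Points.map_ofPt, Category.id_comp, hg, ofPt_comp]
  rfl

set_option maxHeartbeats 1000000 in
/-- a space covered by two closed subschemes is a scheme -/
theorem isSch_of_two_closed {Y : Sp S} (hY : IsAlgSpace Y) {Z : Bool → Sp S} (i : ∀ k, Z k ⟶ Y)
    (hi : ∀ k, RepWith @IsClosedImmersion (i k)) (hZ : ∀ k, IsSch (Z k))
    (hcov : ∀ y : Points Y, ∃ k, y ∈ Set.range (Points.map (i k))) : IsSch Y := by
  choose T he using hZ
  let e := fun k => (he k).some
  let f : ∀ k, (yon S).obj (T k) ⟶ Y := fun k => (e k).hom ≫ i k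
  have hf : ∀ k, RepWith @IsClosedImmersion (f k) := fun k => (repWith_iso_comp_iff _ _).2 (hi k)
  have hcov' : ∀ y : Points Y, ∃ k, y ∈ Set.range (Points.ofPt (f k)) := fun y => by
    obtain ⟨k, z, rfl⟩ := hcov y
    obtain ⟨t, ht⟩ := (Points.schemeHomeo (T k)).surjective (Points.map (e k).inv z)
    refine ⟨k, t, ?_⟩
    have h1 : Points.ofPt (f k) t = Points.map (f k) (Points.schemeHomeo (T k) t) := by
      show _ = Points.map (f k) (Points.ofPt (𝟙 _) t)
      rw [Points.map_ofPt, Category.id_comp]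
    rw [h1, ht, ← Points.map_comp, Iso.inv_hom_id_assoc]
  obtain ⟨P, p₁', p₂, sqP, hp₂⟩ := exists_repWith (hf false) (f true)
  obtain ⟨p₁, rfl⟩ := exists_map_eq p₁'
  have : IsClosedImmersion p₂.left := hp₂
  have : IsClosedImmersion p₁.left := (repWith_yon_iff p₁).1 (repWith_baseChange sqP.flip (hf true))
  have hinj : ∀ k, Function.Injective (Points.ofPt (f k)) := fun k => by
    have := SchImg.mono_of_closed (hf k)
    intro t t' e'
    refine (Points.schemeHomeo (T k)).injective (SchImg.injective_map_of_mono (i := f k) ?_)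
    show Points.map (f k) (Points.ofPt (𝟙 _) t) = Points.map (f k) (Points.ofPt (𝟙 _) t')
    rwa [Points.map_ofPt, Points.map_ofPt, Category.id_comp]
  have hP : ∀ (a : (T false).left) (b : (T true).left), Points.ofPt (f false) a = Points.ofPt (f true) b →
      ∃ p : P.left, p₁.left p = a ∧ p₂.left p = b := fun a b hab => by
    obtain ⟨q, hq₁, hq₂⟩ := exists_point_of_isPullback sqP (Points.schemeHomeo _ a) (Points.schemeHomeo _ b) (by
      show Points.map _ (Points.ofPt (𝟙 _) a) = Points.map _ (Points.ofPt (𝟙 _) b)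
      rwa [Points.map_ofPt, Points.map_ofPt, Category.id_comp, Category.id_comp])
    obtain ⟨p, rfl⟩ := (Points.schemeHomeo P).surjective q
    rw [Points.map_yon_map_apply] at hq₁ hq₂
    exact ⟨p, (Points.schemeHomeo _).injective hq₁, (Points.schemeHomeo _).injective hq₂⟩
  have hPc : ∀ p : P.left, Points.ofPt (f false) (p₁.left p) = Points.ofPt (f true) (p₂.left p) := fun p => by
    rw [← ofPt_comp, ← ofPt_comp, sqP.w]
  -- the affine pieces
  have hpiece : ∀ y : Points Y, ∃ (V : ∀ k, (T k).left.Opens), (∀ k, IsAffineOpen (V k)) ∧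
      (p₁.left ⁻¹ᵁ V false = p₂.left ⁻¹ᵁ V true) ∧ ∃ k, ∃ t ∈ V k, Points.ofPt (f k) t = y := by
    intro y
    by_cases h : ∃ p : P.left, Points.ofPt (f false) (p₁.left p) = y
    · obtain ⟨p, hp⟩ := h
      obtain ⟨U₁, hU₁, hpU₁, -⟩ := exists_isAffineOpen_mem_and_subset (x := p₁.left p) (U := ⊤) trivial
      obtain ⟨U₂, hU₂, hpU₂, -⟩ := exists_isAffineOpen_mem_and_subset (x := p₂.left p) (U := ⊤) trivial
      obtain ⟨O₁, hO₁o, hO₁⟩ := p₁.left.isClosedEmbedding.isInducing.isOpen_iff.1
        (p₁.left ⁻¹ᵁ U₁ ⊓ p₂.left ⁻¹ᵁ U₂).isOpen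
      have hpO₁ : p₁.left p ∈ O₁ := by
        have : p ∈ p₁.left ⁻¹' O₁ := by rw [hO₁]; exact ⟨hpU₁, hpU₂⟩
        exact this
      obtain ⟨a, haU, hpa⟩ := hU₁.exists_basicOpen_le (V := ⟨O₁, hO₁o⟩) ⟨p₁.left p, hpO₁⟩ hpU₁
      have hV₁ : IsAffineOpen ((T false).left.basicOpen a) := hU₁.basicOpen a
      obtain ⟨O₂, hO₂o, hO₂⟩ := p₂.left.isClosedEmbedding.isInducing.isOpen_iff.1
        (p₁.left ⁻¹ᵁ (T false).left.basicOpen a).isOpen
      have hpO₂ : p₂.left p ∈ O₂ := by
        have : p ∈ p₂.left ⁻¹' O₂ := by rw [hO₂]; exact hpa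
        exact this
      obtain ⟨b, hbU, hpb⟩ := hU₂.exists_basicOpen_le (V := ⟨O₂, hO₂o⟩) ⟨p₂.left p, hpO₂⟩ hpU₂
      have hle : p₁.left ⁻¹ᵁ (T false).left.basicOpen a ≤ p₂.left ⁻¹ᵁ U₂ := fun q hq => by
        have h1 : q ∈ p₁.left ⁻¹' O₁ := haU hq
        rw [hO₁] at h1
        exact h1.2
      let g := p₂.left.appLE U₂ (p₁.left ⁻¹ᵁ (T false).left.basicOpen a) hle b
      have hbg : p₂.left ⁻¹ᵁ (T true).left.basicOpen b = P.left.basicOpen g := by
        rw [Scheme.basicOpen_appLE, eq_comm, inf_eq_right]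
        intro q hq
        have h1 : q ∈ p₂.left ⁻¹' O₂ := hbU hq
        rw [hO₂] at h1
        exact h1
      obtain ⟨c, hc⟩ := Scheme.Hom.app_surjective p₁.left _ hV₁ g
      refine ⟨fun k => match k with | false => (T false).left.basicOpen c | true => (T true).left.basicOpen b,
        fun k => ?_, ?_, true, p₂.left p, hpb, (hPc p).symm.trans hp⟩
      · cases k
        · exact hV₁.basicOpen c
        · exact hU₂.basicOpen b
      · show p₁.left ⁻¹ᵁ _ = _
        rw [Scheme.preimage_basicOpen, hc, hbg]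
    · obtain ⟨k, t, ht⟩ := hcov' y
      let C : ∀ k, Set (T k).left := fun k => match k with
        | false => Set.range p₁.left
        | true => Set.range p₂.left
      have hC : ∀ k, IsClosed (C k) := fun k => by
        cases k
        · exact p₁.left.isClosedEmbedding.isClosed_range
        · exact p₂.left.isClosedEmbedding.isClosed_range
      have htC : t ∉ C k := fun htC => h (by
        cases k
        · obtain ⟨p, rfl⟩ := htC
          exact ⟨p, ht⟩
        · obtain ⟨p, rfl⟩ := htC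
          exact ⟨p, (hPc p).trans ht⟩)
      obtain ⟨U, hU, htU, hUC⟩ := exists_isAffineOpen_mem_and_subset (x := t)
        (U := ⟨(C k)ᶜ, (hC k).isOpen_compl⟩) htC
      cases k
      · refine ⟨fun k => match k with | false => U | true => ⊥, fun k => ?_, ?_, false, t, htU, ht⟩
        · cases k
          · exact hU
          · exact isAffineOpen_bot _
        · ext q
          exact ⟨fun hq => (hUC hq ⟨q, rfl⟩).elim, fun hq => hq.elim⟩
      · refine ⟨fun k => match k with | false => ⊥ | true => U, fun k => ?_, ?_, true, t, htU, ht⟩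
        · cases k
          · exact isAffineOpen_bot _
          · exact hU
        · ext q
          exact ⟨fun hq => hq.elim, fun hq => (hUC hq ⟨q, rfl⟩).elim⟩
  choose V hVa hVP kk tt htV hty using hpiece
  have hW : ∀ y : Points Y, ∃ (W : Set (Points Y)), IsOpen W ∧ IsAff (subSheaf W) ∧ y ∈ W := fun y => by
    obtain ⟨W, hWo, hWa, hmem⟩ := exists_affine_piece hY T f hf hcov' (V y) (hVa y) (by
      rintro (_ | _) (_ | _) t t' e' ht
      · exact hinj false e' ▸ ht
      · obtain ⟨p, rfl, rfl⟩ := hP t t' e'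
        exact (show p ∈ p₂.left ⁻¹ᵁ V y true from hVP y ▸ ht)
      · obtain ⟨p, rfl, rfl⟩ := hP t' t e'.symm
        exact (show p ∈ p₁.left ⁻¹ᵁ V y false from (hVP y).symm ▸ ht)
      · exact hinj true e' ▸ ht)
    exact ⟨W, hWo, hWa, (hty y) ▸ (hmem (kk y) (tt y)).2 (htV y)⟩
  choose W hWo hWa hyW using hW
  choose Q hQa hQ using hWa
  have hY' : ∀ ι : Type u, ∀ (s : ι → Points Y), (∀ y, ∃ a, y ∈ W (s a)) → IsSch Y := fun ι s hs => by
    obtain ⟨T', ⟨θ⟩⟩ := exists_iso_yon_of_open_cover hY (fun a : ι => Q (s a))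
      (fun a => (hQ (s a)).some.hom ≫ subInc (W (s a)))
      (fun a => (repWith_iso_comp_iff _ _).2 (repWith_subInc (hWo (s a)))) (fun y => by
        obtain ⟨a, ha⟩ := hs y
        obtain ⟨z, hz⟩ := (range_subInc (W (s a))).symm ▸ ha
        exact ⟨a, Points.map (hQ (s a)).some.inv z, by rw [← Points.map_comp, Iso.inv_hom_id_assoc, hz]⟩)
    exact ⟨T', ⟨θ.symm⟩⟩
  refine hY' ((T false).left ⊕ (T true).left) (Sum.elim (Points.ofPt (f false)) (Points.ofPt (f true))) fun y => ?_
  obtain ⟨k, t, rfl⟩ := hcov' y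
  cases k
  · exact ⟨Sum.inl t, hyW _⟩
  · exact ⟨Sum.inr t, hyW _⟩

end Groth.Agent.SpChev
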