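import Groth.Agent.SpChev.FinQACore
import Groth.Agent.SpQS.Spectral

/-!
# A space with a finite surjection from a quasi-affine scheme is a scheme
-/

set_option autoImplicit false
set_option linter.style.haveILetI false

universe u

open CategoryTheory CategoryTheory.Limits AlgebraicGeometry TopologicalSpace

set_option backward.isDefEq.respectTransparency false

namespace Groth.Agent.SpChev

open _root_.AlgSp Groth.Agent.AlgSpLib

variable {S : Scheme.{u}}

/-- a finite cover by `n` sheets that are distinct at a point `c` over `η` -/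
def HasSheets {Y : Sp S} {T : Over S} (f : (yon S).obj T ⟶ Y) (η : Points Y) (n : ℕ) : Prop :=
  ∃ (C : Over S) (πC : (yon S).obj C ⟶ Y) (q : Fin n → (C ⟶ T)) (c : C.left),
    RepWith @IsFinite πC ∧ (∀ i, IsAffineHom (q i).left) ∧ (∀ i, (yon S).map (q i) ≫ f = πC) ∧
      Points.ofPt πC c = η ∧ ∀ i j, i ≠ j → c ∉ Set.range (equalizer.ι (q i) (q j)).left

theorem exists_sheets_bound {Y : Sp S} {T U : Over S} [IsAffine U.left] {f : (yon S).obj T ⟶ Y}
    (hf : RepWith @IsFinite f) {a : (yon S).obj U ⟶ Y} (has : RepWith @Surjective a) (η : Points Y) :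
    ∃ N, ∀ n, HasSheets f η n → n ≤ N := by
  obtain ⟨V, p', v, sqV, hv⟩ := exists_repWith hf a
  obtain ⟨p, rfl⟩ := exists_map_eq p'
  have : IsFinite v.left := hv
  obtain ⟨N, hN⟩ := exists_lift_bound v.left
  refine ⟨N, fun n ⟨C, πC, q, c, hπC, _, hqc, hc, hne⟩ => ?_⟩
  obtain ⟨CU, r', w, sqC, -⟩ := exists_repWith hπC a
  obtain ⟨r, rfl⟩ := exists_map_eq r'
  obtain ⟨c', hc'⟩ := surjective_of_repWith_chart has sqC c
  let K := CU.left.residueField c'
  let γ : Spec (CommRingCat.of K) ⟶ CU.left := CU.left.fromSpecResidueField c'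
  let SK : Over S := Over.mk (γ ≫ CU.hom)
  let γ' : SK ⟶ CU := Over.homMk γ rfl
  have hl : ∀ i, ∃ l : SK ⟶ V, l ≫ p = γ' ≫ r ≫ q i ∧ l ≫ v = γ' ≫ w := fun i => by
    obtain ⟨l, hl⟩ := exists_map_eq (sqV.lift ((yon S).map (γ' ≫ r ≫ q i)) ((yon S).map (γ' ≫ w)) (by
      rw [Functor.map_comp, Functor.map_comp, Functor.map_comp, Category.assoc, Category.assoc, hqc, sqC.w,
        Category.assoc]))
    exact ⟨l, (yon S).map_injective (by rw [Functor.map_comp, hl, sqV.lift_fst]),
      (yon S).map_injective (by rw [Functor.map_comp, hl, sqV.lift_snd])⟩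
  choose l hl₁ hl₂ using hl
  refine hN K (γ ≫ w.left) n (fun i => (l i).left) (fun i j h => ?_)
    (fun i => congrArg (fun k : SK ⟶ U => k.left) (hl₂ i))
  by_contra hij
  refine hne i j hij ?_
  have e : (γ' ≫ r) ≫ q i = (γ' ≫ r) ≫ q j := by
    rw [Category.assoc, Category.assoc, ← hl₁, ← hl₁, Over.OverMorphism.ext h]
  have hp : Nonempty ↥(Spec (CommRingCat.of K)) := ⟨IsLocalRing.closedPoint K⟩
  obtain ⟨z⟩ := hp
  refine ⟨(equalizer.lift (γ' ≫ r) e).left z, ?_⟩
  have h1 : ((equalizer.lift (γ' ≫ r) e) ≫ equalizer.ι (q i) (q j)).left z = (γ' ≫ r).left z := by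
    rw [equalizer.lift_ι]
  refine (h1.trans ?_)
  show r.left (γ z) = c
  rw [show γ z = c' from Scheme.fromSpecResidueField_apply _ _, hc']

theorem range_equalizer_congr {P T : Over S} {k k' l l' : P ⟶ T} (hk : k = k') (hl : l = l') :
    Set.range (equalizer.ι k l).left = Set.range (equalizer.ι k' l').left := by
  subst hk hl
  rfl

theorem exists_extend {Y : Sp S} {T : Over S} {f : (yon S).obj T ⟶ Y} (hf : RepWith @IsFinite f) {η : Points Y}
    {n : ℕ} {C : Over S} {πC : (yon S).obj C ⟶ Y} {q : Fin n → (C ⟶ T)} (hπC : RepWith @IsFinite πC)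
    (hqa : ∀ i, IsAffineHom (q i).left) (hqc : ∀ i, (yon S).map (q i) ≫ f = πC)
    {P : Over S} {p₁ : P ⟶ C} {p₂ : P ⟶ T} (sq : IsPullback ((yon S).map p₁) ((yon S).map p₂) πC f)
    {c : C.left} (hc : Points.ofPt πC c = η)
    (hne : ∀ i j, i ≠ j → c ∉ Set.range (equalizer.ι (q i) (q j)).left) {p : P.left} (hp : p₁.left p = c)
    (hout : ∀ i, p ∉ Set.range (equalizer.ι (p₁ ≫ q i) p₂).left) : HasSheets f η (n + 1) := by
  have h₂ : IsFinite p₂.left := (repWith_yon_iff p₂).1 (repWith_baseChange sq hπC)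
  have h₁ : IsFinite p₁.left := (repWith_yon_iff p₁).1 (repWith_baseChange sq.flip hf)
  refine ⟨P, (yon S).map p₁ ≫ πC, Fin.snoc (fun i => p₁ ≫ q i) p₂, p,
    repWith_comp ((repWith_yon_iff p₁).2 h₁) hπC, fun i => ?_, fun i => ?_, by rw [ofPt_comp, hp, hc], fun i j => ?_⟩
  · cases i using Fin.lastCases with
    | last => rw [Fin.snoc_last]; infer_instance
    | cast i =>
      rw [Fin.snoc_castSucc, Over.comp_left]
      have := hqa i
      infer_instance
  · cases i using Fin.lastCases with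
    | last => rw [Fin.snoc_last, sq.w]
    | cast i => rw [Fin.snoc_castSucc, Functor.map_comp, Category.assoc, hqc]
  · have hsym : ∀ {k k' : P ⟶ T}, p ∈ Set.range (equalizer.ι k k').left →
        p ∈ Set.range (equalizer.ι k' k).left := by
      rintro k k' ⟨z, hz⟩
      refine ⟨(equalizer.lift (equalizer.ι k k') (equalizer.condition k k').symm).left z, ?_⟩
      refine Eq.trans ?_ hz
      rw [← Scheme.Hom.comp_apply, ← Over.comp_left, equalizer.lift_ι]
    intro hij
    cases i using Fin.lastCases with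
    | last =>
      cases j using Fin.lastCases with
      | last => exact absurd rfl hij
      | cast j =>
        rw [range_equalizer_congr (Fin.snoc_last _ _) (Fin.snoc_castSucc _ _ _)]
        exact fun h => hout j (hsym h)
    | cast i =>
      cases j using Fin.lastCases with
      | last =>
        rw [range_equalizer_congr (Fin.snoc_castSucc _ _ _) (Fin.snoc_last _ _)]
        exact hout i
      | cast j =>
        rw [range_equalizer_congr (Fin.snoc_castSucc _ _ _) (Fin.snoc_castSucc _ _ _)]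
        rintro ⟨z, hz⟩
        refine hne i j (fun h => hij (congrArg Fin.castSucc h))
          ⟨(equalizer.lift (equalizer.ι (p₁ ≫ q i) (p₁ ≫ q j) ≫ p₁) (by
            rw [Category.assoc, Category.assoc, equalizer.condition])).left z, ?_⟩
        rw [← hp, ← hz, ← Scheme.Hom.comp_apply, ← Over.comp_left, equalizer.lift_ι]
        rfl

set_option maxHeartbeats 2000000 in
/-- an irreducible space whose proper closed subspaces are schemes, with a finite cover by a quasi-affine scheme -/
theorem isSch_of_minimal [QuasiSeparatedSpace ↥S] {Y : Sp S} (hY : IsAlgSpace Y) (hq : IsQuasiCompactSp Y)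
    (hqs : IsQuasiSeparatedSp Y)
    {T U : Over S} [T.left.IsQuasiAffine] [IsAffine U.left] [IsLocallyNoetherian U.left]
    {f : (yon S).obj T ⟶ Y} (hf : RepWith @IsFinite f) (hfs : Function.Surjective (Points.ofPt f))
    {a : (yon S).obj U ⟶ Y} (hae : RepWith @Etale a) (has : RepWith @Surjective a)
    (hirr : IrreducibleSpace (Points Y))
    (hmin : ∀ ⦃Z : Sp S⦄ (i : Z ⟶ Y), RepWith @IsClosedImmersion i → IsIso i ∨ IsSch Z) : IsSch Y := by
  classical
  have : SpectralSpace (Points Y) := SpQS.spectralSpace_points hY hq hqs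
  let η : Points Y := genericPoint (Points Y)
  obtain ⟨t₀, ht₀⟩ := hfs η
  obtain ⟨N, hN⟩ := exists_sheets_bound hf has η
  have h1 : HasSheets f η 1 := ⟨T, f, fun _ => 𝟙 T, t₀, hf, fun _ => inferInstanceAs (IsAffineHom (𝟙 T.left)),
    fun _ => by rw [CategoryTheory.Functor.map_id, Category.id_comp], ht₀,
    fun i j h => (h (Subsingleton.elim i j)).elim⟩
  obtain ⟨m, hn, hmax⟩ : ∃ m, HasSheets f η (m + 1) ∧ ¬ HasSheets f η (m + 1 + 1) := by
    obtain ⟨m, hm⟩ := Nat.exists_eq_add_of_le' (Nat.le_findGreatest (hN 1 h1) h1)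
    refine ⟨m, hm ▸ Nat.findGreatest_spec (hN 1 h1) h1, fun h => ?_⟩
    have h2 := Nat.le_findGreatest (hN _ h) h
    omega
  obtain ⟨C, πC, q, c, hπC, hqa, hqc, hc, hne⟩ := hn
  obtain ⟨P, p₁', p₂, sqP, -⟩ := exists_repWith hf πC
  obtain ⟨p₂', rfl⟩ := exists_map_eq p₁'
  -- `p₂' : P ⟶ T` and `p₂ : P ⟶ C`
  have sq : IsPullback ((yon S).map p₂) ((yon S).map p₂') πC f := sqP.flip
  let p₁ := p₂
  let pT := p₂'
  have : IsSeparated (terminal.from T.left) := inferInstance
  have hTS : IsSeparated T.hom := by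
    have : IsSeparated (T.hom ≫ terminal.from S) := by
      rw [show T.hom ≫ terminal.from S = terminal.from T.left from Subsingleton.elim _ _]
      infer_instance
    exact IsSeparated.of_comp T.hom (terminal.from S)
  have := hTS
  have : IsFinite p₁.left := (repWith_yon_iff p₁).1 (repWith_baseChange sq.flip hf)
  have hpP : RepWith @IsFinite ((yon S).map p₁ ≫ πC) :=
    repWith_comp ((repWith_yon_iff p₁).2 ‹IsFinite p₁.left›) hπC
  have : NoetherianSpace P.left := noetherianSpace_of_finiteMap hpP has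
  let Cc : Set C.left := closure {c}
  let O : Set P.left := (⋃ i, Set.range (equalizer.ι (p₁ ≫ q i) pT).left)ᶜ
  have hO : IsOpen O := (isClosed_iUnion_of_finite fun i =>
    (equalizer.ι (p₁ ≫ q i) pT).left.isClosedEmbedding.isClosed_range).isOpen_compl
  let L : Set P.left := p₁.left ⁻¹' Cc
  have hL : IsClosed L := isClosed_closure.preimage p₁.left.continuous
  have hLO : ∀ p ∈ L ∩ O, Points.ofPt πC (p₁.left p) ≠ η := fun p hp e => by
    have hpc : p₁.left p = c :=
      (eq_of_specializes_of_finiteMap hY hπC hae has (specializes_iff_mem_closure.2 hp.1) (hc.trans e.symm)).symm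
    exact hmax (exists_extend hf hπC hqa hqc sq hc hne hpc fun i h => hp.2 (Set.mem_iUnion.2 ⟨i, h⟩))
  have hclP : IsClosedMap (Points.ofPt ((yon S).map p₁ ≫ πC)) :=
    isClosedMap_ofPt_of_univClosed hY (repWith_mono (fun _ _ r hr => by
      have : IsFinite r := hr
      exact (inferInstance : UniversallyClosed r)) hpP)
  let Zs : Set (Points Y) := Points.ofPt ((yon S).map p₁ ≫ πC) '' closure (L ∩ O)
  have hZs : IsClosed Zs := hclP _ isClosed_closure
  have hηZ : η ∉ Zs := by
    rintro ⟨y, hy, hye⟩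
    rw [ofPt_comp] at hye
    obtain ⟨g, hg, hgy⟩ := exists_generisation_of_mem_closure hL hO hy
    refine hLO g hg ?_
    have h2 : Points.ofPt πC (p₁.left g) ⤳ η := hye ▸ (hgy.map p₁.left.continuous).map (Points.continuous_ofPt πC)
    exact (h2.antisymm (genericPoint_specializes _)).eq
  obtain ⟨Z, i, hZa, hic, hir, -⟩ := SpQS.exists_redInduced hY hZs
  obtain ⟨TZ, ⟨e⟩⟩ := (hmin i hic).resolve_left fun hiso => hηZ (by
    rw [← hir]
    exact ⟨Points.map (inv i) η, by rw [← Points.map_comp, IsIso.inv_hom_id, Points.map_id]⟩)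
  let g : (yon S).obj TZ ⟶ Y := e.hom ≫ i
  have hg : RepWith @IsClosedImmersion g := (repWith_iso_comp_iff _ _).2 hic
  have hgr : Set.range (Points.ofPt g) = Zs := by
    rw [← hir]
    ext y
    refine ⟨?_, fun ⟨z, hz⟩ => ?_⟩
    · rintro ⟨t, rfl⟩
      exact ⟨Points.map e.hom (Points.schemeHomeo TZ t), by rw [← Points.map_comp, ← ofPt_eq_map]⟩
    · obtain ⟨t, ht⟩ := (Points.schemeHomeo TZ).surjective (Points.map e.inv z)
      exact ⟨t, by rw [ofPt_eq_map, ht, ← Points.map_comp, Iso.inv_hom_id_assoc, hz]⟩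
  -- the cover on the closure of `c`
  let I := Scheme.IdealSheafData.vanishingIdeal (⟨Cc, isClosed_closure⟩ : TopologicalSpace.Closeds C.left)
  let C' : Over S := Over.mk (I.subschemeι ≫ C.hom)
  let j : C' ⟶ C := Over.homMk I.subschemeι rfl
  have : IsClosedImmersion j.left := inferInstanceAs (IsClosedImmersion I.subschemeι)
  have hjr : Set.range j.left = Cc := by
    show Set.range I.subschemeι = _
    rw [I.range_subschemeι, Scheme.IdealSheafData.coe_support_vanishingIdeal]
    rfl
  have hsurj : Function.Surjective (Points.ofPt ((yon S).map j ≫ πC)) := fun y => by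
    have h2 : IsClosed (Points.ofPt πC '' Cc) := isClosedMap_ofPt_of_univClosed hY (repWith_mono (fun _ _ r hr => by
      have : IsFinite r := hr
      exact (inferInstance : UniversallyClosed r)) hπC) _ isClosed_closure
    obtain ⟨z, hz, hzy⟩ := h2.closure_subset_iff.2 (Set.singleton_subset_iff.2 ⟨c, subset_closure rfl, hc⟩)
      (specializes_iff_mem_closure.1 (genericPoint_specializes y))
    obtain ⟨z', rfl⟩ := hjr.symm ▸ hz
    exact ⟨z', by rw [ofPt_comp, hzy]⟩
  have hloc : ∀ x : Points Y, ∃ W : Set (Points Y), IsOpen W ∧ x ∈ W ∧ IsAff (subSheaf W) :=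
    exists_affine_nhd_of_exhaust hY hf has hg (C := C') (πC := (yon S).map j ≫ πC)
      (repWith_comp ((repWith_yon_iff j).2 inferInstance) hπC) hsurj (n := m) (fun i => j ≫ q i)
      (fun i => by
        have := hqa i
        rw [Over.comp_left]
        infer_instance) (fun i => by rw [Functor.map_comp, Category.assoc, hqc]) fun z t hzZ hzt => by
      rw [ofPt_comp] at hzZ hzt
      obtain ⟨p, hp₁, hp₂⟩ := exists_point_of_isPullback_yon sq (j.left z) t hzt.symm
      have hpL : p ∈ L := by
        show p₁.left p ∈ Cc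
        rw [← hjr]
        exact ⟨z, hp₁.symm⟩
      have hpO : p ∉ O := fun h => hzZ (by
        rw [hgr]
        exact ⟨p, subset_closure ⟨hpL, h⟩, by rw [ofPt_comp, hp₁]⟩)
      obtain ⟨i, w, hw⟩ := Set.mem_iUnion.1 (Set.notMem_compl_iff.1 hpO)
      refine ⟨i, ?_⟩
      have h3 : ((equalizer.ι (p₁ ≫ q i) pT) ≫ p₁ ≫ q i).left w = ((equalizer.ι (p₁ ≫ q i) pT) ≫ pT).left w := by
        rw [equalizer.condition]
      simp only [Over.comp_left, Scheme.Hom.comp_apply, hw] at h3
      show (q i).left (j.left z) = t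
      rw [← hp₁, ← hp₂]
      exact h3
  choose W hWo hxW hWa using hloc
  choose Q hQa hQ using hWa
  obtain ⟨a', ha'⟩ : ∃ a' : U.left → Points Y, ∀ y, ∃ u, a' u = y := ⟨_, ofPt_surjective has⟩
  obtain ⟨T', ⟨θ⟩⟩ := exists_iso_yon_of_open_cover hY (fun u => Q (a' u))
    (fun u => (hQ (a' u)).some.hom ≫ subInc (W (a' u)))
    (fun u => (repWith_iso_comp_iff _ _).2 (repWith_subInc (hWo (a' u)))) (fun y => by
      obtain ⟨u, rfl⟩ := ha' y
      obtain ⟨z, hz⟩ := (range_subInc (W (a' u))).symm ▸ hxW (a' u)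
      exact ⟨u, Points.map (hQ (a' u)).some.inv z, by rw [← Points.map_comp, Iso.inv_hom_id_assoc, hz]⟩)
  exact ⟨T', ⟨θ.symm⟩⟩

set_option maxHeartbeats 1000000 in
/-- a noetherian space with a finite surjection from a quasi-affine scheme is a scheme -/
theorem isSch_of_finite_qa [QuasiSeparatedSpace ↥S] {Y : Sp S} (hY : IsAlgSpace Y) (hq : IsQuasiCompactSp Y)
    (hqs : IsQuasiSeparatedSp Y)
    {T U : Over S} [T.left.IsQuasiAffine] [IsAffine U.left] [IsLocallyNoetherian U.left]
    {f : (yon S).obj T ⟶ Y} (hf : RepWith @IsFinite f) (hfs : Function.Surjective (Points.ofPt f))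
    {a : (yon S).obj U ⟶ Y} (hae : RepWith @Etale a) (has : RepWith @Surjective a) : IsSch Y := by
  by_contra hY0
  obtain ⟨Z, i, hZ, hi, hZ0, hmin⟩ := exists_minimal_nonscheme hY hq hqs hY0
  obtain ⟨-, hZq, hZs⟩ := qcqs_of_closed hY hq hqs hi
  obtain ⟨TZ, tz, v, sqT, hv⟩ := exists_repWith hi f
  obtain ⟨UZ, uz, w, sqU, hw⟩ := exists_repWith hi a
  have : IsClosedImmersion v.left := hv
  have : IsClosedImmersion w.left := hw
  have : TZ.left.IsQuasiAffine := Scheme.IsQuasiAffine.of_isAffineHom v.left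
  have : IsAffine UZ.left := isAffine_of_isAffineHom w.left
  have : IsLocallyNoetherian UZ.left := LocallyOfFiniteType.isLocallyNoetherian w.left
  have hirr : IrreducibleSpace (Points Z) := by
    have hne : Nonempty (Points Z) := by
      by_contra hne
      obtain ⟨T', ⟨θ⟩⟩ := exists_iso_yon_of_open_cover hZ (ι := PEmpty.{u + 1}) (fun k => k.elim)
        (fun k => k.elim) (fun k => k.elim) (fun x => (hne ⟨x⟩).elim)
      exact hZ0 ⟨T', ⟨θ.symm⟩⟩
    have hpre : PreirreducibleSpace (Points Z) := by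
      refine ⟨isPreirreducible_iff_isClosed_union_isClosed.2 fun C₁ C₂ h₁ h₂ hcov => ?_⟩
      by_contra hne'
      push Not at hne'
      let C : Bool → Set (Points Z) := fun k => if k then C₁ else C₂
      have hC : ∀ k, IsClosed (C k) ∧ C k ≠ Set.univ := fun k => by
        cases k
        · exact ⟨h₂, fun h => hne'.2 h.ge⟩
        · exact ⟨h₁, fun h => hne'.1 h.ge⟩
      choose Zk ik hZa hic hir hZr using fun k => SpQS.exists_redInduced hZ (hC k).1
      refine hZ0 (isSch_of_two_closed hZ ik hic (fun k => ?_) fun y => ?_)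
      · refine (hmin (ik k) (hic k)).resolve_left fun hiso => (hC k).2 ?_
        rw [← hir k]
        exact Set.eq_univ_of_forall fun y =>
          ⟨Points.map (inv (ik k)) y, by rw [← Points.map_comp, IsIso.inv_hom_id, Points.map_id]⟩
      · rcases hcov (Set.mem_univ y) with h | h
        · exact ⟨true, (hir true).symm ▸ h⟩
        · exact ⟨false, (hir false).symm ▸ h⟩
    exact { hpre with toNonempty := hne }
  refine hZ0 (isSch_of_minimal hZ hZq hZs (repWith_baseChange sqT.flip hf) (fun z => ?_)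
    (repWith_baseChange sqU.flip hae) (repWith_baseChange sqU.flip has) hirr hmin)
  obtain ⟨t, ht⟩ := hfs (Points.map i z)
  obtain ⟨y, hy, -⟩ := exists_point_of_isPullback sqT z (Points.schemeHomeo T t) (by rw [← ofPt_eq_map, ht])
  obtain ⟨y', rfl⟩ := (Points.schemeHomeo TZ).surjective y
  exact ⟨y', by rw [ofPt_eq_map, hy]⟩

end Groth.Agent.SpChev
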