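import Groth.Agent.SpChev.Results
import Groth.Agent.EtInvariance.Quotient
import Groth.Agent.EtInvariance.Extend
import Groth.Agent.AlgSpLib.Glue
import Groth.Agent.AbsApprox.Chevalley
import Groth.Prelude.Def_AlgSpOX2

/-!
# Topological invariance of the small etale site along universal homeomorphisms
-/

set_option autoImplicit false
set_option linter.style.haveILetI false

universe u

open CategoryTheory CategoryTheory.Limits AlgebraicGeometry Topology

set_option backward.isDefEq.respectTransparency false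

namespace Groth.Agent.SpChev

open _root_.AlgSp Groth.Agent.AlgSpLib

variable {S : Scheme.{u}} {X X' : Sp S} {i : X ⟶ X'}

/-- a space receiving a universal homeomorphism from a scheme is a scheme -/
theorem exists_iso_yon_of_uh {V' : Sp S} (hV' : IsAlgSpace V') {V : Over S} (c : (yon S).obj V ⟶ V')
    (hc : EtInvariance.IsUH c) : ∃ W : Over S, Nonempty (V' ≅ (yon S).obj W) := by
  have hinj : Function.Injective (Points.ofPt c) := fun x y e => (Points.schemeHomeo V).injective (hc.bijective.1 (by
    show Points.map c (Points.ofScheme V x) = Points.map c (Points.ofScheme V y)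
    rw [← Points.ofPt_eq_map_ofScheme, ← Points.ofPt_eq_map_ofScheme, e]))
  choose A hA hxA _ using fun x : ↥V.left => exists_isAffineOpen_mem_and_subset (X := V.left) (x := x) (U := ⊤) trivial
  have hO : ∀ x, IsOpen (Points.ofPt c '' (A x : Set V.left)) := fun x => hc.isOpen_of_preimage (by
    have : Points.map c ⁻¹' (Points.ofPt c '' (A x : Set V.left)) = Points.schemeHomeo V '' (A x : Set V.left) := by
      ext p
      obtain ⟨v, rfl⟩ := (Points.schemeHomeo V).surjective p
      rw [Set.mem_preimage, show Points.map c (Points.schemeHomeo V v) = Points.ofPt c v from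
        (Points.ofPt_eq_map_ofScheme c v).symm, hinj.mem_set_image, (Points.schemeHomeo V).injective.mem_set_image]
    rw [this]
    exact (Points.schemeHomeo V).isOpenMap _ (A x).2)
  have key : ∀ x, ∃ W : Over S, Nonempty (subSheaf (Points.ofPt c '' (A x : Set V.left)) ≅ (yon S).obj W) := fun x => by
    let O := Points.ofPt c '' (A x : Set V.left)
    have hj : RepWith @IsOpenImmersion (subInc O) := repWith_subInc (hO x)
    have hQ : IsAlgSpace (subSheaf O) := isAlgSpace_subSheaf hV' (hO x)
    obtain ⟨V₁, c₁, i, sq₁, hi⟩ := exists_repWith hj c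
    have : IsOpenImmersion i.left := hi
    have hri : Set.range i.left = A x := by
      ext v
      constructor
      · rintro ⟨z, rfl⟩
        rw [SetLike.mem_coe, ← SetLike.mem_coe, ← hinj.mem_set_image, ← ofPt_comp]
        rw [← sq₁.w, ← Points.map_ofPt]
        exact map_subInc_mem _
      · intro hv
        obtain ⟨y, hy⟩ : Points.ofPt c v ∈ Set.range (Points.map (subInc O)) := by
          rw [range_subInc]; exact ⟨v, hv, rfl⟩
        obtain ⟨p, -, hp⟩ := exists_point_of_isPullback sq₁ y (Points.ofScheme V v) (by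
          rw [hy, Points.ofPt_eq_map_ofScheme c v])
        obtain ⟨z, rfl⟩ := (Points.schemeHomeo V₁).surjective p
        rw [Points.map_yon_map_apply] at hp
        exact ⟨z, (Points.schemeHomeo V).injective hp⟩
    have : IsAffine V₁.left := by
      have hr : i.left.opensRange = A x := TopologicalSpace.Opens.ext hri
      have : IsAffine (A x).toScheme := hA x
      exact .of_isIso (IsOpenImmersion.isoOfRangeEq i.left (A x).ι (by rw [hri, Scheme.Opens.range_ι])).hom
    have hc₁ : EtInvariance.IsUH c₁ := hc.baseChange sq₁.flip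
    obtain ⟨W₁, -, ⟨e₁⟩⟩ := isAff_of_univClosed_surj hQ ⟨V₁, ‹_›, ⟨Iso.refl _⟩⟩ c₁
      ((isUnivClosedMor_iff_repWith hc₁.rep).2 (repWith_mono (fun _ _ r hr => by
        have : IsIntegralHom r := hr
        exact (inferInstance : UniversallyClosed r)) hc₁.integral)) (isSurjectiveMor_of_repWith hc₁.surj)
    exact ⟨W₁, ⟨e₁.symm⟩⟩
  choose W hW using key
  obtain ⟨W', ⟨e⟩⟩ := exists_iso_yon_of_open_cover hV' W (fun x => (hW x).some.inv ≫ subInc _)
    (fun x => (repWith_iso_comp_iff _ _).2 (repWith_subInc (hO x))) fun p => by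
      obtain ⟨q, rfl⟩ := hc.bijective.2 p
      obtain ⟨v, rfl⟩ := (Points.schemeHomeo V).surjective q
      obtain ⟨y, hy⟩ : Points.map c (Points.schemeHomeo V v) ∈
          Set.range (Points.map (subInc (Points.ofPt c '' (A v : Set V.left)))) := by
        rw [range_subInc]
        exact ⟨v, hxA v, Points.ofPt_eq_map_ofScheme c v⟩
      refine ⟨v, Points.map (hW v).some.hom y, ?_⟩
      rw [← Points.map_comp, Iso.hom_inv_id_assoc, hy]
  exact ⟨W', ⟨e⟩⟩

theorem existsUnique_extend_et (hX' : IsAlgSpace X') (hi : EtInvariance.IsUH i) {E E' : EtOver X'}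
    (k : EtOver.bcObj hi.rep E ⟶ EtOver.bcObj hi.rep E') :
    ∃! φ : (yon S).obj E.obj.left ⟶ (yon S).obj E'.obj.left, φ ≫ E'.obj.hom = E.obj.hom ∧
      (yon S).map (hi.rep.snd E.obj.hom) ≫ φ = (yon S).map k.hom.left ≫ (yon S).map (hi.rep.snd E'.obj.hom) := by
  refine EtInvariance.existsUnique_extend (IsAlgSpace.yon_obj _) (IsAlgSpace.yon_obj _) (IsAlgSpace.yon_obj _) hX'
    E.obj.hom E'.obj.hom (isEtaleMor_of_repWith' E'.property) _
    (hi.baseChange (hi.rep.isPullback E.obj.hom)) _ ?_
  have h : (yon S).map k.hom.left ≫ hi.rep.fst E'.obj.hom = hi.rep.fst E.obj.hom := EtOver.w k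
  rw [Category.assoc, ← hi.rep.w, reassoc_of% h, hi.rep.w]

theorem isEquivalence_bc (hX : IsAlgSpace X) (hX' : IsAlgSpace X') (hi : EtInvariance.IsUH i) :
    (EtOver.bc hi.rep).IsEquivalence where
  faithful := ⟨fun {E E'} g g' e => EtOver.hom_ext _ _ ((yon S).map_injective
    ((existsUnique_extend_et hX' hi (EtOver.bcMap hi.rep g)).unique
      ⟨EtOver.w g, by rw [← Functor.map_comp, ← Functor.map_comp, EtOver.bcMap_snd]⟩
      ⟨EtOver.w g', by
        rw [show EtOver.bcMap hi.rep g = EtOver.bcMap hi.rep g' from e, ← Functor.map_comp, ← Functor.map_comp,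
          EtOver.bcMap_snd]⟩))⟩
  full := ⟨fun {E E'} k => by
    obtain ⟨φ, ⟨h1, h2⟩, -⟩ := existsUnique_extend_et hX' hi k
    obtain ⟨g, rfl⟩ := exists_map_eq φ
    refine ⟨EtOver.homMk g h1, EtOver.hom_ext _ _ (hi.rep.hom_ext ?_ ?_)⟩
    · exact (EtOver.map_bcMap_fst hi.rep _).trans (EtOver.w k).symm
    · refine (EtOver.bcMap_snd hi.rep _).trans ((yon S).map_injective ?_)
      rw [Functor.map_comp, Functor.map_comp]
      exact h2⟩
  essSurj := ⟨fun E₀ => by
    obtain ⟨V', a, c, hV', ha, sq⟩ := EtInvariance.exists_descend hX hX' (IsAlgSpace.yon_obj _) i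
      hi E₀.obj.hom (isEtaleMor_of_repWith' E₀.property)
    obtain ⟨W', ⟨θ₀⟩⟩ := exists_iso_yon_of_uh hV' c (hi.baseChange sq)
    let θ := θ₀.symm
    let E : EtOver X' := EtOver.mk (θ.hom ≫ a) (ha θ.hom (repWith_of_isIso θ.hom))
    have sq' : IsPullback E₀.obj.hom (c ≫ θ.inv) i (θ.hom ≫ a) :=
      sq.of_iso (Iso.refl _) (Iso.refl _) θ.symm (Iso.refl _) (by simp) (by simp) (by simp) (by simp)
    let e := (hi.rep.isPullback E.obj.hom).isoIsPullback _ _ sq'
    have he : e.hom ≫ E₀.obj.hom = hi.rep.fst E.obj.hom :=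
      (hi.rep.isPullback E.obj.hom).isoIsPullback_hom_fst _ _ sq'
    let e' := (yon S).preimageIso e
    have w1 : (yon S).map e'.hom ≫ E₀.obj.hom = (EtOver.bcObj hi.rep E).obj.hom := by
      rw [show (yon S).map e'.hom = e.hom from (yon S).map_preimage _]
      exact he
    exact ⟨E, ⟨{ hom := EtOver.homMk e'.hom w1
                 inv := EtOver.homMk e'.inv (by
                  show (yon S).map e'.inv ≫ (EtOver.bcObj hi.rep E).obj.hom = _
                  rw [← w1, ← Category.assoc, ← Functor.map_comp, e'.inv_hom_id, (yon S).map_id, Category.id_comp])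
                 hom_inv_id := EtOver.hom_ext _ _ e'.hom_inv_id
                 inv_hom_id := EtOver.hom_ext _ _ e'.inv_hom_id }⟩⟩⟩

theorem isAffine_bc_iff (hi : EtInvariance.IsUH i) (E : EtOver X') :
    IsAffine E.obj.left.left ↔ IsAffine ((EtOver.bc hi.rep).obj E).obj.left.left := by
  have h : IsIntegralHom (hi.rep.snd E.obj.hom).left :=
    hi.integral.2 _ _ _ (hi.rep.isPullback E.obj.hom)
  have hs : Surjective (hi.rep.snd E.obj.hom).left := hi.surj.2 _ _ _ (hi.rep.isPullback E.obj.hom)
  refine ⟨fun hE => ?_, fun hE => ?_⟩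
  · exact isAffine_of_isAffineHom (hi.rep.snd E.obj.hom).left
  · have : IsAffine (hi.rep.pullback E.obj.hom).left := hE
    exact AbsApprox.isAffine_of_universallyClosed (hi.rep.snd E.obj.hom).left

end Groth.Agent.SpChev
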