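import Groth.Agent.SpQS.UnivClosedQC
import Groth.Agent.ColimEtale.Sep
import Groth.Agent.SchImg.QcImage
import Groth.Agent.AlgSpLib.SepAffine
import Groth.Agent.AlgSpLib.QCompact
import Groth.Agent.AlgSpLib.Graph

/-!
# Separated spaces receiving affine schemes
-/

set_option autoImplicit false

universe u

open CategoryTheory CategoryTheory.Limits AlgebraicGeometry

set_option backward.isDefEq.respectTransparency false

namespace Groth.Agent.SpChev

open _root_.AlgSp Groth.Agent.AlgSpLib

variable {S : Scheme.{u}}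

/-- being isomorphic to an affine scheme -/
def IsAff (Y : Sp S) : Prop := ∃ T : Over S, IsAffine T.left ∧ Nonempty ((yon S).obj T ≅ Y)

theorem IsAff.of_iso {X Y : Sp S} (h : IsAff X) (e : X ≅ Y) : IsAff Y :=
  let ⟨T, hT, ⟨e'⟩⟩ := h; ⟨T, hT, ⟨e' ≪≫ e⟩⟩

theorem isAffine_base (hS : IsTerminal S) : IsAffine S :=
  IsAffine.of_isIso (hS.uniqueUpToIso specULiftZIsTerminal).hom

theorem isSeparatedSp_iff_mor {F : Sp S} (f : F ⟶ (yon S).obj (Over.mk (𝟙 S))) :
    IsSeparatedSp F ↔ IsSeparatedMor f := by
  let e : pullback f f ≅ F ⨯ F :=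
    { hom := prod.lift (pullback.fst f f) (pullback.snd f f)
      inv := pullback.lift prod.fst prod.snd (SpQS.isTerminalBase.hom_ext _ _)
      hom_inv_id := pullback.hom_ext (by simp) (by simp)
      inv_hom_id := prod.hom_ext (by simp) (by simp) }
  have he : pullback.diagonal f ≫ e.hom = Limits.diag F := prod.hom_ext (by simp [e]) (by simp [e])
  show RepWith @IsClosedImmersion (Limits.diag F) ↔ RepWith @IsClosedImmersion (pullback.diagonal f)
  have : IsIso e.hom := e.isIso_hom
  rw [← he]
  exact repWith_comp_iso_iff _ e.hom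

/-- maps from affine schemes to separated spaces are affine -/
theorem repWith_affine_of_affine (hS : IsTerminal S) {Y : Sp S} (hY : IsSeparatedSp Y) {W : Over S}
    [IsAffine W.left] (f : (yon S).obj W ⟶ Y) : RepWith @IsAffineHom f := by
  have := isAffine_base hS
  have hb : RepWith @IsAffineHom (SpQS.baseStr ((yon S).obj W)) := by
    rw [show SpQS.baseStr ((yon S).obj W) =
      (yon S).map (Over.homMk W.hom (Category.comp_id _) : W ⟶ Over.mk (𝟙 S)) from
        SpQS.isTerminalBase.hom_ext _ _]
    exact (repWith_yon_iff _).2 (isAffineHom_of_isAffine W.hom)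
  exact repWith_of_comp f _ (SpQS.baseStr Y) (SpQS.isTerminalBase.hom_ext _ _) hb
    (repWith_mono (P := @IsClosedImmersion) (fun _ _ r hr => by
      have : IsClosedImmersion r := hr
      exact (inferInstance : IsAffineHom r)) ((isSeparatedSp_iff_mor _).1 hY))

/-- integral over an affine scheme forces integral -/
theorem repWith_integral_of_over (hS : IsTerminal S) {Y : Sp S} (hYa : IsAlgSpace Y) (hY : IsSeparatedSp Y)
    {W T : Over S} [IsAffine W.left] (f : (yon S).obj W ⟶ Y) (g : Y ⟶ (yon S).obj T) {h : W ⟶ T}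
    (comm : f ≫ g = (yon S).map h) (hh : IsIntegralHom h.left) : RepWith @IsIntegralHom f := by
  have hr := repWith_affine_of_affine hS hY f
  have hp : RepWith @UniversallyClosed ((yon S).map h) :=
    (repWith_yon_iff h).2 (inferInstance : UniversallyClosed h.left)
  have hgs : IsSeparatedMor g :=
    ColimEtale.isSeparatedMor_cancel (SpQS.baseStr _) (by
      rw [show g ≫ SpQS.baseStr _ = SpQS.baseStr Y from SpQS.isTerminalBase.hom_ext _ _]
      exact (isSeparatedSp_iff_mor _).1 hY)
  have hc := ((isUnivClosedMor_and_proper_of_comp (IsAlgSpace.yon_obj W) hYa (IsAlgSpace.yon_obj T) f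
    ((yon S).map h) g comm hgs).1 ((isUnivClosedMor_iff_repWith hp.1).2 hp)).1
  exact (isIntegralMor_iff_repWith f).1
    ((isIntegralMor_iff f).2 ⟨(isAffineMor_iff_repWith f).2 hr, hc⟩)

/-- the image of an affine scheme under a universally closed map is separated and quasi-compact -/
theorem separated_of_image (hS : IsTerminal S) {Y : Sp S} (hY : IsAlgSpace Y) {W : Over S} [IsAffine W.left]
    (f : (yon S).obj W ⟶ Y) (hc : IsUnivClosedMor f) (hs : IsSurjectiveMor f) :
    IsSeparatedSp Y ∧ IsQuasiCompactSp Y := by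
  have := isAffine_base hS
  refine ⟨(isSeparatedSp_iff_mor (SpQS.baseStr Y)).2 ((SpQS.diagonal_qs_of_surjective (IsAlgSpace.yon_obj W) hY
    (IsAlgSpace.yon_obj _) f _ _ rfl hs hc).2 (ColimEtale.isSeparatedMor_of_affine_source ‹_› _)),
    isQuasiCompactSp_of_isSurjectiveMor hY f hs (isQuasiCompactSp_yon W)⟩

/-- a closed subspace is determined by its ideal -/
theorem nonempty_iso_of_pullIdeal {Y Z Z' : Sp S} (hY : IsAlgSpace Y) {U : Over S} {π : (yon S).obj U ⟶ Y}
    (hπ : RepWith @Etale π) (hπs : RepWith @Surjective π) {i : Z ⟶ Y} {i' : Z' ⟶ Y}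
    (hi : RepWith @IsClosedImmersion i) (hi' : RepWith @IsClosedImmersion i') {I : U.left.IdealSheafData}
    (h : SchImg.IsPullIdeal i π I) (h' : SchImg.IsPullIdeal i' π I) : Nonempty (Z ≅ Z') := by
  obtain ⟨a, ha⟩ := SchImg.exists_factor_of_le hi' (SchImg.isAlgSpace_of_closed hY hi) hY hπ hπs h'
    h.le_kerIdeal_self
  obtain ⟨b, hb⟩ := SchImg.exists_factor_of_le hi (SchImg.isAlgSpace_of_closed hY hi') hY hπ hπs h
    h'.le_kerIdeal_self
  have := SchImg.mono_of_closed hi
  have := SchImg.mono_of_closed hi'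
  exact ⟨⟨a, b, (cancel_mono i).1 (by rw [Category.assoc, hb, ha, Category.id_comp]),
    (cancel_mono i').1 (by rw [Category.assoc, ha, hb, Category.id_comp])⟩⟩

end Groth.Agent.SpChev
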