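import Groth.Agent.SpChev.FibreAffine
import Groth.Agent.SpChev.Results
import Groth.Agent.RelNorm.SheetsStrata
import Groth.Agent.SpQS.DecentProps
import Groth.Agent.ElemSq.Step
import Groth.Agent.AlgSpLib.RepUnivHomeo

/-!
# Separated universal homeomorphisms of algebraic spaces over affine schemes
-/

set_option autoImplicit false
set_option linter.style.haveILetI false

universe u

open CategoryTheory CategoryTheory.Limits AlgebraicGeometry Topology

set_option backward.isDefEq.respectTransparency false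

namespace Groth.Agent.SpChev

open _root_.AlgSp Groth.Agent.AlgSpLib

variable {S : Scheme.{u}}

/-- integral morphisms of affine schemes have no specialisations in their fibres -/
theorem eq_of_specializes_of_integral' {W V : Scheme.{u}} (f : W ⟶ V) [IsIntegralHom f] [IsAffine V]
    [IsAffine W] {z z' : W} (h : z' ⤳ z) (e : f z' = f z) : z' = z := by
  let hW := isAffineOpen_top W
  let hV := isAffineOpen_top V
  let φ := f.appTop.hom
  have hint : φ.IsIntegral := ((HasAffineProperty.iff_of_isAffine (P := @IsIntegralHom)).1 inferInstance).2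
  have hc : ∀ x : W, (hW.primeIdealOf ⟨x, trivial⟩).asIdeal.comap φ = (hV.primeIdealOf ⟨f x, trivial⟩).asIdeal :=
    fun x => by
      have := IsAffineOpen.comap_primeIdealOf_appLE ⊤ hV ⊤ hW (f := f) (x := x) le_top trivial
      rw [← this, show f.appLE ⊤ ⊤ le_top = f.appTop from Scheme.Hom.appLE_eq_app f]
      rfl
  have hle : hW.primeIdealOf ⟨z', trivial⟩ ≤ hW.primeIdealOf ⟨z, trivial⟩ :=
    (PrimeSpectrum.le_iff_specializes _ _).2 (hW.fromSpec.isEmbedding.toIsInducing.specializes_iff.1 (by
      rw [hW.fromSpec_primeIdealOf, hW.fromSpec_primeIdealOf]; exact h))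
  have hz : ∀ x : W, hW.fromSpec (hW.primeIdealOf ⟨x, trivial⟩) = x := fun x => hW.fromSpec_primeIdealOf _
  suffices he : hW.primeIdealOf ⟨z', trivial⟩ = hW.primeIdealOf ⟨z, trivial⟩ by
    rw [← hz z', he, hz]
  letI := φ.toAlgebra
  haveI : Algebra.IsIntegral Γ(V, ⊤) Γ(W, ⊤) := ⟨hint⟩
  by_contra hne
  have := Ideal.IsIntegral.comap_lt_comap (R := Γ(V, ⊤)) (lt_of_le_of_ne hle fun h => hne (PrimeSpectrum.ext h))
  rw [RingHom.algebraMap_toAlgebra, hc, hc, e] at this
  exact lt_irrefl _ this

set_option maxHeartbeats 2000000 in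
/-- a space separated and universally homeomorphic to an affine scheme is affine -/
theorem isAff_of_univHomeo [QuasiSeparatedSpace ↥S] {P : Sp S} (hPa : IsAlgSpace P) {Z : Over S}
    [IsAffine Z.left] (g : P ⟶ (yon S).obj Z) (hgs : IsSeparatedMor g) (hh : IsUnivHomeoMor g) : IsAff P := by
  have hhomeo : IsHomeomorph (Points.map g) := hh (IsAlgSpace.yon_obj Z) (𝟙 _) (𝟙 _) g IsPullback.of_id_fst
  have hgc : IsUnivClosedMor g := fun Z' Z'' hZ' a fst snd sq => (hh hZ' a fst snd sq).isClosedMap
  have hPqs : IsQuasiSeparatedSp P := isQuasiSeparatedSp_of_mor (ValLib.isQuasiSeparatedMor_of_separated _ hgs)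
    (ElemSq.isQuasiSeparatedSp_yon ‹_›)
  have : CompactSpace (Points ((yon S).obj Z)) := compactSpace_of_isQuasiCompactSp (isQuasiCompactSp_yon Z)
  have : CompactSpace (Points P) := (hhomeo.homeomorph (Points.map g)).symm.compactSpace
  have hPq : IsQuasiCompactSp P := isQuasiCompactSp_of_compactSpace hPa
  obtain ⟨U, b, hU, hbe, hbs⟩ := exists_affine_chart_of_compact hPa
  obtain ⟨W, gW, hgW, hgWs, -⟩ := RelNorm.exists_integral_cover ⟨P, hPa⟩ hPq hPqs b hbe hbs
  have hgWa : RepWith @IsAffineHom gW := repWith_mono (fun _ _ r hr => by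
    have : IsIntegralHom r := hr
    exact (inferInstance : IsAffineHom r)) hgW
  have hWq : IsQuasiCompactSp ((yon S).obj W) :=
    (SpDesc.qcqs_of_affine (IsAlgSpace.yon_obj W) hPa hgWa hPq hPqs).1
  have := compactSpace_of_isQuasiCompactSp hWq
  have : CompactSpace W.left := (Points.schemeHomeo W).symm.compactSpace
  obtain ⟨h, hcomp⟩ := exists_map_eq (gW ≫ g)
  have hr : Representable ((yon S).map h) := ((repWith_yon_iff (P := ⊤) h).2 trivial).1
  have : UniversallyClosed h.left := (repWith_yon_iff (P := @UniversallyClosed) h).1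
    ((isUnivClosedMor_iff_repWith hr).1 (hcomp ▸ isUnivClosedMor_comp hPa (IsAlgSpace.yon_obj Z)
      ((isUnivClosedMor_iff_repWith hgW.1).2 (repWith_mono (fun _ _ r hr => by
        have : IsIntegralHom r := hr
        exact (inferInstance : UniversallyClosed r)) hgW)) hgc))
  have hgWsep : IsSeparatedMor gW := (isSeparatedMor_iff_repWith (IsAlgSpace.yon_obj W) hPa hgW.1).2
    (repWith_mono (fun _ _ r hr => by
      have : IsIntegralHom r := hr
      exact (inferInstance : IsSeparated r)) hgW)
  have : IsSeparated h.left := (repWith_yon_iff (P := @IsSeparated) h).1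
    ((isSeparatedMor_iff_repWith (IsAlgSpace.yon_obj W) (IsAlgSpace.yon_obj Z) hr).1
      (hcomp ▸ isSeparatedMor_comp hgWsep hgs))
  have hWaff : IsAffine W.left := by
    refine isAffine_of_univClosed_fibres h.left fun a c e hac => ?_
    have hp : Points.ofPt gW a = Points.ofPt gW c := by
      refine hhomeo.injective ?_
      rw [Points.map_ofPt, Points.map_ofPt, ← hcomp, ← Category.comp_id ((yon S).map h), ofPt_comp, ofPt_comp, e]
    obtain ⟨WU, a', q, sq, hq⟩ := exists_repWith hgW b
    obtain ⟨m, rfl⟩ := exists_map_eq a'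
    have : IsIntegralHom q.left := hq
    have : IsAffine WU.left := isAffine_of_isAffineHom q.left
    have : Etale m.left := (repWith_yon_iff (P := @Etale) m).1 (repWith_baseChange sq.flip hbe)
    obtain ⟨c', rfl⟩ := ((repWith_yon_iff (P := @Surjective) m).1 (repWith_baseChange sq.flip hbs)).surj c
    obtain ⟨a', hac', rfl⟩ := Flat.generalizingMap m.left hac
    have hfib : ∀ x : WU.left, Points.ofPt b (q.left x) = Points.ofPt gW (m.left x) := fun x => by
      rw [← ofPt_comp, ← sq.w, ofPt_comp]
    have hgood := SpQS.goodAt_of_isDecent hPa (SpQS.isDecent_of_quasiSeparatedSp hPa hPqs)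
    have hqq : q.left c' = q.left a' := SpQS.eq_of_specializes_of_good hPa hbe
      (fun V b' hV hb' => by
        have := hV
        exact (hgood _).finite hPa hb')
      (by rw [hfib, hfib, hp]) (hac'.map q.left.continuous)
    rw [eq_of_specializes_of_integral' q.left hac' hqq.symm]
  exact isAff_of_univClosed_surj hPa ⟨W, hWaff, ⟨Iso.refl _⟩⟩ gW ((isUnivClosedMor_iff_repWith hgW.1).2
    (repWith_mono (fun _ _ r hr => by
      have : IsIntegralHom r := hr
      exact (inferInstance : UniversallyClosed r)) hgW)) (isSurjectiveMor_of_repWith hgWs)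

/-- separated universal homeomorphisms are representable and integral -/
theorem isIntegralMor_of_univHomeo [QuasiSeparatedSpace ↥S] {X Y : Sp S} (hX : IsAlgSpace X) (hY : IsAlgSpace Y)
    (f : X ⟶ Y) (hsep : IsSeparatedMor f) (hh : IsUnivHomeoMor f) : IsIntegralMor f := by
  refine (isIntegralMor_iff f).2 ⟨?_, fun Z' Z'' hZ' a fst snd sq => (hh hZ' a fst snd sq).isClosedMap⟩
  intro Z hZ gz
  have sq := IsPullback.of_hasPullback f gz
  obtain ⟨T, hT, ⟨e⟩⟩ := isAff_of_univHomeo (isAlgSpace_of_isPullback_space hY hX (IsAlgSpace.yon_obj Z) sq)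
    (pullback.snd f gz) (isSeparatedMor_baseChange sq hsep)
    (fun Z' Z'' hZ' a fst snd sq' => hh hZ' (a ≫ gz) (fst ≫ pullback.fst f gz) snd (sq'.paste_horiz sq))
  obtain ⟨j, hj⟩ := exists_map_eq (e.hom ≫ pullback.snd f gz)
  exact ⟨T, j, e.hom ≫ pullback.fst f gz,
    sq.of_iso e.symm (Iso.refl _) (Iso.refl _) (Iso.refl _) (by simp) (by simp [hj]) (by simp) (by simp), hT⟩

end Groth.Agent.SpChev
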