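import Groth.Agent.SpChev.FinQA
import Groth.Agent.AlgSpLib.ProperCrit
import Groth.Agent.AlgSpLib.StalkSupport
import Mathlib.AlgebraicGeometry.AffineSpace

/-!
# From an integral surjection of a quasi-affine scheme to a finite one
-/

set_option autoImplicit false
set_option linter.style.haveILetI false

universe u

open CategoryTheory CategoryTheory.Limits AlgebraicGeometry TopologicalSpace

set_option backward.isDefEq.respectTransparency false

namespace Groth.Agent.SpChev

open _root_.AlgSp Groth.Agent.AlgSpLib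

variable {S : Scheme.{u}}

/-- universally closed is cancelled by surjections -/
theorem repWith_univClosed_of_comp {X Y Z : Sp S} {m : X ⟶ Y} {g : Y ⟶ Z} (hg : Representable g)
    (hm : RepWith @Surjective m) (hc : RepWith @UniversallyClosed (m ≫ g)) : RepWith @UniversallyClosed g := by
  refine ⟨hg, fun U P ξ a b sq => ?_⟩
  obtain ⟨Q, a', b', sq', hb'⟩ := exists_repWith hm a
  have : Surjective b'.left := hb'
  have hbc := hc.2 ξ a' (b' ≫ b) (by
    rw [Functor.map_comp]
    exact IsPullback.paste_vert sq' sq)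
  exact @UniversallyClosed.of_comp_surjective _ _ _ b'.left b.left hbc ‹_›

set_option maxHeartbeats 2000000 in
/-- a finite surjection from a quasi-affine scheme, given an integral one -/
theorem exists_finite_qa {Y : Sp S} (hY : IsAlgSpace Y) {W : Over S} [W.left.IsQuasiAffine] [IsReduced W.left]
    {f : (yon S).obj W ⟶ Y} (hf : RepWith @IsIntegralHom f) (hfs : Function.Surjective (Points.ofPt f)) :
    ∃ (T : Over S) (g : (yon S).obj T ⟶ Y), T.left.IsQuasiAffine ∧ RepWith @IsFinite g ∧
      Function.Surjective (Points.ofPt g) := by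
  classical
  -- finitely many functions with affine loci
  have hcov : ∀ w : W.left, ∃ h : Γ(W.left, ⊤), w ∈ W.left.basicOpen h ∧ IsAffineOpen (W.left.basicOpen h) := fun w => by
    obtain ⟨V, ⟨h, hh, rfl⟩, hw, -⟩ := Opens.isBasis_iff_nbhd.1 (Scheme.IsQuasiAffine.isBasis_basicOpen W.left)
      (show w ∈ (⊤ : W.left.Opens) from trivial)
    exact ⟨h, hw, hh⟩
  choose hfun hw hha using hcov
  obtain ⟨s, hs⟩ := isCompact_univ.elim_finite_subcover (fun w : W.left => (W.left.basicOpen (hfun w) : Set W.left))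
    (fun w => (W.left.basicOpen _).isOpen) (fun w _ => Set.mem_iUnion.2 ⟨w, hw w⟩)
  let ι : Type u := ↥s
  let A : Over S := Over.mk (AffineSpace ι S ↘ S)
  let m : W ⟶ A := Over.homMk (AffineSpace.homOfVector W.hom fun i : ι => hfun i.1)
    (AffineSpace.homOfVector_over _ _)
  -- the product and the image
  let φ : (yon S).obj W ⟶ Y ⨯ (yon S).obj A := prod.lift f ((yon S).map m)
  have sqP : IsPullback (prod.fst : Y ⨯ (yon S).obj A ⟶ Y) prod.snd (SpQS.baseStr Y) (SpQS.baseStr _) :=
    IsPullback.of_is_product (prodIsProd Y ((yon S).obj A)) SpQS.isTerminalBase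
  have hbA : ∀ (P : MorphismProperty Scheme.{u}) [P.IsStableUnderBaseChange], P (AffineSpace ι S ↘ S) →
      RepWith P (prod.fst : Y ⨯ (yon S).obj A ⟶ Y) := fun P _ hP => by
    refine repWith_baseChange sqP.flip ?_
    rw [show SpQS.baseStr ((yon S).obj A) = (yon S).map (Over.homMk A.hom (Category.comp_id _) : A ⟶ Over.mk (𝟙 S))
      from SpQS.isTerminalBase.hom_ext _ _]
    exact (repWith_yon_iff _).2 hP
  have hfstA : RepWith @IsAffineHom (prod.fst : Y ⨯ (yon S).obj A ⟶ Y) := hbA _ inferInstance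
  have hfstT : RepWith @LocallyOfFiniteType (prod.fst : Y ⨯ (yon S).obj A ⟶ Y) := hbA _ inferInstance
  have hPa : IsAlgSpace (Y ⨯ (yon S).obj A) := isAlgSpace_of_repBySp (Representable.repBySp hfstA.1) hY
  have hfc : RepWith @UniversallyClosed f := repWith_mono (fun _ _ r hr => by
    have : IsIntegralHom r := hr
    exact (inferInstance : UniversallyClosed r)) hf
  have hsep : IsSeparatedMor (prod.fst : Y ⨯ (yon S).obj A ⟶ Y) :=
    (isSeparatedMor_iff_repWith hPa hY hfstA.1).2 (repWith_mono (fun _ _ r hr => by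
      have : IsAffineHom r := hr
      exact (inferInstance : IsSeparated r)) hfstA)
  have hφ := ((isUnivClosedMor_and_proper_of_comp (IsAlgSpace.yon_obj W) hPa hY φ f prod.fst (prod.lift_fst _ _)
    hsep).1 ((isUnivClosedMor_iff_repWith hfc.1).2 hfc))
  obtain ⟨Z, iZ, hZa, hic, hir, -⟩ := SpQS.exists_redInduced hPa hφ.2
  have hWr : IsReducedSp ((yon S).obj W) :=
    ⟨W, 𝟙 _, repWith_of_isIso _, repWith_of_isIso _, (inferInstance : IsReduced W.left)⟩
  obtain ⟨φ', hφ'⟩ := (exists_factor_closed hPa hic hWr φ).2 (by rw [hir])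
  have hmZ : Mono iZ := SchImg.mono_of_closed hic
  let g₀ : Z ⟶ Y := iZ ≫ prod.fst
  have hcomp : φ' ≫ g₀ = f := by rw [← Category.assoc, hφ', prod.lift_fst]
  have hφs : IsSurjectiveMor φ' := fun z => by
    obtain ⟨w, hw⟩ : Points.map iZ z ∈ Set.range (Points.map φ) := hir ▸ ⟨z, rfl⟩
    exact ⟨w, SchImg.injective_map_of_mono (i := iZ) (by rw [← Points.map_comp, hφ', hw])⟩
  have hφr : Representable φ' := Functor.relativelyRepresentable.of_diag hZa.diag _
  have hg₀a : RepWith @IsAffineHom g₀ := repWith_comp (repWith_mono (fun _ _ r hr => by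
    have : IsClosedImmersion r := hr
    exact (inferInstance : IsAffineHom r)) hic) hfstA
  have hg₀t : RepWith @LocallyOfFiniteType g₀ := repWith_comp (repWith_mono (fun _ _ r hr => by
    have : IsClosedImmersion r := hr
    exact (inferInstance : LocallyOfFiniteType r)) hic) hfstT
  have hg₀c : RepWith @UniversallyClosed g₀ :=
    repWith_univClosed_of_comp hg₀a.1 (repWith_surjective_of_isSurjectiveMor hφr hφs) (by rw [hcomp]; exact hfc)
  have hg₀ : RepWith @IsFinite g₀ := ⟨hg₀a.1, fun U P ξ a b sq => by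
    have h1 : IsAffineHom _ := hg₀a.2 ξ a b sq
    have h2 : LocallyOfFiniteType _ := hg₀t.2 ξ a b sq
    have h3 : UniversallyClosed _ := hg₀c.2 ξ a b sq
    exact (IsFinite.iff_isIntegralHom_and_locallyOfFiniteType _).2
      ⟨IsIntegralHom.iff_universallyClosed_and_isAffineHom.2 ⟨h3, h1⟩, h2⟩⟩
  have hφc : IsUnivClosedMor φ' := by
    have hsep' : IsSeparatedMor g₀ := (isSeparatedMor_iff_repWith hZa hY hg₀a.1).2 (repWith_mono (fun _ _ r hr => by
      have : IsAffineHom r := hr
      exact (inferInstance : IsSeparated r)) hg₀a)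
    exact ((isUnivClosedMor_and_proper_of_comp (IsAlgSpace.yon_obj W) hZa hY φ' f g₀ hcomp hsep').1
      ((isUnivClosedMor_iff_repWith hfc.1).2 hfc)).1
  -- the affine pieces of the image
  let O : ι → A.left.Opens := fun i => A.left.basicOpen (AffineSpace.coord S i)
  let pA : Z ⟶ (yon S).obj A := iZ ≫ prod.snd
  let Wi : ι → Set (Points Z) := fun i => Points.map pA ⁻¹' (Points.schemeHomeo A '' (O i : Set A.left))
  have hWo : ∀ i, IsOpen (Wi i) := fun i =>
    ((Points.schemeHomeo A).isOpenMap _ (O i).isOpen).preimage (Points.continuous_map _)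
  have hpA : φ' ≫ pA = (yon S).map m := by rw [← Category.assoc, hφ', prod.lift_snd]
  have hpre : ∀ i : ι, Points.ofPt φ' ⁻¹' Wi i = (W.left.basicOpen (hfun i.1) : Set W.left) := fun i => by
    have e : m.left ⁻¹ᵁ O i = W.left.basicOpen (hfun i.1) := by
      show _ ⁻¹ᵁ A.left.basicOpen (AffineSpace.coord S i) = _
      rw [Scheme.preimage_basicOpen_top]
      exact congrArg _ (AffineSpace.homOfVector_appTop_coord _ _ i)
    ext w
    rw [← e]
    show Points.map pA (Points.ofPt φ' w) ∈ (Points.schemeHomeo A '' (O i : Set A.left) : Set _) ↔ m.left w ∈ O i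
    rw [ofPt_eq_map φ' w, ← Points.map_comp, hpA, Points.map_yon_map_apply]
    exact (Points.schemeHomeo A).injective.mem_set_image
  have hWaff : ∀ i, IsAff (subSheaf (Wi i)) := fun i => by
    obtain ⟨g', hg'⟩ := exists_factor_subInc (W := Wi i) ((yon S).map (Over.homMk (W.left.basicOpen (hfun i.1)).ι rfl :
      Over.mk ((W.left.basicOpen (hfun i.1)).ι ≫ W.hom) ⟶ W) ≫ φ') fun y => by
      obtain ⟨v, rfl⟩ := (Points.schemeHomeo _).surjective y
      rw [← ofPt_eq_map, ofPt_comp]
      show v.1 ∈ Points.ofPt φ' ⁻¹' Wi i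
      rw [hpre i]
      exact v.2
    have hφc' : RepWith @UniversallyClosed φ' := (isUnivClosedMor_iff_repWith hφr).1 hφc
    have hg'c : RepWith @UniversallyClosed g' :=
      repWith_baseChange (isPullback_subInc_of_preimage (hWo i) _ (hpre i) hg') hφc'
    refine isAff_of_univClosed_surj (isAlgSpace_subSheaf hZa (hWo i)) ⟨Over.mk ((W.left.basicOpen (hfun i.1)).ι ≫ W.hom), hha i.1, ⟨Iso.refl _⟩⟩ g'
      ((isUnivClosedMor_iff_repWith hg'c.1).2 hg'c) fun y => ?_
    obtain ⟨w, hw⟩ := hφs (Points.map (subInc (Wi i)) y)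
    obtain ⟨w, rfl⟩ := (Points.schemeHomeo W).surjective w
    have hwi : w ∈ W.left.basicOpen (hfun i.1) := by
      show w ∈ (W.left.basicOpen (hfun i.1) : Set W.left)
      rw [← hpre i]
      show Points.ofPt φ' w ∈ Wi i
      rw [ofPt_eq_map, hw]
      exact map_subInc_mem y
    refine ⟨Points.schemeHomeo _ (⟨w, hwi⟩ : (W.left.basicOpen _).toScheme), SchImg.injective_map_of_mono (i := subInc (Wi i)) ?_⟩
    rw [← Points.map_comp, hg', ← ofPt_eq_map, ofPt_comp, ← hw, ← ofPt_eq_map]
    rfl
  have hWcov : ∀ z : Points Z, ∃ i, z ∈ Wi i := fun z => by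
    obtain ⟨w, rfl⟩ := hφs z
    obtain ⟨w, rfl⟩ := (Points.schemeHomeo W).surjective w
    obtain ⟨w', hw's, hw'⟩ := Set.mem_iUnion₂.1 (hs (Set.mem_univ w))
    refine ⟨⟨w', hw's⟩, ?_⟩
    rw [← ofPt_eq_map]
    show w ∈ Points.ofPt φ' ⁻¹' Wi ⟨w', hw's⟩
    rw [hpre]
    exact hw'
  choose Q hQa hQ using hWaff
  obtain ⟨T, ⟨θ⟩⟩ := exists_iso_yon_of_open_cover hZa Q
    (fun i => (hQ i).some.hom ≫ subInc (Wi i))
    (fun i => (repWith_iso_comp_iff _ _).2 (repWith_subInc (hWo i))) (fun z => by
      obtain ⟨i, hi⟩ := hWcov z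
      obtain ⟨y, hy⟩ := (range_subInc (Wi i)).symm ▸ hi
      exact ⟨i, Points.map (hQ i).some.inv y, by rw [← Points.map_comp, Iso.inv_hom_id_assoc, hy]⟩)
  refine ⟨T, θ.inv ≫ g₀, ?_, (repWith_iso_comp_iff _ _).2 hg₀, fun y => ?_⟩
  · obtain ⟨mT, hmT⟩ := exists_map_eq (θ.inv ≫ pA)
    have hpreT : ∀ i, Points.ofPt θ.inv ⁻¹' Wi i = (T.left.basicOpen (mT.left.appTop (AffineSpace.coord S i)) :
        Set T.left) := fun i => by
      ext t
      rw [← Scheme.preimage_basicOpen_top]
      show Points.map pA (Points.ofPt θ.inv t) ∈ (Points.schemeHomeo A '' (O i : Set A.left) : Set _) ↔ mT.left t ∈ O i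
      rw [ofPt_eq_map θ.inv t, ← Points.map_comp, ← hmT, Points.map_yon_map_apply]
      exact (Points.schemeHomeo A).injective.mem_set_image
    have hTaff : ∀ i, IsAffineOpen (T.left.basicOpen (mT.left.appTop (AffineSpace.coord S i))) := fun i => by
      obtain ⟨g', hg'⟩ := exists_factor_subInc (W := Wi i)
        ((yon S).map (Over.homMk (T.left.basicOpen (mT.left.appTop (AffineSpace.coord S i))).ι rfl :
          Over.mk ((T.left.basicOpen (mT.left.appTop (AffineSpace.coord S i))).ι ≫ T.hom) ⟶ T) ≫ θ.inv) fun y => by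
        obtain ⟨v, rfl⟩ := (Points.schemeHomeo _).surjective y
        rw [← ofPt_eq_map, ofPt_comp]
        show v.1 ∈ Points.ofPt θ.inv ⁻¹' Wi i
        rw [hpreT i]
        exact v.2
      have := (isPullback_subInc_of_preimage (hWo i) _ (hpreT i) hg').isIso_snd_of_isIso
      have := hQa i
      obtain ⟨e, he⟩ := exists_map_eq (g' ≫ (hQ i).some.inv)
      have : IsIso ((yon S).map e) := by rw [he]; infer_instance
      have : IsIso e := isIso_of_reflects_iso e (yon S)
      exact IsAffine.of_isIso e.left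
    have : CompactSpace T.left := by
      have : Finite ι := inferInstance
      refine ⟨?_⟩
      have hu : (Set.univ : Set T.left) =
          ⋃ i, (T.left.basicOpen (mT.left.appTop (AffineSpace.coord S i)) : Set T.left) := by
        refine (Set.eq_univ_of_forall fun t => ?_).symm
        obtain ⟨i, hi⟩ := hWcov (Points.ofPt θ.inv t)
        exact Set.mem_iUnion.2 ⟨i, by rw [← hpreT i]; exact hi⟩
      rw [hu]
      exact isCompact_iUnion fun i => (hTaff i).isCompact
    refine Scheme.IsQuasiAffine.of_forall_exists_mem_basicOpen _ fun t => ?_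
    obtain ⟨i, hi⟩ := hWcov (Points.ofPt θ.inv t)
    refine ⟨mT.left.appTop (AffineSpace.coord S i), hTaff i, ?_⟩
    show t ∈ (T.left.basicOpen _ : Set T.left)
    rw [← hpreT i]
    exact hi
  · obtain ⟨w, rfl⟩ := hfs y
    obtain ⟨t, ht⟩ := (Points.schemeHomeo T).surjective (Points.map θ.hom (Points.ofPt φ' w))
    exact ⟨t, by rw [ofPt_eq_map, ht, ← Points.map_comp, Iso.hom_inv_id_assoc, Points.map_ofPt, hcomp]⟩

end Groth.Agent.SpChev
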