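import Groth.Agent.SpChev.Pinch
import Groth.Agent.GenFin.Affines
import Groth.Agent.SchImg.ValPoint
import Groth.Agent.SpQS.FiniteFibreNhd

/-!
# The function field of an irreducible reduced separated space
-/

set_option autoImplicit false
set_option linter.style.haveILetI false

universe u

open CategoryTheory CategoryTheory.Limits AlgebraicGeometry Topology

set_option backward.isDefEq.respectTransparency false

namespace Groth.Agent.SpChev

open _root_.AlgSp Groth.Agent.AlgSpLib

/-- functions on an affine open of an affine scheme become global after multiplying by a function supported on it -/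
theorem exists_mul_mem_of_openImmersion {U V : Scheme.{u}} [IsAffine U] [IsAffine V] (j : V ⟶ U)
    [IsOpenImmersion j] {b : Γ(U, ⊤)} (hb : (U.basicOpen b : Set U) ⊆ Set.range j) (x : Γ(V, ⊤)) :
    ∃ (n : ℕ) (r : Γ(U, ⊤)), j.appTop r = j.appTop b ^ n * x := by
  let O := U.basicOpen b
  let O' := V.basicOpen (j.appTop b)
  have hO : j ⁻¹ᵁ O = O' := Scheme.preimage_basicOpen_top j b
  have : IsIso (j.app O) := j.isIso_app O hb
  obtain ⟨y, hy⟩ := (ConcreteCategory.bijective_of_isIso (j.app O ≫ V.presheaf.map (eqToHom hO.symm).op)).2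
    (V.presheaf.map (homOfLE (V.basicOpen_le _)).op x)
  have := (isAffineOpen_top U).isLocalization_basicOpen b
  obtain ⟨k, r, hr⟩ := IsLocalization.Away.surj b y
  have := (isAffineOpen_top V).isLocalization_basicOpen (j.appTop b)
  let res : Γ(V, ⊤) ⟶ Γ(V, O') := V.presheaf.map (homOfLE (V.basicOpen_le _)).op
  have key : ∀ z : Γ(U, ⊤), (j.app O ≫ V.presheaf.map (eqToHom hO.symm).op) (algebraMap Γ(U, ⊤) Γ(U, O) z) =
      res (j.appTop z) := fun z => by
    show (U.presheaf.map _ ≫ j.app O ≫ V.presheaf.map _) z = (j.appTop ≫ res) z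
    rw [j.naturality_assoc, ← Functor.map_comp]
    exact rfl
  have h1 : res (j.appTop r) = res (j.appTop b ^ k * x) := by
    rw [← key, ← hr, map_mul, map_pow, key, map_mul, map_pow, hy, mul_comm]
  obtain ⟨⟨c, m, rfl⟩, hc⟩ := IsLocalization.exists_of_eq (M := Submonoid.powers (j.appTop b)) (S := Γ(V, O')) h1
  refine ⟨m + k, b ^ m * r, ?_⟩
  rw [map_mul, map_pow, pow_add, mul_assoc]
  exact hc

variable {S : Scheme.{u}}

set_option maxHeartbeats 4000000 in
/-- the generic point of a reduced irreducible separated space with a chart -/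
theorem exists_generic (hS : IsTerminal S) {Y : Sp S} (hYa : IsAlgSpace Y) (hY : IsSeparatedSp Y)
    [Nonempty (Points Y)] {U : Over S} [IsAffine U.left] [IsReduced U.left] {π : (yon S).obj U ⟶ Y}
    (hπe : RepWith @Etale π) (hπs : RepWith @Surjective π)
    (hirr : ∀ O₁ O₂ : Set (Points Y), IsOpen O₁ → IsOpen O₂ → O₁.Nonempty → O₂.Nonempty → (O₁ ∩ O₂).Nonempty) :
    ∃ (K : Type u) (_ : Field K) (η : (yon S).obj (Over.mk (hS.from (Spec (CommRingCat.of K)))) ⟶ Y)
      (UK : Over S) (ζ : UK ⟶ Over.mk (hS.from (Spec (CommRingCat.of K)))) (ξ : UK ⟶ U),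
      IsPullback ((yon S).map ζ) ((yon S).map ξ) η π ∧ IsAffine UK.left ∧ Function.Injective ξ.left.appTop ∧
      ∀ s : Finset K, ∃ b : Γ(U.left, ⊤), b ≠ 0 ∧ ∀ c ∈ s, ∃ r, ξ.left.appTop r =
        ξ.left.appTop b * ζ.left.appTop ((Scheme.ΓSpecIso (CommRingCat.of K)).inv c) := by
  have hqs : IsQuasiSeparatedSp Y := repWith_mono (fun _ _ r hr => by
    have : IsClosedImmersion r := hr
    infer_instance) hY
  obtain ⟨V, aV, hVa, hVne, ha, -⟩ := GenFin.exists_affine_open hYa (SpQS.isDecent_of_quasiSeparatedSp hYa hqs)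
    isOpen_univ Set.univ_nonempty
  obtain ⟨UV, v', j, sqV, hj⟩ := exists_repWith ha π
  obtain ⟨v, rfl⟩ := exists_map_eq v'
  have : IsOpenImmersion j.left := hj
  have hve : Etale v.left := (repWith_yon_iff (P := @Etale) v).1 (repWith_baseChange sqV.flip hπe)
  have hvs : Surjective v.left := (repWith_yon_iff (P := @Surjective) v).1 (repWith_baseChange sqV.flip hπs)
  have : IsAffine UV.left := by
    obtain ⟨W₁, z₁, q₁, sq₁, hq₁⟩ := exists_repWith (repWith_affine_of_affine hS hY aV) π
    obtain ⟨m, hm⟩ := exists_map_eq (sqV.isoIsPullback _ _ sq₁).hom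
    have : IsIso ((yon S).map m) := by rw [hm]; infer_instance
    have : IsIso m := isIso_of_fully_faithful (yon S) m
    have : IsIso m.left := inferInstanceAs (IsIso ((Over.forget S).map m))
    have : IsAffineHom q₁.left := hq₁
    have : IsAffine W₁.left := isAffine_of_isAffineHom q₁.left
    exact IsAffine.of_isIso m.left
  have : IsReduced UV.left := isReduced_of_isOpenImmersion j.left
  have hVred : IsReduced V.left := by
    have : _root_.IsReduced Γ(V.left, ⊤) :=
      isReduced_of_injective v.left.appTop.hom (appTop_injective_of_flat_surjective v.left)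
    exact isReduced_of_isOpenImmersion V.left.isoSpec.hom
  have hinj : Function.Injective (Points.map aV) := by
    have : Mono aV := mono_of_repWith_immersion (repWith_mono (P := @IsOpenImmersion) (Q := @IsImmersion)
      (fun _ _ g hg => have : IsOpenImmersion g := hg; inferInstance) ha)
    exact SchImg.injective_map_of_mono
  have hopen : IsOpenMap (Points.ofPt aV) :=
    isOpenMap_ofPt (repWith_universallyOpen_of_etale (repWith_mono (fun _ _ g hg => by
      have : IsOpenImmersion g := hg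
      infer_instance) ha))
  have hopenπ : IsOpenMap (Points.ofPt π) := isOpenMap_ofPt (repWith_universallyOpen_of_etale hπe)
  have : PreirreducibleSpace V.left := ⟨fun O₁ O₂ h₁ h₂ ⟨x₁, _, hx₁⟩ ⟨x₂, _, hx₂⟩ => by
    obtain ⟨_, ⟨y₁, hy₁, rfl⟩, ⟨y₂, hy₂, e⟩⟩ := hirr _ _ (hopen _ h₁) (hopen _ h₂) ⟨_, x₁, hx₁, rfl⟩ ⟨_, x₂, hx₂, rfl⟩
    rw [Points.ofPt_eq_map_ofScheme, Points.ofPt_eq_map_ofScheme] at e
    obtain rfl := (Points.schemeEquiv V).injective (hinj e)
    exact ⟨y₂, trivial, hy₁, hy₂⟩⟩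
  have : IrreducibleSpace V.left := ⟨hVne⟩
  have : IsIntegral V.left := isIntegral_of_irreducibleSpace_of_isReduced _
  have : IsDomain Γ(V.left, ⊤) := inferInstance
  let K := FractionRing Γ(V.left, ⊤)
  let g : Over.mk (hS.from (Spec (CommRingCat.of K))) ⟶ V :=
    Over.homMk (Spec.map (CommRingCat.ofHom (algebraMap Γ(V.left, ⊤) K)) ≫ V.left.isoSpec.inv) (hS.hom_ext _ _)
  have hg : g.left.appTop = CommRingCat.ofHom (algebraMap Γ(V.left, ⊤) K) ≫ (Scheme.ΓSpecIso (CommRingCat.of K)).inv :=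
    appTop_specMap_isoSpec_inv V.left _
  obtain ⟨UK, ζ, w, sqK⟩ : ∃ (UK : Over S) (ζ : UK ⟶ Over.mk (hS.from (Spec (CommRingCat.of K)))) (w : UK ⟶ UV),
      IsPullback ζ.left w.left g.left v.left :=
    ⟨Over.mk (pullback.snd g.left v.left ≫ UV.hom), Over.homMk (pullback.fst g.left v.left) (hS.hom_ext _ _),
      Over.homMk (pullback.snd g.left v.left) rfl, IsPullback.of_hasPullback _ _⟩
  have : IsAffine (Over.mk (hS.from (Spec (CommRingCat.of K)))).left := inferInstanceAs (IsAffine (Spec _))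
  have : IsAffineHom v.left := isAffineHom_of_isAffine _
  have hUK : IsAffine UK.left := IsAffine.of_isPullback sqK
  have hwinj : Function.Injective w.left.appTop := by
    refine appTop_injective_of_isPullback sqK fun x y e => ?_
    rw [hg] at e
    exact IsFractionRing.injective Γ(V.left, ⊤) K ((ConcreteCategory.bijective_of_isIso (Scheme.ΓSpecIso (CommRingCat.of K)).inv).1 e)
  have hξinj : Function.Injective (w ≫ j).left.appTop := by
    refine (injective_iff_map_eq_zero (w ≫ j).left.appTop.hom).2 fun b hb => by_contra fun hb0 => ?_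
    have hjb : j.left.appTop b = 0 := hwinj (hb.trans (map_zero _).symm)
    obtain ⟨u, hu⟩ : (U.left.basicOpen b : Set U.left).Nonempty := by
      rw [Set.nonempty_iff_ne_empty]
      exact fun h => hb0 ((basicOpen_eq_bot_iff b).1 (TopologicalSpace.Opens.ext h))
    obtain ⟨x₀⟩ := hVne
    obtain ⟨_, ⟨u', hu', rfl⟩, x, -, e⟩ := hirr _ _ (hopenπ _ (U.left.basicOpen b).2) (hopen _ isOpen_univ)
      ⟨_, u, hu, rfl⟩ ⟨_, x₀, trivial, rfl⟩
    rw [Points.ofPt_eq_map_ofScheme, Points.ofPt_eq_map_ofScheme] at e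
    obtain ⟨p, -, hp⟩ := exists_point_of_isPullback sqV _ _ e
    obtain ⟨m, rfl⟩ := (Points.schemeEquiv UV).surjective p
    have hm : j.left m = u' := (Points.schemeEquiv U).injective <| show Points.ofScheme U _ = Points.ofScheme U _ from
      (show Points.ofPt (𝟙 _) (j.left m) = Points.map ((yon S).map j) (Points.ofPt (𝟙 _) m) by
        rw [Points.map_ofPt, Category.id_comp, ← ofPt_comp, Category.comp_id]).trans hp
    have hm' : m ∈ j.left ⁻¹ᵁ U.left.basicOpen b := show j.left m ∈ U.left.basicOpen b from hm ▸ hu'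
    rw [Scheme.preimage_basicOpen_top, hjb, Scheme.basicOpen_zero] at hm'
    exact hm'
  refine ⟨K, inferInstance, (yon S).map g ≫ aV, UK, ζ, w ≫ j, ?_, hUK, hξinj, fun s => ?_⟩
  · rw [(yon S).map_comp w j]
    exact (isPullback_yon_iff.2 sqK).paste_vert sqV
  -- denominators
  classical
  obtain ⟨m₀⟩ : Nonempty UV.left := hvs.surj hVne.some |>.nonempty
  obtain ⟨_, ⟨_, ⟨b₀, rfl⟩, rfl⟩, hmb, hb₀⟩ := (isBasis_basicOpen U.left).exists_subset_of_mem_open (Set.mem_range_self m₀)
    j.left.isOpenEmbedding.isOpen_range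
  have hb₀ne : b₀ ≠ 0 := by
    rintro rfl
    rw [Scheme.basicOpen_zero] at hmb
    exact hmb
  obtain ⟨e, he⟩ := IsLocalization.exist_integer_multiples_of_finset (nonZeroDivisors Γ(V.left, ⊤)) s
  choose r hr using he
  have lift : ∀ x : Γ(V.left, ⊤), ∃ (n : ℕ) (z : Γ(U.left, ⊤)),
      j.left.appTop z = j.left.appTop b₀ ^ n * v.left.appTop x :=
    fun x => exists_mul_mem_of_openImmersion j.left hb₀ _
  choose n z hz using lift
  let M := ∑ c : s, n (r c.1 c.2)
  have hcomm : ∀ x : Γ(V.left, ⊤), w.left.appTop (v.left.appTop x) =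
      ζ.left.appTop ((Scheme.ΓSpecIso (CommRingCat.of K)).inv (algebraMap Γ(V.left, ⊤) K x)) := fun x => by
    have h := congrArg (fun q : UK.left ⟶ V.left => q.appTop x) sqK.w
    simp only [Scheme.Hom.comp_appTop] at h
    rw [hg] at h
    exact h.symm
  have hξ : ∀ k x, (w ≫ j).left.appTop (b₀ ^ k * z x) = (w ≫ j).left.appTop b₀ ^ (k + n x) *
      ζ.left.appTop ((Scheme.ΓSpecIso (CommRingCat.of K)).inv (algebraMap Γ(V.left, ⊤) K x)) := fun k x => by
    rw [map_mul, map_pow, pow_add, mul_assoc, ← hcomm]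
    congr 1
    show w.left.appTop (j.left.appTop (z x)) = w.left.appTop (j.left.appTop b₀) ^ _ * _
    rw [hz, map_mul, map_pow]
  refine ⟨b₀ ^ M * z e.1, fun h0 => ?_, fun c hc => ⟨b₀ ^ (M + n e.1 - n (r c hc)) * z (r c hc), ?_⟩⟩
  · have h1 := congrArg (w ≫ j).left.appTop h0
    rw [hξ, map_zero] at h1
    have hu : IsUnit (ζ.left.appTop ((Scheme.ΓSpecIso (CommRingCat.of K)).inv (algebraMap Γ(V.left, ⊤) K e.1))) :=
      ((IsLocalization.map_units K e).map _).map _
    rw [hu.mul_left_eq_zero, ← map_pow] at h1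
    have : IsReduced U.left := ‹_›
    exact hb₀ne (IsNilpotent.eq_zero ⟨_, hξinj (h1.trans (map_zero _).symm)⟩)
  · have hle : n (r c hc) ≤ M + n e.1 :=
      (Finset.single_le_sum (f := fun c : s => n (r c.1 c.2)) (fun _ _ => Nat.zero_le _)
        (Finset.mem_univ ⟨c, hc⟩)).trans (Nat.le_add_right _ _)
    rw [hξ, hξ, Nat.sub_add_cancel hle, mul_assoc]
    congr 1
    exact (congrArg (fun t => ζ.left.appTop ((Scheme.ΓSpecIso (CommRingCat.of K)).inv t))
      ((hr c hc).trans (Algebra.smul_def _ _))).trans ((congrArg _ (map_mul _ _ _)).trans (map_mul _ _ _))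

end Groth.Agent.SpChev
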