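import Groth.Agent.SpChev.Prod

/-!
# Closures of graphs of the generic point
-/

set_option autoImplicit false
set_option linter.style.haveILetI false

universe u

open CategoryTheory CategoryTheory.Limits AlgebraicGeometry

set_option backward.isDefEq.respectTransparency false

namespace Groth.Agent.SpChev

open _root_.AlgSp Groth.Agent.AlgSpLib

/-- an integral map of affine schemes injective on functions is surjective -/
theorem surjective_of_injective_integral {X Y : Scheme.{u}} [IsAffine X] [IsAffine Y] (q : X ⟶ Y)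
    (hinj : Function.Injective q.appTop) (hint : q.appTop.hom.IsIntegral) : Surjective q := by
  have h : Surjective (Spec.map q.appTop) :=
    ⟨hint.comap_surjective hinj⟩
  have : q = X.isoSpec.hom ≫ Spec.map q.appTop ≫ Y.isoSpec.inv := by
    rw [Scheme.isoSpec_hom_naturality_assoc, Iso.hom_inv_id, Category.comp_id]
  rw [this]
  infer_instance

variable {S : Scheme.{u}}

set_option maxHeartbeats 4000000 in
/-- the closure of the graph of a function on the generic point -/
theorem exists_graph (hS : IsTerminal S) {Y : Sp S} (hYa : IsAlgSpace Y) (hY : IsSeparatedSp Y)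
    (hq : IsQuasiCompactSp Y) {U : Over S} [IsAffine U.left] {π : (yon S).obj U ⟶ Y}
    (hπe : RepWith @Etale π) (hπs : RepWith @Surjective π)
    {k UK : Over S} [IsAffine k.left] [IsAffine UK.left] {η : (yon S).obj k ⟶ Y} {ζ : UK ⟶ k} {ξ : UK ⟶ U}
    (sqK : IsPullback ((yon S).map ζ) ((yon S).map ξ) η π) (hξ : Function.Injective ξ.left.appTop)
    {Ω W₂ : Over S} [IsAffine Ω.left] [IsAffine W₂.left] {e : Ω ⟶ k} (he : Function.Injective e.left.appTop)
    {inc : Ω ⟶ W₂} (hinc : Function.Injective inc.left.appTop) {fW : (yon S).obj W₂ ⟶ Y}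
    (hfW : RepWith @IsIntegralHom fW) (hcomm : (yon S).map inc ≫ fW = (yon S).map e ≫ η)
    {T : Over S} [IsAffine T.left] (κ : k ⟶ T) (τ : W₂ ⟶ T) (hκ : inc ≫ τ = e ≫ κ)
    {UT : Over S} [IsAffine UT.left] {u : UT ⟶ U} {t : UT ⟶ T} {πT : (yon S).obj UT ⟶ Y ⨯ (yon S).obj T}
    (sqT : IsPullback πT ((yon S).map u) prod.fst π) (ht : πT ≫ prod.snd = (yon S).map t)
    {lK : UK ⟶ UT} (hlu : lK ≫ u = ξ) (hlt : lK ≫ t = ζ ≫ κ) :
    ∃ (Z : Sp S) (iT : Z ⟶ Y ⨯ (yon S).obj T), RepWith @IsClosedImmersion iT ∧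
      SchImg.IsPullIdeal iT πT lK.left.ker ∧ RepWith @IsIntegralHom (iT ≫ prod.fst) ∧
      RepWith @Surjective (iT ≫ prod.fst) ∧ (IsIntegralHom τ.left → IsAff Z) := by
  obtain ⟨⟨hPa, hPs, hPq, hfst⟩, -⟩ := exists_prod_chart hS hYa hY hq hπe hπs T
  have hπTe : RepWith @Etale πT := repWith_baseChange sqT.flip hπe
  have hπTs : RepWith @Surjective πT := repWith_baseChange sqT.flip hπs
  -- the graph of the generic point
  let γ : (yon S).obj k ⟶ Y ⨯ (yon S).obj T := prod.lift η ((yon S).map κ)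
  have hlK : (yon S).map lK ≫ πT = (yon S).map ζ ≫ γ := by
    refine prod.hom_ext ?_ ?_
    · rw [Category.assoc, sqT.w, ← Functor.map_comp_assoc, hlu, Category.assoc, prod.lift_fst, sqK.w]
    · rw [Category.assoc, ht, ← Functor.map_comp, hlt, Category.assoc, prod.lift_snd, Functor.map_comp]
  have sqγ : IsPullback ((yon S).map ζ) ((yon S).map lK) γ πT := by
    refine IsPullback.of_bot ?_ hlK.symm sqT
    rw [← Functor.map_comp, hlu, prod.lift_fst]
    exact sqK
  obtain ⟨R, r₁, r₂, sqR⟩ := exists_pullback hPa.diag πT πT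
  have hPqs : IsQuasiSeparatedSp (Y ⨯ (yon S).obj T) := repWith_mono (fun _ _ r hr => by
    have : IsClosedImmersion r := hr
    infer_instance) hPs
  have hγq : IsQuasiCompactMor γ :=
    have := isAffine_base hS
    SpQS.isQuasiCompactMor_of_qc_qs (IsAlgSpace.yon_obj _) hPa _ (isQuasiCompactSp_yon k) hPqs
  obtain ⟨Z, iT, hZa, hiT, hJ⟩ := SchImg.exists_closedSub hPa hπTe hπTs sqR lK.left.ker (by
    rw [← kerIdeal_eq_ker sqγ]
    exact SchImg.kerIdeal_invariant (IsAlgSpace.yon_obj _) hPa hγq hπTe sqR)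
  -- the pullback of the source
  obtain ⟨WU, a', b, sqW, hb⟩ := exists_repWith hfW π
  obtain ⟨a, rfl⟩ := exists_map_eq a'
  have : IsIntegralHom b.left := hb
  have : IsAffine WU.left := isAffine_of_isAffineHom b.left
  have : Etale a.left := (repWith_yon_iff (P := @Etale) a).1 (repWith_baseChange sqW.flip hπe)
  have : Etale ζ.left := (repWith_yon_iff (P := @Etale) ζ).1 (repWith_baseChange sqK.flip hπe)
  obtain ⟨ΩU, cΩ, iΩ, sqΩ⟩ : ∃ (ΩU : Over S) (cΩ : ΩU ⟶ Ω) (iΩ : ΩU ⟶ WU),
      IsPullback cΩ.left iΩ.left inc.left a.left :=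
    ⟨Over.mk (pullback.snd inc.left a.left ≫ WU.hom), Over.homMk (pullback.fst inc.left a.left) (hS.hom_ext _ _),
      Over.homMk (pullback.snd inc.left a.left) rfl, IsPullback.of_hasPullback _ _⟩
  have hiΩ : Function.Injective iΩ.left.appTop := appTop_injective_of_isPullback sqΩ hinc
  have sqΩ' := (isPullback_yon_iff.2 sqΩ).paste_vert sqW
  rw [hcomm, ← Functor.map_comp] at sqΩ'
  obtain ⟨lΩ, hlΩ⟩ := exists_map_eq (sqK.lift ((yon S).map (cΩ ≫ e)) ((yon S).map (iΩ ≫ b)) (by
    rw [Functor.map_comp, Category.assoc]; exact sqΩ'.w))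
  have hlΩ₁ : lΩ ≫ ζ = cΩ ≫ e := (yon S).map_injective (by rw [Functor.map_comp, hlΩ, sqK.lift_fst])
  have hlΩ₂ : lΩ ≫ ξ = iΩ ≫ b := (yon S).map_injective (by rw [Functor.map_comp, hlΩ, sqK.lift_snd])
  have hlΩinj : Function.Injective lΩ.left.appTop := by
    have sqe : IsPullback ((yon S).map cΩ) ((yon S).map lΩ) ((yon S).map e) ((yon S).map ζ) := by
      refine IsPullback.of_bot ?_ ?_ sqK
      · rw [← Functor.map_comp, hlΩ₂]
        exact sqΩ'
      · rw [← Functor.map_comp, ← Functor.map_comp, hlΩ₁]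
    exact appTop_injective_of_isPullback (isPullback_yon_iff.1 sqe) he
  let h : (yon S).obj W₂ ⟶ Y ⨯ (yon S).obj T := prod.lift fW ((yon S).map τ)
  obtain ⟨lW, hlW⟩ := exists_map_eq (sqT.lift ((yon S).map a ≫ h) ((yon S).map b) (by
    rw [Category.assoc, prod.lift_fst, sqW.w]))
  have hlW₁ : lW ≫ u = b := (yon S).map_injective (by rw [Functor.map_comp, hlW, sqT.lift_snd])
  have hlW₂ : (yon S).map lW ≫ πT = (yon S).map a ≫ h := by rw [hlW, sqT.lift_fst]
  have sqh : IsPullback ((yon S).map a) ((yon S).map lW) h πT := by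
    refine IsPullback.of_bot ?_ hlW₂.symm sqT
    rw [← Functor.map_comp, hlW₁, prod.lift_fst]
    exact sqW
  have key : lΩ ≫ lK = iΩ ≫ lW := by
    refine (yon S).map_injective (sqT.hom_ext ?_ ?_)
    · rw [Functor.map_comp, Functor.map_comp, Category.assoc, Category.assoc, hlK, hlW₂, ← Functor.map_comp_assoc,
        ← Functor.map_comp_assoc, hlΩ₁, ← (show cΩ ≫ inc = iΩ ≫ a from Over.OverMorphism.ext sqΩ.w)]
      refine prod.hom_ext ?_ ?_
      · simp only [γ, h, Category.assoc, prod.lift_fst, Functor.map_comp, hcomm]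
      · simp only [γ, h, Category.assoc, prod.lift_snd]
        rw [← Functor.map_comp, ← Functor.map_comp, Category.assoc, Category.assoc, hκ]
    · rw [← Functor.map_comp, ← Functor.map_comp, Category.assoc, Category.assoc, hlu, hlW₁, hlΩ₂]
  have hJW : lW.left.ker = lK.left.ker := by
    refine Scheme.IdealSheafData.ext_of_isAffine ?_
    rw [SpThick.ideal_ker_top, SpThick.ideal_ker_top]
    ext x
    have e1 : lΩ.left.appTop (lK.left.appTop x) = iΩ.left.appTop (lW.left.appTop x) :=
      congr($(congrArg (fun m : ΩU ⟶ UT => m.left.appTop) key).hom x)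
    refine ⟨fun hx => hlΩinj ?_, fun hx => hiΩ ?_⟩
    · rw [e1, show lW.left.appTop x = 0 from hx, map_zero, map_zero]
    · rw [← e1, show lK.left.appTop x = 0 from hx, map_zero, map_zero]
  obtain ⟨h', hh'⟩ := SchImg.exists_factor_of_le hiT (IsAlgSpace.yon_obj W₂) hPa hπTe hπTs hJ
    (f := h) (by rw [kerIdeal_eq_ker sqh, hJW])
  -- the chart of the closure
  obtain ⟨UZ, zU, v, sqv, hv⟩ := exists_repWith hiT πT
  have : IsClosedImmersion v.left := hv
  have : IsAffine UZ.left := isAffine_of_isAffineHom v.left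
  have hvJ : v.left.ker = lK.left.ker := (SpThick.isPullIdeal_ker sqv).unique hJ
  obtain ⟨lZ, hlZ⟩ := exists_map_eq (sqv.lift ((yon S).map a ≫ h') ((yon S).map lW) (by
    rw [Category.assoc, hh', hlW₂]))
  have hlZv : lZ ≫ v = lW := (yon S).map_injective (by rw [Functor.map_comp, hlZ, sqv.lift_snd])
  have hlZinj : Function.Injective lZ.left.appTop := by
    refine (injective_iff_map_eq_zero lZ.left.appTop.hom).2 fun y hy => ?_
    obtain ⟨x, rfl⟩ := v.left.app_surjective ⊤ (isAffineOpen_top _) y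
    have hx : x ∈ lW.left.ker.ideal ⟨⊤, isAffineOpen_top _⟩ := by
      rw [SpThick.ideal_ker_top, RingHom.mem_ker, ← hlZv]
      exact hy
    rw [hJW, ← hvJ, SpThick.ideal_ker_top] at hx
    exact hx
  let q₁ : UZ ⟶ U := v ≫ u
  have hq₁ : lZ ≫ q₁ = b := by rw [← Category.assoc, hlZv, hlW₁]
  have hq₁int : q₁.left.appTop.hom.IsIntegral := by
    refine RingHom.IsIntegral.tower_bot _ lZ.left.appTop.hom hlZinj ?_
    have e2 : (lZ ≫ q₁).left.appTop.hom = lZ.left.appTop.hom.comp q₁.left.appTop.hom := rfl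
    rw [← e2, hq₁]
    exact ((HasAffineProperty.iff_of_isAffine (P := @IsIntegralHom)).1 hb).2
  have hq₁inj : Function.Injective q₁.left.appTop := by
    refine (injective_iff_map_eq_zero q₁.left.appTop.hom).2 fun y hy => hξ ?_
    have hy' : u.left.appTop y ∈ v.left.ker.ideal ⟨⊤, isAffineOpen_top _⟩ := by
      rw [SpThick.ideal_ker_top]; exact hy
    rw [hvJ, SpThick.ideal_ker_top] at hy'
    rw [map_zero, ← hlu]
    exact hy'
  have hq₁i : IsIntegralHom q₁.left := (HasAffineProperty.iff_of_isAffine (P := @IsIntegralHom)).2 ⟨inferInstance, hq₁int⟩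
  have sq₁ : IsPullback zU ((yon S).map q₁) (iT ≫ prod.fst) π := by
    rw [Functor.map_comp]
    exact sqv.paste_vert sqT
  have hf₁ : RepWith @IsIntegralHom (iT ≫ prod.fst) := by
    have hcov : IsFppfCover (fun _ : PUnit.{u + 1} => (yon S).obj U) (fun _ => π) :=
      ⟨fun _ => ⟨(locP_iff_repWith etST_flat hYa hπe.1).2 (repWith_mono (fun _ _ r hr => by
          have : Etale r := hr
          infer_instance) hπe),
        (locP_iff_repWith etST_lfp hYa hπe.1).2 (repWith_mono (fun _ _ r hr => by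
          have : Etale r := hr
          infer_instance) hπe)⟩, fun x => ⟨PUnit.unit, isSurjectiveMor_of_repWith hπs x⟩⟩
    exact repWith_of_fppfCover @IsIntegralHom (fun _ _ r hr => by
      have : IsIntegralHom r := hr
      exact indQA_of_isAffineHom r) hYa (fun _ => IsAlgSpace.yon_obj U) hcov (iT ≫ prod.fst)
      (fun _ => (yon S).obj UZ) (fun _ => (yon S).map q₁) (fun _ => zU) (fun _ => sq₁)
      (fun _ => (repWith_yon_iff q₁).2 hq₁i)
  have hq₁s : Surjective q₁.left := surjective_of_injective_integral _ hq₁inj hq₁int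
  have hf₁s : RepWith @Surjective (iT ≫ prod.fst) := repWith_surjective_of_isSurjectiveMor hf₁.1 fun y => by
    obtain ⟨p, rfl⟩ := isSurjectiveMor_of_repWith hπs y
    obtain ⟨m, rfl⟩ := isSurjectiveMor_of_repWith ((repWith_yon_iff (P := @Surjective) q₁).2 hq₁s) p
    exact ⟨Points.map zU m, by rw [← Points.map_comp, sq₁.w, Points.map_comp]⟩
  refine ⟨Z, iT, hiT, hJ, hf₁, hf₁s, fun hτ => ?_⟩
  obtain ⟨hZa', hZs, -, -⟩ := good_of_closed hPa hPs hPq hiT
  have hg : h' ≫ iT ≫ prod.snd = (yon S).map τ := by rw [reassoc_of% hh', prod.lift_snd]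
  have hint := repWith_integral_of_over hS hZa hZs h' (iT ≫ prod.snd) hg hτ
  have hlZs : Surjective lZ.left := by
    refine surjective_of_injective_integral _ hlZinj ?_
    have : IsIntegralHom (lZ.left ≫ q₁.left) := by rw [← Over.comp_left, hq₁]; exact hb
    exact ((HasAffineProperty.iff_of_isAffine (P := @IsIntegralHom)).1 (IsIntegralHom.of_comp lZ.left q₁.left)).2
  refine isAff_of_integral_over hS hZa hZs h' (repWith_surjective_of_isSurjectiveMor hint.1 fun y => ?_)
    (iT ≫ prod.snd) hg hτ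
  obtain ⟨p, rfl⟩ := isSurjectiveMor_of_repWith (repWith_baseChange sqv.flip hπTs) y
  obtain ⟨m, rfl⟩ := isSurjectiveMor_of_repWith ((repWith_yon_iff (P := @Surjective) lZ).2 hlZs) p
  exact ⟨Points.map ((yon S).map a) m, by rw [← Points.map_comp, ← Points.map_comp, hlZ, sqv.lift_fst]⟩

end Groth.Agent.SpChev
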