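import Groth.Agent.SpChev.Prod

/-!
# Functoriality of products with affine schemes
-/

set_option autoImplicit false
set_option linter.style.haveILetI false

universe u

open CategoryTheory CategoryTheory.Limits AlgebraicGeometry

set_option backward.isDefEq.respectTransparency false

namespace Groth.Agent.SpChev

open _root_.AlgSp Groth.Agent.AlgSpLib

variable {S : Scheme.{u}}

/-- a closed subspace of an affine space is affine -/
theorem IsAff.of_closed {Y Z : Sp S} (h : IsAff Y) {i : Z ⟶ Y} (hi : RepWith @IsClosedImmersion i) : IsAff Z := by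
  obtain ⟨T, hT, ⟨e⟩⟩ := h
  obtain ⟨V, v₁, v₂, sq, hv₂⟩ := exists_repWith hi e.hom
  have := sq.isIso_fst_of_isIso
  have : IsClosedImmersion v₂.left := hv₂
  exact ⟨V, isAffine_of_isAffineHom v₂.left, ⟨asIso v₁⟩⟩

/-- the map of charts induced by a map of the affine factors -/
theorem exists_chart_map {Y : Sp S} {U : Over S} {π : (yon S).obj U ⟶ Y} {T T' : Over S} (g : T ⟶ T')
    {UT UT' : Over S} {u : UT ⟶ U} {t : UT ⟶ T} {πT : (yon S).obj UT ⟶ Y ⨯ (yon S).obj T}
    (sqT : IsPullback πT ((yon S).map u) prod.fst π) (ht : πT ≫ prod.snd = (yon S).map t)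
    {u' : UT' ⟶ U} {t' : UT' ⟶ T'} {πT' : (yon S).obj UT' ⟶ Y ⨯ (yon S).obj T'}
    (sqT' : IsPullback πT' ((yon S).map u') prod.fst π) (ht' : πT' ≫ prod.snd = (yon S).map t') :
    ∃ p : UT ⟶ UT', p ≫ u' = u ∧ p ≫ t' = t ≫ g ∧
      (yon S).map p ≫ πT' = πT ≫ prod.map (𝟙 Y) ((yon S).map g) := by
  obtain ⟨p, hp⟩ := exists_map_eq (sqT'.lift (πT ≫ prod.map (𝟙 Y) ((yon S).map g)) ((yon S).map u) (by
    rw [Category.assoc, prod.map_fst, Category.comp_id, sqT.w]))
  have h1 : (yon S).map p ≫ πT' = πT ≫ prod.map (𝟙 Y) ((yon S).map g) := by rw [hp, sqT'.lift_fst]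
  refine ⟨p, (yon S).map_injective (by rw [Functor.map_comp, hp, sqT'.lift_snd]), (yon S).map_injective ?_, h1⟩
  rw [Functor.map_comp, Functor.map_comp, ← ht', ← ht, reassoc_of% h1, prod.map_snd, Category.assoc]

/-- maps to a chart of a product are determined by the two components -/
theorem chart_ext {Y : Sp S} {U T UT W : Over S} {π : (yon S).obj U ⟶ Y} {u : UT ⟶ U} {t : UT ⟶ T}
    {πT : (yon S).obj UT ⟶ Y ⨯ (yon S).obj T}
    (sqT : IsPullback πT ((yon S).map u) prod.fst π) (ht : πT ≫ prod.snd = (yon S).map t)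
    {a b : W ⟶ UT} (h₁ : a ≫ u = b ≫ u) (h₂ : a ≫ t = b ≫ t) : a = b := by
  refine (yon S).map_injective (sqT.hom_ext (prod.hom_ext ?_ ?_) ?_)
  · rw [Category.assoc, Category.assoc, sqT.w, ← Functor.map_comp_assoc, h₁, Functor.map_comp_assoc]
  · rw [Category.assoc, Category.assoc, ht, ← Functor.map_comp, h₂, Functor.map_comp]
  · rw [← Functor.map_comp, h₁, Functor.map_comp]

/-- products with closed immersions -/
theorem repWith_prod_map_closed (Y : Sp S) {T T' : Over S} (s : T ⟶ T') [IsClosedImmersion s.left] :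
    RepWith @IsClosedImmersion (prod.map (𝟙 Y) ((yon S).map s)) := by
  have sqP : ∀ T : Over S, IsPullback (prod.fst : Y ⨯ (yon S).obj T ⟶ Y) prod.snd (SpQS.baseStr Y)
      (SpQS.baseStr _) := fun T => IsPullback.of_is_product (prodIsProd Y ((yon S).obj T)) SpQS.isTerminalBase
  have sq : IsPullback prod.snd (prod.map (𝟙 Y) ((yon S).map s)) ((yon S).map s) prod.snd := by
    refine IsPullback.of_bot ?_ (prod.map_snd _ _).symm (sqP T').flip
    rw [prod.map_fst, Category.comp_id,
      show (yon S).map s ≫ SpQS.baseStr ((yon S).obj T') = SpQS.baseStr _ from SpQS.isTerminalBase.hom_ext _ _]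
    exact (sqP T).flip
  exact repWith_baseChange sq ((repWith_yon_iff s).2 ‹_›)

end Groth.Agent.SpChev
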