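import Groth.Agent.SpChev.Integral
import Groth.Agent.SpThick.Closed
import Groth.Agent.SpDesc.Results
import Groth.Agent.AlgSpLib.PureMono
import Groth.Agent.AlgSpLib.CoverDesc

/-!
# A separated space pinched from an affine scheme along an affine closed subspace is affine
-/

set_option autoImplicit false
set_option linter.style.haveILetI false

universe u

open CategoryTheory CategoryTheory.Limits AlgebraicGeometry

set_option backward.isDefEq.respectTransparency false

namespace Groth.Agent.SpChev

open _root_.AlgSp Groth.Agent.AlgSpLib TensorProduct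

/-- injectivity of ring maps is stable under flat pushouts -/
theorem injective_of_isPushout {B X Y P : CommRingCat.{u}} {u : B ⟶ X} {v : B ⟶ Y} {u' : X ⟶ P} {v' : Y ⟶ P}
    (h : IsPushout u v u' v') (hv : v.hom.Flat) (hu : Function.Injective u) : Function.Injective v' := by
  algebraize [u.hom, v.hom]
  have ht := CommRingCat.isPushout_tensorProduct B X Y
  let e := ht.isoPushout ≪≫ h.isoPushout.symm
  have he : CommRingCat.ofHom Algebra.TensorProduct.includeRight.toRingHom ≫ e.hom = v' := by
    simp only [e, Iso.trans_hom, Iso.symm_hom]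
    exact (ht.inr_isoPushout_hom_assoc _).trans h.inr_isoPushout_inv
  rw [← he]
  exact (CategoryTheory.ConcreteCategory.bijective_of_isIso e.hom).1.comp
    (Algebra.TensorProduct.includeRight_injective hu)

/-- injectivity on global functions is stable under flat base change of affine schemes -/
theorem appTop_injective_of_isPullback {P X Y Z : Scheme.{u}} {fst : P ⟶ X} {snd : P ⟶ Y} {f : X ⟶ Z} {g : Y ⟶ Z}
    [IsAffine X] [IsAffine Y] [IsAffine Z] [Flat g] (h : IsPullback fst snd f g) (hf : Function.Injective f.appTop) :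
    Function.Injective snd.appTop :=
  injective_of_isPushout (isPushout_appTop_of_isPullback h) g.flat_appTop hf

variable {S : Scheme.{u}}

set_option maxHeartbeats 4000000 in
/-- pinching -/
theorem isAff_of_pinch (hS : IsTerminal S) {Y : Sp S} (hYa : IsAlgSpace Y) (hY : IsSeparatedSp Y)
    {U R : Over S} [IsAffine U.left] [IsAffine R.left] {π : (yon S).obj U ⟶ Y}
    (hπe : RepWith @Etale π) (hπs : RepWith @Surjective π) {p₁ p₂ : R ⟶ U}
    (sqR : IsPullback ((yon S).map p₁) ((yon S).map p₂) π π)
    {W W' : Over S} [IsAffine W.left] {f : (yon S).obj W ⟶ Y} (hf : RepWith @IsIntegralHom f)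
    (hfs : RepWith @Surjective f) {a : W' ⟶ W} {q : W' ⟶ U}
    (sqW : IsPullback ((yon S).map a) ((yon S).map q) f π) (hq : Function.Injective q.left.appTop)
    {C : Sp S} {i : C ⟶ Y} (hi : RepWith @IsClosedImmersion i) (hC : IsAff C) {I : U.left.IdealSheafData}
    (hI : SchImg.IsPullIdeal i π I)
    (hcond : ∀ x ∈ I.ideal ⟨⊤, isAffineOpen_top _⟩, ∀ b' : Γ(W'.left, ⊤),
      ∃ b, q.left.appTop b = q.left.appTop x * b') :
    IsAff Y := by
  obtain ⟨TC, hTC, ⟨eC⟩⟩ := hC
  have : IsAffineHom q.left := by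
    obtain ⟨W₁, a₁, q₁, sq₁, hq₁⟩ := exists_repWith hf π
    obtain ⟨m, hm⟩ := exists_map_eq (sqW.isoIsPullback _ _ sq₁).hom
    have e : m ≫ q₁ = q := (yon S).map_injective (by
      rw [Functor.map_comp, hm, IsPullback.isoIsPullback_hom_snd])
    have : IsIso ((yon S).map m) := by rw [hm]; infer_instance
    have : IsIso m := isIso_of_fully_faithful (yon S) m
    have : IsIso m.left := inferInstanceAs (IsIso ((Over.forget S).map m))
    have : IsIntegralHom q₁.left := hq₁
    rw [← e, Over.comp_left]
    infer_instance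
  have : IsAffine W'.left := isAffine_of_isAffineHom q.left
  have ha : Flat a.left ∧ Surjective a.left := by
    have he := (repWith_yon_iff (P := @Etale) a).1 (repWith_baseChange sqW.flip hπe)
    have hs := (repWith_yon_iff (P := @Surjective) a).1 (repWith_baseChange sqW.flip hπs)
    have : Etale a.left := he
    exact ⟨inferInstance, hs⟩
  have := ha.1
  have := ha.2
  have hp₁ : Flat p₁.left := by
    have he := (repWith_yon_iff (P := @Etale) p₁).1 (repWith_baseChange sqR.flip hπe)
    have : Etale p₁.left := he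
    infer_instance
  -- invariant functions
  let A : Subring Γ(U.left, ⊤) := RingHom.eqLocus p₁.left.appTop.hom p₂.left.appTop.hom
  let T : Over S := Over.mk (hS.from (Spec (CommRingCat.of A)))
  have : IsAffine T.left := inferInstanceAs (IsAffine (Spec _))
  let θ := Scheme.ΓSpecIso (CommRingCat.of A)
  let k : U ⟶ T := Over.homMk (U.left.isoSpec.hom ≫ Spec.map (CommRingCat.ofHom A.subtype)) (hS.hom_ext _ _)
  have hk : k.left.appTop = θ.hom ≫ CommRingCat.ofHom A.subtype := by
    show (U.left.toSpecΓ ≫ Spec.map _).appTop = _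
    rw [Scheme.Hom.comp_appTop, Scheme.toSpecΓ_appTop, Scheme.ΓSpecIso_naturality]
  have hk' : p₁ ≫ k = p₂ ≫ k := Over.OverMorphism.ext (ext_of_isAffine (by
    rw [Over.comp_left, Over.comp_left, Scheme.Hom.comp_appTop, Scheme.Hom.comp_appTop, hk, Category.assoc,
      Category.assoc]
    congr 1
    exact CommRingCat.hom_ext (RingHom.ext fun x => x.2)))
  have hcov : IsFppfCover (fun _ : PUnit.{u + 1} => (yon S).obj U) (fun _ => π) :=
    ⟨fun _ => ⟨(locP_iff_repWith etST_flat hYa hπe.1).2 (repWith_mono (fun _ _ r hr => by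
        have : Etale r := hr
        infer_instance) hπe),
      (locP_iff_repWith etST_lfp hYa hπe.1).2 (repWith_mono (fun _ _ r hr => by
        have : Etale r := hr
        infer_instance) hπe)⟩, fun x => ⟨PUnit.unit, isSurjectiveMor_of_repWith hπs x⟩⟩
  obtain ⟨g, hg⟩ : ∃ g : Y ⟶ (yon S).obj T, π ≫ g = (yon S).map k := by
    obtain ⟨g, hg⟩ := exists_desc_of_fppfCover (g := fun _ : PUnit.{u + 1} => π) (Z := (yon S).obj T) hYa
      (fun _ => IsAlgSpace.yon_obj U) hcov (fun _ => (yon S).map k) (fun _ _ => by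
        have h := sqR.isoPullback_inv_fst
        have h' := sqR.isoPullback_inv_snd
        rw [← h, ← h', Category.assoc, Category.assoc, ← Functor.map_comp, ← Functor.map_comp, hk'])
    exact ⟨g, hg PUnit.unit⟩
  obtain ⟨h, hh⟩ := exists_map_eq (f ≫ g)
  refine isAff_of_integral_over hS hYa hY f hfs g hh.symm ?_
  let ψ : A →+* Γ(W.left, ⊤) := (θ.inv ≫ h.left.appTop).hom
  have hψ : ∀ b : A, a.left.appTop (ψ b) = q.left.appTop b.1 := fun b => by
    have e : a ≫ h = q ≫ k := (yon S).map_injective (by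
      rw [Functor.map_comp, Functor.map_comp, hh, ← hg, reassoc_of% sqW.w])
    have e' : (a.left ≫ h.left).appTop = (q.left ≫ k.left).appTop := by rw [← Over.comp_left, e, Over.comp_left]
    rw [Scheme.Hom.comp_appTop, Scheme.Hom.comp_appTop, hk] at e'
    exact (congr($(e').hom (θ.inv b))).trans (congrArg (fun z : A => q.left.appTop z.1) (θ.inv_hom_id_apply b))
  have hainj := appTop_injective_of_flat_surjective a.left
  -- functions coming from `W` and `U` are invariant
  have key : ∀ (z : Γ(W.left, ⊤)) (b : Γ(U.left, ⊤)), q.left.appTop b = a.left.appTop z → ∃ c, ψ c = z := by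
    intro z b hb
    refine ⟨⟨b, ?_⟩, hainj ((hψ _).trans hb)⟩
    obtain ⟨R', r₁, r, sqR'⟩ : ∃ (R' : Over S) (r₁ : R' ⟶ W') (r : R' ⟶ R),
        IsPullback r₁.left r.left q.left p₁.left :=
      ⟨Over.mk (pullback.snd q.left p₁.left ≫ R.hom), Over.homMk (pullback.fst q.left p₁.left) (hS.hom_ext _ _),
        Over.homMk (pullback.snd q.left p₁.left) rfl, IsPullback.of_hasPullback _ _⟩
    have e₁ : r₁ ≫ q = r ≫ p₁ := Over.OverMorphism.ext sqR'.w
    obtain ⟨l, hl⟩ := exists_map_eq (sqW.lift ((yon S).map (r₁ ≫ a)) ((yon S).map (r ≫ p₂)) (by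
      rw [Functor.map_comp, Category.assoc, sqW.w, ← Functor.map_comp_assoc, e₁, Functor.map_comp,
        Functor.map_comp, Category.assoc, Category.assoc, sqR.w]))
    have hl₁ : l ≫ a = r₁ ≫ a := (yon S).map_injective (by rw [Functor.map_comp, hl, sqW.lift_fst])
    have hl₂ : l ≫ q = r ≫ p₂ := (yon S).map_injective (by rw [Functor.map_comp, hl, sqW.lift_snd])
    show p₁.left.appTop b = p₂.left.appTop b
    refine appTop_injective_of_isPullback sqR' hq ?_
    have h1 : r.left.appTop (p₁.left.appTop b) = r₁.left.appTop (a.left.appTop z) := by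
      rw [← hb]
      exact (congr($(congrArg (fun m : R' ⟶ U => m.left.appTop) e₁).hom b)).symm
    have h2 : r.left.appTop (p₂.left.appTop b) = l.left.appTop (a.left.appTop z) := by
      rw [← hb]
      exact (congr($(congrArg (fun m : R' ⟶ U => m.left.appTop) hl₂).hom b)).symm
    rw [h1, h2]
    exact (congr($(congrArg (fun m : R' ⟶ W => m.left.appTop) hl₁).hom z)).symm
  -- the closed pieces
  obtain ⟨WC, zW, vW, sqvW, hvW⟩ := exists_repWith hi f
  obtain ⟨UC, zU, vU, sqvU, hvU⟩ := exists_repWith hi π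
  obtain ⟨C', zC, vC, sqvC, hvC⟩ := exists_repWith hi ((yon S).map q ≫ π)
  have : IsClosedImmersion vW.left := hvW
  have : IsClosedImmersion vU.left := hvU
  have : IsClosedImmersion vC.left := hvC
  have : IsAffine WC.left := isAffine_of_isAffineHom vW.left
  obtain ⟨mW, hmW⟩ := exists_map_eq (zW ≫ eC.inv)
  obtain ⟨mU, hmU⟩ := exists_map_eq (zU ≫ eC.inv)
  have hmWint : IsIntegralHom mW.left := by
    refine (repWith_yon_iff (P := @IsIntegralHom) mW).1 ?_
    rw [hmW]
    exact (repWith_comp_iso_iff _ eC.inv).2 (repWith_baseChange sqvW.flip hf)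
  -- the ideal of the closed piece in the pulled back chart
  have hIC : vC.left.ker = I.comap q.left := (SpThick.isPullIdeal_ker sqvC).unique (hI.comap q)
  have hIP : vC.left.ker = vW.left.ker.comap a.left := by
    refine (SpThick.isPullIdeal_ker sqvC).unique ?_
    rw [← sqW.w]
    exact (SpThick.isPullIdeal_ker sqvW).comap a
  have hsub : ∀ b' ∈ vC.left.ker.ideal ⟨⊤, isAffineOpen_top _⟩, ∃ b, q.left.appTop b = b' := by
    rw [hIC, FpqcDescent.ideal_comap_of_isAffine]
    intro b' hb'
    suffices ∀ c, ∃ b, q.left.appTop b = c * b' by simpa using this 1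
    induction hb' using Submodule.span_induction with
    | mem y hy =>
      obtain ⟨x, hx, rfl⟩ := hy
      intro c
      obtain ⟨b, hb⟩ := hcond x hx c
      exact ⟨b, hb.trans (mul_comm _ _)⟩
    | zero => exact fun c => ⟨0, by rw [map_zero, mul_zero]⟩
    | add y y' _ _ hy hy' =>
      intro c
      obtain ⟨x, hx⟩ := hy c
      obtain ⟨x', hx'⟩ := hy' c
      exact ⟨x + x', by rw [map_add, hx, hx', mul_add]⟩
    | smul d y _ hy =>
      intro c
      obtain ⟨x, hx⟩ := hy (c * d)
      exact ⟨x, by rw [hx, smul_eq_mul, mul_assoc]⟩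
  have hkerW : ∀ z : Γ(W.left, ⊤), vW.left.appTop z = 0 → ∃ c, ψ c = z := fun z hz => by
    have : a.left.appTop z ∈ vC.left.ker.ideal ⟨⊤, isAffineOpen_top _⟩ := by
      rw [hIP, FpqcDescent.ideal_comap_of_isAffine, SpThick.ideal_ker_top]
      exact Ideal.mem_map_of_mem _ hz
    obtain ⟨b, hb⟩ := hsub _ this
    exact key z b hb
  have hlift : ∀ c : Γ(TC.left, ⊤), ∃ b : A, vW.left.appTop (ψ b) = mW.left.appTop c := fun c => by
    obtain ⟨z, hz⟩ := vW.left.app_surjective ⊤ (isAffineOpen_top _) (mW.left.appTop c)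
    obtain ⟨b, hb⟩ := vU.left.app_surjective ⊤ (isAffineOpen_top _) (mU.left.appTop c)
    obtain ⟨mC, hmC⟩ := exists_map_eq (zC ≫ eC.inv)
    have hz' : vC.left.appTop (a.left.appTop z) = mC.left.appTop c := by
      obtain ⟨l, hl⟩ := exists_map_eq (sqvW.lift zC ((yon S).map (vC ≫ a)) (by
        rw [Functor.map_comp, Category.assoc, sqvC.w, sqW.w]))
      have h1 : l ≫ vW = vC ≫ a := (yon S).map_injective (by rw [Functor.map_comp, hl, sqvW.lift_snd])
      have h2 : l ≫ mW = mC := (yon S).map_injective (by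
        rw [Functor.map_comp, hl, hmW, hmC, sqvW.lift_fst_assoc])
      have e1 : (l ≫ vW).left.appTop z = (vC ≫ a).left.appTop z := by rw [h1]
      rw [← h2]
      exact e1.symm.trans (congrArg l.left.appTop hz)
    have hb' : vC.left.appTop (q.left.appTop b) = mC.left.appTop c := by
      obtain ⟨l, hl⟩ := exists_map_eq (sqvU.lift zC ((yon S).map (vC ≫ q)) (by
        rw [Functor.map_comp, Category.assoc, sqvC.w]))
      have h1 : l ≫ vU = vC ≫ q := (yon S).map_injective (by rw [Functor.map_comp, hl, sqvU.lift_snd])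
      have h2 : l ≫ mU = mC := (yon S).map_injective (by
        rw [Functor.map_comp, hl, hmU, hmC, sqvU.lift_fst_assoc])
      have e1 : (l ≫ vU).left.appTop b = (vC ≫ q).left.appTop b := by rw [h1]
      rw [← h2]
      exact e1.symm.trans (congrArg l.left.appTop hb)
    obtain ⟨d, hd⟩ := hsub (a.left.appTop z - q.left.appTop b) (by
      rw [SpThick.ideal_ker_top, RingHom.mem_ker, map_sub]
      exact sub_eq_zero.2 (hz'.trans hb'.symm))
    obtain ⟨e, he⟩ := key z (b + d) (by rw [map_add, hd, add_sub_cancel])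
    exact ⟨e, by rw [he]; exact hz⟩
  -- integrality
  have hint : ψ.IsIntegral := fun x => by
    obtain ⟨-, hmi⟩ := (HasAffineProperty.iff_of_isAffine (P := @IsIntegralHom)).1 hmWint
    obtain ⟨p, hp, hpx⟩ := hmi (vW.left.appTop x)
    obtain ⟨Q, hQ, -, hQm⟩ := Polynomial.lifts_and_natDegree_eq_and_monic (f := (vW.left.appTop.hom.comp ψ))
      (p := p.map mW.left.appTop.hom) (by
        rw [Polynomial.lifts_iff_coeff_lifts]
        intro n
        rw [Polynomial.coeff_map]
        exact hlift _) (hp.map _)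
    have hz : vW.left.appTop (Q.eval₂ ψ x) = 0 := by
      rw [Polynomial.hom_eval₂, ← Polynomial.eval_map, hQ, Polynomial.eval_map]
      exact hpx
    obtain ⟨c, hc⟩ := hkerW _ hz
    by_cases hd : Q.natDegree = 0
    · rw [Polynomial.eq_one_of_monic_natDegree_zero hQm hd] at hz
      rw [Polynomial.eval₂_one] at hz
      obtain ⟨c', hc'⟩ := hkerW x (by rw [← mul_one x, map_mul, hz, mul_zero])
      rw [← hc']
      exact ψ.isIntegralElem_map
    · refine ⟨Q - Polynomial.C c, hQm.sub_of_left ?_, ?_⟩
      · exact lt_of_le_of_lt Polynomial.degree_C_le (Polynomial.natDegree_pos_iff_degree_pos.1 (Nat.pos_of_ne_zero hd))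
      · rw [Polynomial.eval₂_sub, Polynomial.eval₂_C, hc, sub_self]
  refine (HasAffineProperty.iff_of_isAffine (P := @IsIntegralHom)).2 ⟨inferInstance, ?_⟩
  have e : h.left.appTop.hom = ψ.comp θ.hom.hom := by
    show _ = (θ.hom ≫ θ.inv ≫ h.left.appTop).hom
    rw [Iso.hom_inv_id_assoc]
  rw [e]
  exact RingHom.IsIntegral.trans _ _ (RingHom.isIntegral_of_surjective _
    (CategoryTheory.ConcreteCategory.bijective_of_isIso θ.hom).2) hint

end Groth.Agent.SpChev
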