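import Groth.Agent.SpChev.Chain
import Groth.Agent.SpChev.Pinch

/-!
# Products of a space with affine schemes, and graphs
-/

set_option autoImplicit false
set_option linter.style.haveILetI false

universe u

open CategoryTheory CategoryTheory.Limits AlgebraicGeometry

set_option backward.isDefEq.respectTransparency false

namespace Groth.Agent.SpChev

open _root_.AlgSp Groth.Agent.AlgSpLib TensorProduct

/-- a pushout of commutative rings is generated by the two images -/
theorem subring_eq_top_of_isPushout {B X Y P : CommRingCat.{u}} {f : B ⟶ X} {g : B ⟶ Y} {u' : X ⟶ P} {v' : Y ⟶ P}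
    (h : IsPushout f g u' v') (A : Subring P) (hX : ∀ x, u' x ∈ A) (hY : ∀ y, v' y ∈ A) : A = ⊤ := by
  algebraize [f.hom, g.hom]
  have ht := CommRingCat.isPushout_tensorProduct B X Y
  let e := ht.isoPushout ≪≫ h.isoPushout.symm
  have hl : CommRingCat.ofHom Algebra.TensorProduct.includeLeftRingHom ≫ e.hom = u' := by
    simp only [e, Iso.trans_hom, Iso.symm_hom]
    exact (ht.inl_isoPushout_hom_assoc _).trans h.inl_isoPushout_inv
  have hr : CommRingCat.ofHom Algebra.TensorProduct.includeRight.toRingHom ≫ e.hom = v' := by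
    simp only [e, Iso.trans_hom, Iso.symm_hom]
    exact (ht.inr_isoPushout_hom_assoc _).trans h.inr_isoPushout_inv
  refine eq_top_iff.2 fun p _ => ?_
  obtain ⟨z, rfl⟩ := (ConcreteCategory.bijective_of_isIso e.hom).2 p
  induction z using TensorProduct.induction_on with
  | zero => rw [map_zero]; exact A.zero_mem
  | tmul x y =>
    have : x ⊗ₜ[B] y = (x ⊗ₜ[B] (1 : Y)) * ((1 : X) ⊗ₜ[B] y) := by
      rw [Algebra.TensorProduct.tmul_mul_tmul, one_mul, mul_one]
    rw [this, map_mul]
    exact A.mul_mem (congr($(hl).hom x) ▸ hX x) (congr($(hr).hom y) ▸ hY y)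
  | add a b ha hb => rw [map_add]; exact A.add_mem (ha trivial) (hb trivial)

variable {S : Scheme.{u}}

set_option maxHeartbeats 1000000 in
/-- the product of a separated space with an affine scheme and its chart -/
theorem exists_prod_chart (hS : IsTerminal S) {Y : Sp S} (hYa : IsAlgSpace Y) (hY : IsSeparatedSp Y)
    (hq : IsQuasiCompactSp Y) {U : Over S} [IsAffine U.left] {π : (yon S).obj U ⟶ Y}
    (hπe : RepWith @Etale π) (hπs : RepWith @Surjective π) (T : Over S) [IsAffine T.left] :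
    (IsAlgSpace (Y ⨯ (yon S).obj T) ∧ IsSeparatedSp (Y ⨯ (yon S).obj T) ∧
      IsQuasiCompactSp (Y ⨯ (yon S).obj T) ∧ RepWith @IsAffineHom (prod.fst : Y ⨯ (yon S).obj T ⟶ Y)) ∧
    ∃ (UT : Over S) (u : UT ⟶ U) (t : UT ⟶ T) (πT : (yon S).obj UT ⟶ Y ⨯ (yon S).obj T),
      IsAffine UT.left ∧ IsPullback πT ((yon S).map u) prod.fst π ∧ πT ≫ prod.snd = (yon S).map t ∧
      RepWith @Etale πT ∧ RepWith @Surjective πT ∧
      ∀ A : Subring Γ(UT.left, ⊤), (∀ x, u.left.appTop x ∈ A) → (∀ x, t.left.appTop x ∈ A) → A = ⊤ := by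
  have := isAffine_base hS
  have sqP : IsPullback (prod.fst : Y ⨯ (yon S).obj T ⟶ Y) prod.snd (SpQS.baseStr Y) (SpQS.baseStr _) :=
    IsPullback.of_is_product (prodIsProd Y ((yon S).obj T)) SpQS.isTerminalBase
  let strT : T ⟶ Over.mk (𝟙 S) := Over.homMk T.hom (Category.comp_id _)
  have hbT : SpQS.baseStr ((yon S).obj T) = (yon S).map strT := SpQS.isTerminalBase.hom_ext _ _
  have hbaff : RepWith @IsAffineHom (SpQS.baseStr ((yon S).obj T)) := by
    rw [hbT]
    exact (repWith_yon_iff _).2 (isAffineHom_of_isAffine T.hom)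
  have hfst : RepWith @IsAffineHom (prod.fst : Y ⨯ (yon S).obj T ⟶ Y) := repWith_baseChange sqP.flip hbaff
  have hPa : IsAlgSpace (Y ⨯ (yon S).obj T) :=
    isAlgSpace_of_isPullback_space (IsAlgSpace.yon_obj _) hYa (IsAlgSpace.yon_obj T) sqP
  have hqs : IsQuasiSeparatedSp Y := repWith_mono (fun _ _ r hr => by
    have : IsClosedImmersion r := hr
    infer_instance) hY
  obtain ⟨hPq, -⟩ := SpDesc.qcqs_of_affine hPa hYa hfst hq hqs
  have hPs : IsSeparatedSp (Y ⨯ (yon S).obj T) := by
    refine (isSeparatedSp_iff_mor (SpQS.baseStr _)).2 ?_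
    rw [show SpQS.baseStr (Y ⨯ (yon S).obj T) = prod.fst ≫ SpQS.baseStr Y from SpQS.isTerminalBase.hom_ext _ _]
    exact isSeparatedMor_comp
      (isSeparatedMor_baseChange sqP.flip (ColimEtale.isSeparatedMor_of_affine_source ‹_› _))
      ((isSeparatedSp_iff_mor _).1 hY)
  refine ⟨⟨hPa, hPs, hPq, hfst⟩, ?_⟩
  obtain ⟨UT, πT, u, sq, hu⟩ := exists_repWith hfst π
  have : IsAffineHom u.left := hu
  have hUT : IsAffine UT.left := isAffine_of_isAffineHom u.left
  obtain ⟨t, ht⟩ := exists_map_eq (πT ≫ prod.snd)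
  refine ⟨UT, u, t, πT, hUT, sq, ht.symm, repWith_baseChange sq.flip hπe, repWith_baseChange sq.flip hπs, ?_⟩
  let strU : U ⟶ Over.mk (𝟙 S) := Over.homMk U.hom (Category.comp_id _)
  have sq' : IsPullback ((yon S).map u) ((yon S).map t) ((yon S).map strU) ((yon S).map strT) := by
    rw [ht, ← hbT, show (yon S).map strU = π ≫ SpQS.baseStr Y from SpQS.isTerminalBase.hom_ext _ _]
    exact sq.flip.paste_vert sqP
  have : IsAffine (Over.mk (𝟙 S)).left := ‹IsAffine S›
  exact fun A hu ht => subring_eq_top_of_isPushout (isPushout_appTop_of_isPullback (isPullback_yon_iff.1 sq')) A hu ht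

/-- the ideal killed by a map with a represented pullback to the chart is the kernel -/
theorem kerIdeal_eq_ker {X Y : Sp S} {f : X ⟶ Y} {U W : Over S} {φ : (yon S).obj U ⟶ Y}
    {z : (yon S).obj W ⟶ X} {v : W ⟶ U} (sq : IsPullback z ((yon S).map v) f φ) :
    SchImg.kerIdeal f φ = v.left.ker := by
  refine le_antisymm ?_ ((SchImg.kills_iff _ _ _).1 fun T z' α e => ?_)
  · rw [← SchImg.comap_eq_bot_iff]
    exact (SchImg.kills_iff _ _ _).2 le_rfl z v sq.w
  · obtain ⟨m, hm⟩ := exists_map_eq (sq.lift z' ((yon S).map α) e)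
    have hmv : m ≫ v = α := (yon S).map_injective (by rw [Functor.map_comp, hm, sq.lift_snd])
    rw [SchImg.comap_eq_bot_iff, ← show m.left ≫ v.left = α.left from congrArg (fun q => q.left) hmv]
    exact Scheme.Hom.le_ker_comp _ _

end Groth.Agent.SpChev
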