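import Groth.Agent.SpChev.Conj
import Groth.Agent.SpChev.Prod

/-!
# A domain integral over the source with coordinates on the generic point
-/

set_option autoImplicit false
set_option linter.style.haveILetI false

universe u

open CategoryTheory CategoryTheory.Limits AlgebraicGeometry

set_option backward.isDefEq.respectTransparency false

namespace Groth.Agent.SpChev

open _root_.AlgSp Groth.Agent.AlgSpLib

variable {S : Scheme.{u}}

/-- an affine scheme over a terminal base -/
noncomputable abbrev specT (hS : IsTerminal S) (R : Type u) [CommRing R] : Over S :=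
  Over.mk (hS.from (Spec (CommRingCat.of R)))

instance (hS : IsTerminal S) (R : Type u) [CommRing R] : IsAffine (specT hS R).left :=
  inferInstanceAs (IsAffine (Spec _))

/-- ring maps as maps over a terminal base -/
noncomputable def specTMap (hS : IsTerminal S) {R R' : Type u} [CommRing R] [CommRing R'] (f : R →+* R') :
    specT hS R' ⟶ specT hS R :=
  Over.homMk (Spec.map (CommRingCat.ofHom f)) (hS.hom_ext _ _)

theorem specTMap_comp (hS : IsTerminal S) {R R' R'' : Type u} [CommRing R] [CommRing R'] [CommRing R'']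
    (f : R →+* R') (g : R' →+* R'') : specTMap hS g ≫ specTMap hS f = specTMap hS (g.comp f) :=
  Over.OverMorphism.ext (Spec.map_comp _ _).symm

theorem appTop_specTMap_injective (hS : IsTerminal S) {R R' : Type u} [CommRing R] [CommRing R'] {f : R →+* R'}
    (hf : Function.Injective f) : Function.Injective (specTMap hS f).left.appTop := by
  intro x y e
  have h := Scheme.ΓSpecIso_naturality (CommRingCat.ofHom f)
  refine (ConcreteCategory.bijective_of_isIso (Scheme.ΓSpecIso (CommRingCat.of R)).hom).1 (hf ?_)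
  exact (congr($(h).hom x)).symm.trans ((congrArg _ e).trans (congr($(h).hom y)))

/-- ring maps into an affine scheme over a terminal base -/
noncomputable def fromSpecT (hS : IsTerminal S) (W : Over S) [IsAffine W.left] {R : Type u} [CommRing R]
    (f : Γ(W.left, ⊤) →+* R) : specT hS R ⟶ W :=
  Over.homMk (Spec.map (CommRingCat.ofHom f) ≫ W.left.isoSpec.inv) (hS.hom_ext _ _)

theorem specTMap_fromSpecT (hS : IsTerminal S) (W : Over S) [IsAffine W.left] {R R' : Type u} [CommRing R]
    [CommRing R'] (f : Γ(W.left, ⊤) →+* R) (g : R →+* R') :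
    specTMap hS g ≫ fromSpecT hS W f = fromSpecT hS W (g.comp f) := by
  refine Over.OverMorphism.ext ?_
  show Spec.map _ ≫ Spec.map _ ≫ _ = Spec.map _ ≫ _
  rw [← Category.assoc, ← Spec.map_comp]
  rfl

theorem appTop_fromSpecT (hS : IsTerminal S) (W : Over S) [IsAffine W.left] {R : Type u} [CommRing R]
    (f : Γ(W.left, ⊤) →+* R) :
    (fromSpecT hS W f).left.appTop = CommRingCat.ofHom f ≫ (Scheme.ΓSpecIso (CommRingCat.of R)).inv :=
  appTop_specMap_isoSpec_inv W.left _

theorem eq_fromSpecT (hS : IsTerminal S) {W : Over S} [IsAffine W.left] {R : Type u} [CommRing R]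
    (m : specT hS R ⟶ W) :
    m = fromSpecT hS W (m.left.appTop ≫ (Scheme.ΓSpecIso (CommRingCat.of R)).hom).hom := by
  refine Over.OverMorphism.ext (ext_of_isAffine ?_)
  rw [appTop_fromSpecT, CommRingCat.ofHom_hom, Category.assoc, Iso.hom_inv_id, Category.comp_id]

set_option maxHeartbeats 4000000 in
/-- the data on the geometric generic point -/
theorem exists_source (hS : IsTerminal S) {Y : Sp S} {W : Over S} [IsAffine W.left] {f : (yon S).obj W ⟶ Y}
    (hf : RepWith @IsIntegralHom f) (hfs : RepWith @Surjective f) {K : Type u} [Field K]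
    (η : (yon S).obj (specT hS K) ⟶ Y) :
    ∃ (Ω W₂ : Over S) (_ : IsAffine Ω.left) (_ : IsAffine W₂.left) (e : Ω ⟶ specT hS K) (inc : Ω ⟶ W₂)
      (fW : (yon S).obj W₂ ⟶ Y) (ι : Type u) (κ : specT hS K ⟶ specT hS (MvPolynomial ι (ULift.{u} ℤ)))
      (τ : W₂ ⟶ specT hS (MvPolynomial ι (ULift.{u} ℤ))),
      Function.Injective e.left.appTop ∧ Function.Injective inc.left.appTop ∧ RepWith @IsIntegralHom fW ∧
        (yon S).map inc ≫ fW = (yon S).map e ≫ η ∧ inc ≫ τ = e ≫ κ ∧ IsIntegralHom τ.left := by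
  -- a point over the generic point in the algebraic closure
  obtain ⟨WK, aK', bK, sqWK, hbK⟩ := exists_repWith hf η
  obtain ⟨aK, rfl⟩ := exists_map_eq aK'
  have : IsIntegralHom bK.left := hbK
  have : IsAffine WK.left := isAffine_of_isAffineHom bK.left
  let κK : K →+* Γ(WK.left, ⊤) := ((Scheme.ΓSpecIso (CommRingCat.of K)).inv ≫ bK.left.appTop).hom
  algebraize [κK]
  have : Algebra.IsIntegral K Γ(WK.left, ⊤) := ⟨fun x => by
    have h := ((HasAffineProperty.iff_of_isAffine (P := @IsIntegralHom)).1 hbK).2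
    exact RingHom.IsIntegral.trans _ _ (RingHom.isIntegral_of_surjective
      (Scheme.ΓSpecIso (CommRingCat.of K)).inv.hom (ConcreteCategory.bijective_of_isIso _).2) h x⟩
  have : Nonempty WK.left := by
    have := (repWith_yon_iff (P := @Surjective) bK).1 (repWith_baseChange sqWK hfs)
    obtain ⟨w, -⟩ := bK.left.surjective (IsLocalRing.closedPoint K : Spec (CommRingCat.of K))
    exact ⟨w⟩
  have : Nontrivial Γ(WK.left, ⊤) := by
    obtain ⟨w⟩ := ‹Nonempty WK.left›
    exact (PrimeSpectrum.nonempty_iff_nontrivial (R := Γ(WK.left, ⊤))).1 ⟨WK.left.isoSpec.hom w⟩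
  obtain ⟨m, hm⟩ := Ideal.exists_maximal Γ(WK.left, ⊤)
  letI := Ideal.Quotient.field m
  let Ωf := AlgebraicClosure K
  have : Algebra.IsIntegral K (Γ(WK.left, ⊤) ⧸ m) :=
    Algebra.IsIntegral.of_surjective (Ideal.Quotient.mkₐ K m) Ideal.Quotient.mk_surjective
  have : Algebra.IsAlgebraic K (Γ(WK.left, ⊤) ⧸ m) := inferInstance
  let χ : Γ(WK.left, ⊤) →ₐ[K] Ωf :=
    (IsAlgClosed.lift (R := K) (S := Γ(WK.left, ⊤) ⧸ m) (M := Ωf)).comp (Ideal.Quotient.mkₐ K m)
  let φ : Γ(W.left, ⊤) →+* Ωf := χ.toRingHom.comp aK.left.appTop.hom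
  let eΩ : specT hS Ωf ⟶ specT hS K := specTMap hS (algebraMap K Ωf)
  let pt : specT hS Ωf ⟶ WK := fromSpecT hS WK χ.toRingHom
  have hptb : pt ≫ bK = eΩ := by
    refine Over.OverMorphism.ext (ext_of_isAffine ?_)
    rw [Over.comp_left, Scheme.Hom.comp_appTop, appTop_fromSpecT]
    refine (cancel_epi (Scheme.ΓSpecIso (CommRingCat.of K)).inv).1 ?_
    have hn : (Scheme.ΓSpecIso (CommRingCat.of K)).inv ≫ eΩ.left.appTop =
        CommRingCat.ofHom (algebraMap K Ωf) ≫ (Scheme.ΓSpecIso (CommRingCat.of Ωf)).inv :=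
      (Scheme.ΓSpecIso_inv_naturality (CommRingCat.ofHom (algebraMap K Ωf))).symm
    rw [hn, ← Category.assoc, ← Category.assoc]
    congr 1
    exact CommRingCat.hom_ext (RingHom.ext fun x => χ.commutes x)
  have hpta : pt ≫ aK = fromSpecT hS W φ := by
    refine Over.OverMorphism.ext (ext_of_isAffine ?_)
    rw [Over.comp_left, Scheme.Hom.comp_appTop, appTop_fromSpecT, appTop_fromSpecT]
    rfl
  have hm₀ : (yon S).map (fromSpecT hS W φ) ≫ f = (yon S).map eΩ ≫ η := by
    rw [← hpta, Functor.map_comp, Category.assoc, sqWK.w, ← Functor.map_comp_assoc, hptb]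
  -- conjugates are integral over the image
  let P₀ : Subring Ωf := φ.range
  have hσ : ∀ σ : Ωf ≃ₐ[K] Ωf, ∀ x ∈ P₀, IsIntegral P₀ (σ x) := by
    rintro σ _ ⟨p, rfl⟩
    obtain ⟨W₂', a₁', b₁, sq₂, hb₁⟩ := exists_repWith hf f
    obtain ⟨a₁, rfl⟩ := exists_map_eq a₁'
    have : IsIntegralHom b₁.left := hb₁
    have : IsAffine W₂'.left := isAffine_of_isAffineHom b₁.left
    have hσe : specTMap hS σ.toRingEquiv.toRingHom ≫ eΩ = eΩ := by
      rw [specTMap_comp]
      exact congrArg _ (RingHom.ext σ.commutes)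
    obtain ⟨l, hl⟩ := exists_map_eq (sq₂.lift ((yon S).map (fromSpecT hS W (σ.toRingEquiv.toRingHom.comp φ)))
      ((yon S).map (fromSpecT hS W φ)) (by
        rw [← specTMap_fromSpecT, Functor.map_comp, Category.assoc, hm₀, ← Functor.map_comp_assoc, hσe]))
    have hl₁ : l ≫ a₁ = fromSpecT hS W (σ.toRingEquiv.toRingHom.comp φ) :=
      (yon S).map_injective (by rw [Functor.map_comp, hl, sq₂.lift_fst])
    have hl₂ : l ≫ b₁ = fromSpecT hS W φ :=
      (yon S).map_injective (by rw [Functor.map_comp, hl, sq₂.lift_snd])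
    let θ : Γ(W₂'.left, ⊤) →+* Ωf := (l.left.appTop ≫ (Scheme.ΓSpecIso (CommRingCat.of Ωf)).hom).hom
    have hθ : ∀ (c : W₂' ⟶ W) (g : Γ(W.left, ⊤) →+* Ωf), l ≫ c = fromSpecT hS W g →
        ∀ z, θ (c.left.appTop z) = g z := fun c g hc z => by
      have h1 : (l ≫ c).left.appTop ≫ (Scheme.ΓSpecIso (CommRingCat.of Ωf)).hom = CommRingCat.ofHom g := by
        rw [hc, appTop_fromSpecT, Category.assoc, Iso.inv_hom_id, Category.comp_id]
      exact congr($(h1).hom z)
    obtain ⟨Q, hQ, hQz⟩ := ((HasAffineProperty.iff_of_isAffine (P := @IsIntegralHom)).1 hb₁).2 (a₁.left.appTop p)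
    refine ⟨Q.map φ.rangeRestrict, hQ.map _, ?_⟩
    rw [Polynomial.eval₂_map]
    have h3 := congrArg θ hQz
    rw [map_zero, Polynomial.hom_eval₂, hθ a₁ _ hl₁] at h3
    have h4 : θ.comp b₁.left.appTop.hom = φ := RingHom.ext (hθ b₁ _ hl₂)
    rw [h4] at h3
    exact h3
  -- coordinates
  let ι := {c : K // IsIntegral P₀ (algebraMap K Ωf c)}
  let P₂ := integralClosure P₀ Ωf
  let κr : MvPolynomial ι (ULift.{u} ℤ) →+* K :=
    MvPolynomial.eval₂Hom ((Int.castRingHom K).comp ULift.ringEquiv.toRingHom) Subtype.val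
  let τr : MvPolynomial ι (ULift.{u} ℤ) →+* P₂ :=
    MvPolynomial.eval₂Hom ((Int.castRingHom P₂).comp ULift.ringEquiv.toRingHom) fun c => ⟨algebraMap K Ωf c.1, c.2⟩
  have hτκ : P₂.val.toRingHom.comp τr = (algebraMap K Ωf).comp κr :=
    MvPolynomial.ringHom_ext (fun r => by simp [τr, κr]) (fun c => by simp [τr, κr])
  have hcoeff : ∀ x ∈ P₀, ∃ Q : Polynomial (MvPolynomial ι (ULift.{u} ℤ)), Q.Monic ∧
      Q.eval₂ ((algebraMap K Ωf).comp κr) x = 0 := fun x hx => by
    have hxK : IsIntegral K x := (Algebra.IsAlgebraic.isAlgebraic x).isIntegral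
    obtain ⟨Q, hQ, -, hQm⟩ := Polynomial.lifts_and_natDegree_eq_and_monic (f := κr) (p := minpoly K x) (by
      rw [Polynomial.lifts_iff_coeff_lifts]
      exact fun i => ⟨MvPolynomial.X ⟨_, isIntegral_coeff_minpoly P₀ hσ hx i⟩, MvPolynomial.eval₂Hom_X' _ _ _⟩)
      (minpoly.monic hxK)
    refine ⟨Q, hQm, ?_⟩
    rw [← Polynomial.eval₂_map, hQ]
    exact minpoly.aeval K x
  have hτint : τr.IsIntegral := fun y => by
    obtain ⟨Q, hQ, hQy⟩ := isIntegralElem_of_coeffs P₀ _ hcoeff y.2
    refine ⟨Q, hQ, Subtype.val_injective ?_⟩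
    show P₂.val.toRingHom (Q.eval₂ τr y) = 0
    rw [Polynomial.hom_eval₂, hτκ]
    exact hQy
  let φ₂ : Γ(W.left, ⊤) →+* P₂ := (algebraMap P₀ P₂).comp φ.rangeRestrict
  have hφ₂ : φ₂.IsIntegral := RingHom.IsIntegral.trans _ _
    (RingHom.isIntegral_of_surjective _ φ.rangeRestrict_surjective) fun y => by
      obtain ⟨Q, hQ, hQy⟩ := y.2
      refine ⟨Q, hQ, Subtype.val_injective ?_⟩
      show P₂.val.toRingHom (Q.eval₂ (algebraMap P₀ P₂) y) = 0
      rw [Polynomial.hom_eval₂]
      exact hQy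
  have hint : ∀ {R : Type u} [CommRing R] (g : R →+* P₂), g.IsIntegral →
      IsIntegralHom (Spec.map (CommRingCat.ofHom g)) := fun g hg => IsIntegralHom.SpecMap_iff.2 hg
  let aW : specT hS P₂ ⟶ W := fromSpecT hS W φ₂
  have haW : IsIntegralHom aW.left := by
    have := hint φ₂ hφ₂
    exact inferInstanceAs (IsIntegralHom (Spec.map (CommRingCat.ofHom φ₂) ≫ W.left.isoSpec.inv))
  refine ⟨specT hS Ωf, specT hS P₂, inferInstance, inferInstance, eΩ, specTMap hS P₂.val.toRingHom,
    (yon S).map aW ≫ f, ι, specTMap hS κr, specTMap hS τr, appTop_specTMap_injective hS (algebraMap K Ωf).injective,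
    appTop_specTMap_injective hS Subtype.val_injective,
    repWith_comp ((repWith_yon_iff aW).2 haW) hf, ?_, ?_, hint τr hτint⟩
  · rw [← Functor.map_comp_assoc, specTMap_fromSpecT]
    exact hm₀
  · rw [specTMap_comp, specTMap_comp, hτκ]

end Groth.Agent.SpChev
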