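import Groth.Agent.SpChev.Finish
import Groth.Agent.SpChev.Generic
import Groth.Agent.SpChev.Graph
import Groth.Agent.SpChev.Proj
import Groth.Agent.SpChev.Source
import Groth.Agent.SpChev.Chain

/-!
# Reduced irreducible minimal spaces are affine
-/

set_option autoImplicit false
set_option linter.style.haveILetI false

universe u

open CategoryTheory CategoryTheory.Limits AlgebraicGeometry

set_option backward.isDefEq.respectTransparency false

namespace Groth.Agent.SpChev

open _root_.AlgSp Groth.Agent.AlgSpLib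

variable {S : Scheme.{u}}

set_option maxHeartbeats 8000000 in
theorem isAff_of_irred (hS : IsTerminal S) {Y : Sp S} (hYa : IsAlgSpace Y) (hY : IsSeparatedSp Y)
    (hq : IsQuasiCompactSp Y) [Nonempty (Points Y)] {U R : Over S} [IsAffine U.left] [IsReduced U.left]
    [IsAffine R.left] {π : (yon S).obj U ⟶ Y} (hπe : RepWith @Etale π) (hπs : RepWith @Surjective π)
    {p₁ p₂ : R ⟶ U} (sqR : IsPullback ((yon S).map p₁) ((yon S).map p₂) π π)
    {W : Over S} [IsAffine W.left] {f : (yon S).obj W ⟶ Y} (hf : RepWith @IsIntegralHom f)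
    (hfs : RepWith @Surjective f)
    (hirr : ∀ O₁ O₂ : Set (Points Y), IsOpen O₁ → IsOpen O₂ → O₁.Nonempty → O₂.Nonempty → (O₁ ∩ O₂).Nonempty)
    (hmin : ∀ ⦃Z : Sp S⦄ (i : Z ⟶ Y), RepWith @IsClosedImmersion i → IsIso i ∨ IsAff Z) : IsAff Y := by
  classical
  obtain ⟨K, _, η, UK, ζ, ξ, sqK, hUK, hξ, hden⟩ := exists_generic hS hYa hY hπe hπs hirr
  obtain ⟨Ω, W₂, hΩ, hW₂, e, inc, fW, ι, κ, τ, he, hinc, hfW, hcomm, hκτ, hτ⟩ := exists_source hS hf hfs η
  let k : Over S := specT hS K
  let T := specT hS (MvPolynomial ι (ULift.{u} ℤ))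
  let TF : Finset ι → Over S := fun F => specT hS (MvPolynomial {x // x ∈ F} (ULift.{u} ℤ))
  let g : ∀ F, T ⟶ TF F := fun F =>
    specTMap hS (MvPolynomial.rename (R := ULift.{u} ℤ) ((↑) : {x // x ∈ F} → ι)).toRingHom
  let gg : ∀ F G : Finset ι, F ⊆ G → (TF G ⟶ TF F) := fun F G h =>
    specTMap hS (MvPolynomial.rename (R := ULift.{u} ℤ) (Set.inclusion (s := (F : Set ι)) (t := G) h)).toRingHom
  have hgg : ∀ F G (h : F ⊆ G), g G ≫ gg F G h = g F := fun F G h => by
    rw [specTMap_comp]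
    refine congrArg _ (MvPolynomial.ringHom_ext (fun r => ?_) (fun x => ?_))
    · simp
    · simp
  -- charts of the products
  obtain ⟨⟨hPa, hPs, hPq, -⟩, UT, u, t, πT, hUT, sqT, ht, hπTe, hπTs, hgen⟩ :=
    exists_prod_chart hS hYa hY hq hπe hπs T
  have hF := fun F => exists_prod_chart hS hYa hY hq hπe hπs (TF F)
  choose hPF UF uF tF πF hUF sqF htF hπFe hπFs hgenF using hF
  have hproj := fun F => exists_chart_map (g F) sqT ht (sqF F) (htF F)
  choose pF hpu hpt hpπ using hproj
  have hproj' := fun F G (h : F ⊆ G) => exists_chart_map (gg F G h) (sqF G) (htF G) (sqF F) (htF F)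
  choose pG hpGu hpGt hpGπ using hproj'
  have hpp : ∀ F G (h : F ⊆ G), pF G ≫ pG F G h = pF F := fun F G h => by
    refine chart_ext (sqF F) (htF F) ?_ ?_
    · rw [Category.assoc, hpGu, hpu, hpu]
    · rw [Category.assoc, hpGt, reassoc_of% (hpt G), hgg, hpt]
  -- graphs
  obtain ⟨lK, hlK⟩ := exists_map_eq (sqT.lift (prod.lift ((yon S).map ξ ≫ π) ((yon S).map (ζ ≫ κ)))
    ((yon S).map ξ) (prod.lift_fst _ _))
  have hlu : lK ≫ u = ξ := (yon S).map_injective (by rw [Functor.map_comp, hlK, sqT.lift_snd])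
  have hlt : lK ≫ t = ζ ≫ κ := (yon S).map_injective (by
    rw [Functor.map_comp, ← ht, hlK, sqT.lift_fst_assoc, prod.lift_snd])
  obtain ⟨Z, iT, hiT, hJ, -, -, hZaff⟩ := exists_graph hS hYa hY hq hπe hπs sqK hξ he hinc hfW hcomm κ τ hκτ
    sqT ht hlu hlt
  have hGF := fun F => exists_graph hS hYa hY hq hπe hπs sqK hξ he hinc hfW hcomm (κ ≫ g F) (τ ≫ g F)
    (by rw [reassoc_of% hκτ]) (sqF F) (htF F) (lK := lK ≫ pF F) (by rw [Category.assoc, hpu, hlu])
    (by rw [Category.assoc, hpt, reassoc_of% hlt])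
  choose ZF iF hiF hJF hfF hfFs _hZF using hGF
  -- the finite stages inside the big product
  let prF : ∀ F, Y ⨯ (yon S).obj T ⟶ Y ⨯ (yon S).obj (TF F) := fun F => prod.map (𝟙 Y) ((yon S).map (g F))
  let I : Finset ι → UT.left.IdealSheafData := fun F => (lK ≫ pF F).left.ker.comap (pF F).left
  have hIsub : ∀ F, ∃ (Zp : Sp S) (iP : Zp ⟶ Y ⨯ (yon S).obj T) (v : Zp ⟶ ZF F),
      IsPullback v iP (iF F) (prF F) ∧ RepWith @IsClosedImmersion iP ∧ SchImg.IsPullIdeal iP πT (I F) := fun F => by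
    refine ⟨_, pullback.snd (iF F) (prF F), pullback.fst (iF F) (prF F), IsPullback.of_hasPullback _ _,
      repWith_baseChange (IsPullback.of_hasPullback _ _) (hiF F), ?_⟩
    refine SchImg.IsPullIdeal.of_isPullback (IsPullback.of_hasPullback _ _) ?_
    rw [← hpπ F]
    exact (hJF F).comap (pF F)
  choose Zp iP vP sqP hiP hIP using hIsub
  obtain ⟨RT, r₁, r₂, sqRT⟩ := exists_pullback hPa.diag πT πT
  have hinv : ∀ F, (I F).comap r₁.left = (I F).comap r₂.left := fun F => (hIP F).invariant sqRT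
  have hmap : ∀ F x, x ∈ (lK ≫ pF F).left.ker.ideal ⟨⊤, isAffineOpen_top _⟩ →
      (pF F).left.appTop x ∈ (I F).ideal ⟨⊤, isAffineOpen_top _⟩ := fun F x hx => by
    rw [FpqcDescent.ideal_comap_of_isAffine]
    exact Ideal.mem_map_of_mem _ hx
  have hIJ : ∀ F, I F ≤ lK.left.ker := fun F => Scheme.IdealSheafData.le_of_isAffine (by
    rw [FpqcDescent.ideal_comap_of_isAffine, SpThick.ideal_ker_top, SpThick.ideal_ker_top, Ideal.map_le_iff_le_comap]
    exact fun x hx => hx)
  have hImono : ∀ F G, F ⊆ G → I F ≤ I G := fun F G h => Scheme.IdealSheafData.le_of_isAffine (by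
    rw [FpqcDescent.ideal_comap_of_isAffine, Ideal.map_le_iff_le_comap]
    intro x hx
    rw [SpThick.ideal_ker_top, RingHom.mem_ker] at hx
    show (pF F).left.appTop x ∈ (I G).ideal ⟨⊤, isAffineOpen_top _⟩
    rw [← hpp F G h]
    refine hmap G _ ?_
    rw [SpThick.ideal_ker_top, RingHom.mem_ker]
    rw [← hpp F G h] at hx
    exact hx)
  have hcov : ∀ x ∈ lK.left.ker.ideal ⟨⊤, isAffineOpen_top UT.left⟩,
      ∃ F, x ∈ (I F).ideal ⟨⊤, isAffineOpen_top UT.left⟩ := by
    let A : Subring Γ(UT.left, ⊤) :=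
      { carrier := {x | ∃ F y, (pF F).left.appTop y = x}
        mul_mem' := by
          rintro _ _ ⟨F, y, rfl⟩ ⟨G, z, rfl⟩
          refine ⟨F ∪ G, (pG F _ Finset.subset_union_left).left.appTop y *
            (pG G _ Finset.subset_union_right).left.appTop z, ?_⟩
          conv_rhs => rw [← hpp F _ (Finset.subset_union_left (s₂ := G)), ← hpp G (F ∪ G) Finset.subset_union_right]
          rw [map_mul]
          rfl
        one_mem' := ⟨∅, 1, map_one _⟩
        add_mem' := by
          rintro _ _ ⟨F, y, rfl⟩ ⟨G, z, rfl⟩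
          refine ⟨F ∪ G, (pG F _ Finset.subset_union_left).left.appTop y +
            (pG G _ Finset.subset_union_right).left.appTop z, ?_⟩
          conv_rhs => rw [← hpp F _ (Finset.subset_union_left (s₂ := G)), ← hpp G (F ∪ G) Finset.subset_union_right]
          rw [map_add]
          rfl
        zero_mem' := ⟨∅, 0, map_zero _⟩
        neg_mem' := by
          rintro _ ⟨F, y, rfl⟩
          exact ⟨F, -y, map_neg _ _⟩ }
    have hA : A = ⊤ := hgen A (fun x => ⟨∅, (uF ∅).left.appTop x, by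
        conv_rhs => rw [← hpu ∅]
        rfl⟩) fun z => by
      obtain ⟨F, q, hq⟩ := MvPolynomial.exists_finset_rename
        ((Scheme.ΓSpecIso (CommRingCat.of (MvPolynomial ι (ULift.{u} ℤ)))).hom z)
      refine ⟨F, (tF F).left.appTop ((Scheme.ΓSpecIso _).inv q), ?_⟩
      have h1 : (g F).left.appTop ((Scheme.ΓSpecIso _).inv q) = z := by
        have hn := Scheme.ΓSpecIso_inv_naturality (CommRingCat.ofHom
          (MvPolynomial.rename (R := ULift.{u} ℤ) ((↑) : {x // x ∈ F} → ι)).toRingHom)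
        refine (congr($(hn).hom q)).symm.trans ?_
        show (Scheme.ΓSpecIso _).inv (MvPolynomial.rename (↑) q) = z
        rw [← hq]
        exact (Scheme.ΓSpecIso _).hom_inv_id_apply z
      conv_rhs => rw [← h1]
      exact (congr($(congrArg (fun m : UT ⟶ TF F => m.left.appTop) (hpt F)).hom _))
    intro x hx
    obtain ⟨F, y, rfl⟩ : x ∈ A := hA ▸ Subring.mem_top x
    refine ⟨F, hmap F y ?_⟩
    rw [SpThick.ideal_ker_top] at hx ⊢
    exact hx
  obtain ⟨F, hFaff⟩ := exists_isAff_stage hS hPa hPs hPq hπTe hπTs sqRT I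
    (fun a b => ⟨a ∪ b, hImono _ _ Finset.subset_union_left, hImono _ _ Finset.subset_union_right⟩)
    hinv hiT hJ hIJ hcov (hZaff hτ)
  -- the finite stage is affine
  let sec : TF F ⟶ T :=
    specTMap hS (MvPolynomial.killCompl (R := ULift.{u} ℤ) (Subtype.val_injective (p := (· ∈ F)))).toRingHom
  have hsec : sec ≫ g F = 𝟙 _ := by
    rw [specTMap_comp]
    refine Over.OverMorphism.ext ?_
    show Spec.map _ = 𝟙 _
    rw [← Spec.map_id]
    exact congrArg Spec.map (CommRingCat.hom_ext (RingHom.ext fun q => MvPolynomial.killCompl_rename_app _ q))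
  have : IsClosedImmersion sec.left := IsClosedImmersion.spec_of_surjective _
    fun q => ⟨_, MvPolynomial.killCompl_rename_app Subtype.val_injective q⟩
  obtain ⟨T₁, hT₁, ⟨e₁⟩⟩ : IsAff (ZF F) := by
    have hsp : prod.map (𝟙 Y) ((yon S).map sec) ≫ prF F = 𝟙 _ := by
      refine prod.hom_ext ?_ ?_
      · simp [prF]
      · simp only [prF, Category.assoc, prod.map_snd, prod.map_snd_assoc, Category.id_comp]
        rw [← Functor.map_comp, hsec, (yon S).map_id, Category.comp_id]
    let j := (sqP F).lift (𝟙 _) (iF F ≫ prod.map (𝟙 Y) ((yon S).map sec)) (by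
      rw [Category.id_comp, Category.assoc, hsp, Category.comp_id])
    have := SchImg.mono_of_closed (hiP F)
    refine IsAff.of_closed (hFaff (iP F) (hiP F) (hIP F)) (i := j) (repWith_of_comp_mono (m := iP F) ?_)
    rw [(sqP F).lift_snd]
    exact repWith_comp (hiF F) (repWith_prod_map_closed Y sec)
  -- pinch
  obtain ⟨UZ, zU, v, sqv, hv⟩ := exists_repWith (hiF F) (πF F)
  have : IsClosedImmersion v.left := hv
  have : IsAffine UZ.left := isAffine_of_isAffineHom v.left
  have hvJ : v.left.ker = (lK ≫ pF F).left.ker := (SpThick.isPullIdeal_ker sqv).unique (hJF F)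
  obtain ⟨a, ha⟩ := exists_map_eq (zU ≫ e₁.inv)
  let f₁ : (yon S).obj T₁ ⟶ Y := e₁.hom ≫ iF F ≫ prod.fst
  have hf₁ : RepWith @IsIntegralHom f₁ := (repWith_iso_comp_iff _ _).2 (hfF F)
  have hf₁s : RepWith @Surjective f₁ := (repWith_iso_comp_iff _ _).2 (hfFs F)
  let q : UZ ⟶ U := v ≫ uF F
  have sq₁ : IsPullback ((yon S).map a) ((yon S).map q) f₁ π := by
    rw [Functor.map_comp, ha]
    exact (sqv.paste_vert (sqF F)).of_iso (Iso.refl _) e₁.symm (Iso.refl _) (Iso.refl _) (by simp) (by simp)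
      (by simp [f₁]) (by simp)
  -- functions on the chart are detected on the generic point
  have hdet : ∀ x y : Γ((UF F).left, ⊤), (lK ≫ pF F).left.appTop x = (lK ≫ pF F).left.appTop y →
      v.left.appTop x = v.left.appTop y := fun x y hxy => by
    have : x - y ∈ v.left.ker.ideal ⟨⊤, isAffineOpen_top _⟩ := by
      rw [hvJ, SpThick.ideal_ker_top, RingHom.mem_ker, map_sub]
      exact sub_eq_zero.2 hxy
    rw [SpThick.ideal_ker_top, RingHom.mem_ker, map_sub] at this
    exact sub_eq_zero.1 this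
  have hlu' : (lK ≫ pF F) ≫ uF F = ξ := by rw [Category.assoc, hpu, hlu]
  have hlt' : (lK ≫ pF F) ≫ tF F = ζ ≫ κ ≫ g F := by rw [Category.assoc, hpt, reassoc_of% hlt]
  have hqinj : Function.Injective q.left.appTop := by
    refine (injective_iff_map_eq_zero q.left.appTop.hom).2 fun y hy => hξ ?_
    have hy' : (uF F).left.appTop y ∈ v.left.ker.ideal ⟨⊤, isAffineOpen_top _⟩ := by
      rw [SpThick.ideal_ker_top]; exact hy
    rw [hvJ, SpThick.ideal_ker_top] at hy'
    rw [map_zero, ← hlu']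
    exact hy'
  have hqint : q.left.appTop.hom.IsIntegral := ((HasAffineProperty.iff_of_isAffine (P := @IsIntegralHom)).1
    ((repWith_yon_iff (P := @IsIntegralHom) q).1 (repWith_baseChange sq₁ hf₁))).2
  -- generators
  let X : {x // x ∈ F} → Γ((UF F).left, ⊤) := fun c =>
    (tF F).left.appTop ((Scheme.ΓSpecIso _).inv (MvPolynomial.X c))
  have hrange : ∀ A : Subring Γ(UZ.left, ⊤), (∀ b, q.left.appTop b ∈ A) → (∀ c, v.left.appTop (X c) ∈ A) →
      A = ⊤ := fun A hb hX => by
    have hA : A.comap v.left.appTop.hom = ⊤ := hgenF F _ hb fun z => by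
      obtain ⟨p, rfl⟩ := (ConcreteCategory.bijective_of_isIso (Scheme.ΓSpecIso _).inv).2 z
      induction p using MvPolynomial.induction_on with
      | C r =>
        rw [show r = ((r.down : ℤ) : ULift.{u} ℤ) from ULift.ext _ _ (by simp), map_intCast, map_intCast, map_intCast]
        exact intCast_mem _ _
      | add p p' hp hp' => rw [map_add, map_add]; exact Subring.add_mem _ hp hp'
      | mul_X p c hp => rw [map_mul, map_mul]; exact Subring.mul_mem _ hp (hX c)
    refine eq_top_iff.2 fun y _ => ?_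
    obtain ⟨x, rfl⟩ := v.left.app_surjective ⊤ (isAffineOpen_top _) y
    exact (hA ▸ Subring.mem_top x : x ∈ A.comap v.left.appTop.hom)
  have hfin : q.left.appTop.hom.Finite := by
    refine hqint.to_finite ?_
    algebraize [q.left.appTop.hom]
    refine ⟨⟨Finset.univ.image fun c => v.left.appTop (X c), ?_⟩⟩
    refine eq_top_iff.2 fun y _ => ?_
    show y ∈ (Algebra.adjoin _ _).toSubring
    rw [hrange (Algebra.adjoin Γ(U.left, ⊤)
      ((Finset.univ.image fun c => v.left.appTop (X c) : Finset Γ(UZ.left, ⊤)) : Set Γ(UZ.left, ⊤))).toSubring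
      (fun b => Subalgebra.algebraMap_mem _ b) fun c => Algebra.subset_adjoin
        (Finset.mem_image_of_mem _ (Finset.mem_univ c))]
    trivial
  -- denominators
  obtain ⟨b, hb0, hb⟩ := hden (Finset.univ.image fun c : {x // x ∈ F} =>
    (Scheme.ΓSpecIso (CommRingCat.of K)).hom ((κ ≫ g F).left.appTop ((Scheme.ΓSpecIso _).inv (MvPolynomial.X c))))
  let A : Subring Γ(UZ.left, ⊤) :=
    { carrier := {y | ∃ N r, q.left.appTop r = q.left.appTop b ^ N * y}
      mul_mem' := by
        rintro x y ⟨N, r, hr⟩ ⟨M, s, hs⟩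
        exact ⟨N + M, r * s, by rw [map_mul, hr, hs, pow_add, mul_mul_mul_comm]⟩
      one_mem' := ⟨0, 1, by simp⟩
      add_mem' := by
        rintro x y ⟨N, r, hr⟩ ⟨M, s, hs⟩
        exact ⟨N + M, b ^ M * r + b ^ N * s, by rw [map_add, map_mul, map_mul, map_pow, map_pow, hr, hs]; ring⟩
      zero_mem' := ⟨0, 0, by simp⟩
      neg_mem' := by
        rintro x ⟨N, r, hr⟩
        exact ⟨N, -r, by rw [map_neg, hr, mul_neg]⟩ }
  have hA : A = ⊤ := hrange A (fun r => ⟨0, r, by simp⟩) fun c => by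
    obtain ⟨r, hr⟩ := hb _ (Finset.mem_image_of_mem _ (Finset.mem_univ c))
    refine ⟨1, r, ?_⟩
    rw [pow_one]
    show v.left.appTop ((uF F).left.appTop r) = v.left.appTop ((uF F).left.appTop b) * v.left.appTop (X c)
    rw [← map_mul]
    refine hdet _ _ ?_
    rw [map_mul]
    have h1 : ∀ y, (lK ≫ pF F).left.appTop ((uF F).left.appTop y) = ξ.left.appTop y := fun y => by
      rw [← hlu']; rfl
    have h2 : ∀ z, (lK ≫ pF F).left.appTop ((tF F).left.appTop z) = ζ.left.appTop ((κ ≫ g F).left.appTop z) :=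
      fun z => congr($(congrArg (fun m : UK ⟶ TF F => m.left.appTop) hlt').hom z)
    rw [h1, h1, h2, hr]
    congr 2
    exact (Scheme.ΓSpecIso (CommRingCat.of K)).hom_inv_id_apply _
  obtain ⟨N, hN⟩ : ∃ N, b ^ N ∈ conductor q.left.appTop.hom := by
    algebraize [q.left.appTop.hom]
    obtain ⟨n, m, hm⟩ := Module.Finite.exists_fin (R := Γ(U.left, ⊤)) (M := Γ(UZ.left, ⊤))
    have hmem : ∀ y, ∃ N r, q.left.appTop r = q.left.appTop b ^ N * y := fun y => by
      have : y ∈ A := hA ▸ Subring.mem_top y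
      exact this
    choose N r hr using fun i => hmem (m i)
    refine ⟨∑ i, N i, fun y => ?_⟩
    obtain ⟨c, rfl⟩ := (Submodule.mem_span_range_iff_exists_fun _).1 (hm ▸ trivial :
      y ∈ Submodule.span Γ(U.left, ⊤) (Set.range m))
    rw [Finset.mul_sum]
    refine sum_mem fun i _ => ?_
    refine ⟨c i * (b ^ ((∑ j, N j) - N i) * r i), ?_⟩
    have hle : N i ≤ ∑ j, N j := Finset.single_le_sum (fun j _ => Nat.zero_le _) (Finset.mem_univ i)
    rw [map_mul, map_mul, map_pow, hr, ← mul_assoc (q.left.appTop.hom b ^ _), ← pow_add, Nat.sub_add_cancel hle,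
      Algebra.smul_def, map_pow]
    exact mul_left_comm _ _ _
  exact isAff_of_finite_birat hS hYa hY hπe hπs sqR hmin hf₁ hf₁s sq₁ hqinj hfin hN (pow_ne_zero N hb0)

end Groth.Agent.SpChev
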