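import Mathlib.RingTheory.Flat.Basic
import Mathlib.RingTheory.RingHom.Flat
import Mathlib.RingTheory.RingHom.Finite
import Mathlib.RingTheory.Finiteness.Basic
import Mathlib.LinearAlgebra.TensorProduct.Pi
import Mathlib.Algebra.Category.Ring.Constructions

/-!
# The conductor of a finite extension commutes with flat base change
-/

universe u

open CategoryTheory CategoryTheory.Limits TensorProduct

namespace Groth.Agent.SpChev

/-- the conductor of a ring map -/
def conductor {B B' : Type u} [CommRing B] [CommRing B'] (f : B →+* B') : Ideal B where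
  carrier := {b | ∀ y, f b * y ∈ f.range}
  add_mem' := fun {a b} ha hb y => by rw [map_add, add_mul]; exact add_mem (ha y) (hb y)
  zero_mem' := fun y => by rw [map_zero, zero_mul]; exact zero_mem _
  smul_mem' := fun c x hx y => by
    rw [smul_eq_mul, map_mul, mul_assoc]
    exact mul_mem ⟨c, rfl⟩ (hx y)

theorem mem_conductor {B B' : Type u} [CommRing B] [CommRing B'] {f : B →+* B'} {b : B} :
    b ∈ conductor f ↔ ∀ y, f b * y ∈ f.range := Iff.rfl

theorem conductor_comp_equiv {B B' C : Type u} [CommRing B] [CommRing B'] [CommRing C] (f : B →+* B')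
    (e : B' ≃+* C) : conductor (e.toRingHom.comp f) = conductor f := by
  ext b
  refine ⟨fun h y => ?_, fun h y => ?_⟩
  · obtain ⟨z, hz⟩ := h (e y)
    exact ⟨z, e.injective (by simpa using hz)⟩
  · obtain ⟨z, hz⟩ := h (e.symm y)
    exact ⟨z, by simpa using congrArg e hz⟩

set_option maxHeartbeats 1000000 in
/-- the conductor of a module-finite algebra commutes with flat base change -/
theorem map_conductor_tensor (B B' D : Type u) [CommRing B] [CommRing B'] [CommRing D] [Algebra B B']
    [Algebra B D] [Module.Flat B D] [Module.Finite B B'] :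
    (conductor (algebraMap B B')).map (algebraMap B D) =
      conductor (Algebra.TensorProduct.includeLeftRingHom : D →+* D ⊗[B] B') := by
  refine le_antisymm (Ideal.map_le_iff_le_comap.2 fun b hb y => ?_) fun d hd => ?_
  · induction y with
    | zero => exact ⟨0, by rw [map_zero, mul_zero]⟩
    | tmul e z =>
      obtain ⟨c, hc⟩ := hb z
      refine ⟨c • e, ?_⟩
      show (c • e) ⊗ₜ[B] (1 : B') = (algebraMap B D b ⊗ₜ[B] (1 : B')) * e ⊗ₜ[B] z
      rw [Algebra.TensorProduct.tmul_mul_tmul, one_mul, TensorProduct.smul_tmul, Algebra.smul_def, mul_one,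
        hc, ← Algebra.smul_def, ← TensorProduct.smul_tmul, Algebra.smul_def]
    | add p q hp hq => rw [mul_add]; exact add_mem hp hq
  · obtain ⟨n, m, hm⟩ := Module.Finite.exists_fin (R := B) (M := B')
    let N : Submodule B B' := LinearMap.range (Algebra.linearMap B B')
    let Φ : B →ₗ[B] (Fin n → B' ⧸ N) := LinearMap.pi fun i => N.mkQ ∘ₗ LinearMap.toSpanSingleton B B' (m i)
    have hker : ∀ k ∈ LinearMap.ker Φ, k ∈ conductor (algebraMap B B') := fun k hk y => by
      rw [← Algebra.smul_def]
      show k • y ∈ N
      have hy : y ∈ Submodule.span B (Set.range m) := hm ▸ trivial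
      obtain ⟨c, rfl⟩ := (Submodule.mem_span_range_iff_exists_fun B).1 hy
      rw [Finset.smul_sum]
      refine sum_mem fun i _ => ?_
      rw [smul_comm]
      exact N.smul_mem _ ((Submodule.Quotient.mk_eq_zero N).1 (congrFun hk i))
    have h0 : Φ.lTensor D (d ⊗ₜ 1) = 0 := by
      refine (TensorProduct.piRight B B D fun _ : Fin n => B' ⧸ N).injective ?_
      rw [map_zero]
      funext i
      obtain ⟨x, hx⟩ := hd ((1 : D) ⊗ₜ m i)
      have hx' : d ⊗ₜ[B] m i = x ⊗ₜ (1 : B') := by
        refine (Eq.trans ?_ hx.symm)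
        show _ = (d ⊗ₜ[B] (1 : B')) * (1 : D) ⊗ₜ[B] m i
        rw [Algebra.TensorProduct.tmul_mul_tmul, mul_one, one_mul]
      have := congrArg (N.mkQ.lTensor D) hx'
      rw [LinearMap.lTensor_tmul, LinearMap.lTensor_tmul, show N.mkQ (1 : B') = 0 from
        (Submodule.Quotient.mk_eq_zero N).2 ⟨1, map_one (algebraMap B B')⟩, tmul_zero] at this
      simpa [Φ, TensorProduct.piRight_apply] using this
    obtain ⟨z, hz⟩ := (Module.Flat.lTensor_exact D (LinearMap.exact_subtype_ker_map Φ) _).1 h0
    have hd' : d = TensorProduct.rid B D ((LinearMap.ker Φ).subtype.lTensor D z) := by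
      rw [hz, TensorProduct.rid_tmul, one_smul]
    rw [hd']
    clear hz hd'
    induction z with
    | zero => simp
    | tmul e k =>
      rw [LinearMap.lTensor_tmul, TensorProduct.rid_tmul, Algebra.smul_def]
      exact Ideal.mul_mem_right _ _ (Ideal.mem_map_of_mem _ (hker _ k.2))
    | add p q hp hq => rw [map_add, map_add]; exact add_mem hp hq

/-- the conductor of a finite ring map along a flat pushout -/
theorem map_conductor {B X D P : CommRingCat.{u}} {f : B ⟶ X} {v : B ⟶ D} {u' : X ⟶ P} {f' : D ⟶ P}
    (h : IsPushout f v u' f') (hv : v.hom.Flat) (hf : f.hom.Finite) :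
    (conductor f.hom).map v.hom = conductor f'.hom := by
  algebraize [f.hom, v.hom]
  have ht := CommRingCat.isPushout_tensorProduct B D X
  let e := ht.isoPushout ≪≫ h.flip.isoPushout.symm
  have he : CommRingCat.ofHom Algebra.TensorProduct.includeLeftRingHom ≫ e.hom = f' := by
    simp only [e, Iso.trans_hom, Iso.symm_hom]
    exact (ht.inl_isoPushout_hom_assoc _).trans h.flip.inl_isoPushout_inv
  rw [← he]
  refine (map_conductor_tensor B X D).trans ?_
  exact (conductor_comp_equiv _ e.commRingCatIsoToRingEquiv).symm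

end Groth.Agent.SpChev
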