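import Mathlib.FieldTheory.Normal.Basic
import Mathlib.FieldTheory.IsAlgClosed.AlgebraicClosure
import Mathlib.RingTheory.IntegralClosure.IsIntegralClosure.Basic
import Mathlib.Algebra.Polynomial.Lifts

/-!
# Coefficients of minimal polynomials are integral over rings stable up to integrality under conjugation
-/

universe u v

open Polynomial

namespace Groth.Agent.SpChev

variable {K Ω : Type u} [Field K] [Field Ω] [Algebra K Ω] [IsAlgClosed Ω] [Algebra.IsAlgebraic K Ω] [Normal K Ω]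

theorem isIntegral_coeff_minpoly (P₀ : Subring Ω) (hσ : ∀ σ : Ω ≃ₐ[K] Ω, ∀ x ∈ P₀, IsIntegral P₀ (σ x))
    {x : Ω} (hx : x ∈ P₀) (i : ℕ) : IsIntegral P₀ (algebraMap K Ω ((minpoly K x).coeff i)) := by
  have hxK : IsIntegral K x := (Algebra.IsAlgebraic.isAlgebraic x).isIntegral
  have hs := IsAlgClosed.splits ((minpoly K x).map (algebraMap K Ω))
  have hm : ((minpoly K x).map (algebraMap K Ω)).Monic := (minpoly.monic hxK).map _
  let C := (integralClosure P₀ Ω).toSubring
  have hlift : (minpoly K x).map (algebraMap K Ω) ∈ Polynomial.lifts C.subtype := by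
    rw [hs.eq_prod_roots_of_monic hm]
    refine Subsemiring.multiset_prod_mem _ _ fun p hp => ?_
    obtain ⟨r, hr, rfl⟩ := Multiset.mem_map.1 hp
    obtain ⟨σ, hσr⟩ := minpoly.exists_algEquiv_of_root' (Algebra.IsAlgebraic.isAlgebraic x) (x := r) (y := x) (by
      rw [mem_roots', IsRoot, eval_map_algebraMap] at hr
      exact hr.2)
    have hr' : r ∈ C := hσr ▸ hσ σ x hx
    exact (mem_lifts _).2 ⟨X - Polynomial.C ⟨r, hr'⟩, by simp⟩
  obtain ⟨⟨c, hc⟩, hce⟩ := (lifts_iff_coeff_lifts _).1 hlift i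
  rw [coeff_map] at hce
  exact hce ▸ hc

/-- integral closures of subrings generated by coefficients -/
theorem isIntegralElem_of_coeffs {Z : Type v} [CommRing Z] (P₀ : Subring Ω) (τ : Z →+* Ω)
    (hcoeff : ∀ x ∈ P₀, ∃ Q : Z[X], Q.Monic ∧ Q.eval₂ τ x = 0) {y : Ω} (hy : IsIntegral P₀ y) :
    τ.IsIntegralElem y := by
  algebraize [τ]
  let C := integralClosure Z Ω
  have hle : ∀ x ∈ P₀, x ∈ C := fun x hx => hcoeff x hx
  obtain ⟨Q, hQ, hQy⟩ := hy
  let j : P₀ →+* C := P₀.subtype.codRestrict C.toSubring fun x => hle _ x.2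
  have : IsIntegral C y := ⟨Q.map j, hQ.map j, by
    rw [eval₂_map]
    exact hQy⟩
  exact isIntegral_trans (R := Z) y this

end Groth.Agent.SpChev
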