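import Groth.Agent.AbsApprox.Main
import Groth.Agent.LimMore.SepScheme
import Mathlib.AlgebraicGeometry.Morphisms.QuasiFinite
import Mathlib.AlgebraicGeometry.ZariskisMainTheorem

/-!
# Universally closed separated schemes over an affine one without specialisations in the fibres are affine
-/

set_option autoImplicit false
set_option linter.style.haveILetI false

universe u

open CategoryTheory CategoryTheory.Limits AlgebraicGeometry Topology

set_option backward.isDefEq.respectTransparency false

namespace Groth.Agent.SpChev

/-- a noetherian space without specialisations is finite and discrete -/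
theorem discreteTopology_of_noetherian_t1 {F : Type u} [TopologicalSpace F] [TopologicalSpace.NoetherianSpace F]
    [QuasiSober F] [T1Space F] : DiscreteTopology F := by
  have hfin : Finite F := by
    have h : (Set.univ : Set F) ⊆ ⋃ Z ∈ irreducibleComponents F, Z := fun x _ =>
      Set.mem_biUnion (irreducibleComponent_mem_irreducibleComponents x) mem_irreducibleComponent
    have hs : ∀ Z ∈ irreducibleComponents F, Z.Finite := fun Z hZ => by
      obtain ⟨g, hg⟩ := QuasiSober.sober hZ.1 (isClosed_of_mem_irreducibleComponents Z hZ)
      rw [← hg.def, closure_singleton]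
      exact Set.finite_singleton g
    exact Set.finite_univ_iff.1 ((TopologicalSpace.NoetherianSpace.finite_irreducibleComponents.biUnion hs).subset h)
  infer_instance

theorem isAffine_of_univClosed_fibres {W Z : Scheme.{u}} [IsAffine Z] [CompactSpace W] (f : W ⟶ Z)
    [UniversallyClosed f] [IsSeparated f] (hf : ∀ a b : W, f a = f b → a ⤳ b → a = b) : IsAffine W := by
  have : W.IsSeparated := ⟨by
    rw [← terminal.comp_from f]
    exact IsSeparated.stableUnderComposition.comp_mem _ _ ‹_› inferInstance⟩
  obtain ⟨I, _, _, _, D, π, hl, h1, h2, h3⟩ := AbsApprox.hasApprox W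
  let c : Cone D := Cone.mk W π
  have : IsCofiltered Iᵒᵖ := isCofiltered_op_of_isFiltered _
  have : ∀ {i j : Iᵒᵖ} (a : i ⟶ j), IsAffineHom (D.map a) := fun a => h1 _ _ a
  have : ∀ i, CompactSpace (D.obj i) := fun i => (h2 i).1
  have : ∀ i, QuasiSeparatedSpace (D.obj i) := fun i => AbsApprox.quasiSeparatedSpace_of_lft (h2 i).2
  let t : ∀ i, D.obj i ⟶ Spec (CommRingCat.of (ULift.{u} ℤ)) := fun i => specULiftZIsTerminal.from _
  obtain ⟨i₀⟩ := (inferInstance : Nonempty Iᵒᵖ)
  have : IsSeparated (c.π.app i₀ ≫ t i₀) := by
    rw [specULiftZIsTerminal.hom_ext (c.π.app i₀ ≫ t i₀) (specULiftZIsTerminal.from c.pt)]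
    have : IsSeparated (specULiftZIsTerminal.from c.pt ≫ terminal.from (Spec (CommRingCat.of (ULift.{u} ℤ)))) := by
      rw [terminal.comp_from]
      exact Scheme.IsSeparated.isSeparated_terminal_from
    exact IsSeparated.of_comp _ (terminal.from (Spec (CommRingCat.of (ULift.{u} ℤ))))
  obtain ⟨i, hi⟩ := LimMore.exists_isSeparated_over_of_isAffine D t (fun a => specULiftZIsTerminal.hom_ext _ _) c hl i₀
  have : IsSeparated (t i) := hi i (𝟙 i)
  have : LocallyOfFiniteType (t i) := (h2 i).2
  -- the product with the base
  let tZ : Z ⟶ Spec (CommRingCat.of (ULift.{u} ℤ)) := specULiftZIsTerminal.from Z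
  let p := pullback.snd (t i) tZ
  let w : W ⟶ pullback (t i) tZ := pullback.lift (π.app i) f (specULiftZIsTerminal.hom_ext _ _)
  have hwa : IsAffineHom w := by
    have : IsAffineHom (c.π.app i) := isAffineHom_π_app D c hl i
    have : IsAffineHom (w ≫ pullback.fst (t i) tZ) := by rw [pullback.lift_fst]; infer_instance
    exact IsAffineHom.of_comp w (pullback.fst (t i) tZ)
  have : QuasiCompact w := inferInstance
  have hwp : w ≫ p = f := pullback.lift_snd _ _ _
  have : UniversallyClosed (w ≫ p) := hwp.symm ▸ ‹_›
  have : UniversallyClosed w := UniversallyClosed.of_comp_of_isSeparated w p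
  have hsur : Surjective w.toImage := ⟨fun y => by
    have hcl : IsClosed (Set.range w.toImage) := by
      have : UniversallyClosed (w.toImage ≫ w.imageι) := w.toImage_imageι.symm ▸ ‹UniversallyClosed w›
      have := UniversallyClosed.of_comp_of_isSeparated w.toImage w.imageι
      exact w.toImage.isClosedMap.isClosed_range
    have := w.toImage.denseRange.closure_range
    rw [hcl.closure_eq] at this
    exact (this ▸ Set.mem_univ y : y ∈ Set.range w.toImage)⟩
  let q : w.image ⟶ Z := w.imageι ≫ p
  have hwq : w.toImage ≫ q = f := by rw [w.toImage_imageι_assoc, hwp]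
  have : CompactSpace (pullback (t i) tZ : Scheme.{u}) :=
    QuasiCompact.compactSpace_of_compactSpace p
  have : IsProper q := by
    have : UniversallyClosed (w.toImage ≫ q) := hwq.symm ▸ ‹UniversallyClosed f›
    have : UniversallyClosed q := UniversallyClosed.of_comp_surjective w.toImage q
    exact ⟨⟩
  have : LocallyQuasiFinite q := by
    refine locallyQuasiFinite_iff_isDiscrete_preimage_singleton.2 fun z => ?_
    have : T1Space (q.fiber z) := by
      refine t1Space_iff_specializes_imp_eq.2 fun x y hxy => ?_
      let e := q.fiberHomeo z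
      have hxy' : (e x).1 ⤳ (e y).1 := (hxy.map e.continuous).map continuous_subtype_val
      obtain ⟨a, ha⟩ := w.toImage.surjective (e x).1
      obtain ⟨b, hab, hb⟩ := w.toImage.isClosedMap.specializingMap (ha.symm ▸ hxy' : w.toImage a ⤳ (e y).1)
      have hfab : f a = f b := by
        rw [← hwq]
        show q (w.toImage a) = q (w.toImage b)
        rw [ha, hb]
        exact (e x).2.trans (e y).2.symm
      obtain rfl := hf a b hfab hab
      exact e.injective (Subtype.ext (ha.symm.trans hb))
    have : LocallyOfFiniteType (q.fiberToSpecResidueField z) :=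
      inferInstanceAs (LocallyOfFiniteType (pullback.snd _ _))
    have : IsLocallyNoetherian (q.fiber z) :=
      LocallyOfFiniteType.isLocallyNoetherian (q.fiberToSpecResidueField z)
    have : IsNoetherian (q.fiber z) := {}
    have := discreteTopology_of_noetherian_t1 (F := q.fiber z)
    exact isDiscrete_iff_discreteTopology.2 (q.fiberHomeo z).discreteTopology
  have : IsFinite q := IsFinite.iff_isProper_and_locallyQuasiFinite q |>.2 ⟨inferInstance, inferInstance⟩
  have : IsAffine w.image := isAffine_of_isAffineHom q
  have : IsAffineHom (w.toImage ≫ w.imageι) := w.toImage_imageι.symm ▸ hwa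
  have : IsAffineHom w.toImage := IsAffineHom.of_comp w.toImage w.imageι
  exact isAffine_of_isAffineHom w.toImage

end Groth.Agent.SpChev
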