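import Groth.Agent.SpChev.TwoPieces
import Groth.Agent.SymAF.Basic
import Groth.Agent.SpQS.GenPts
import Groth.Agent.EquidimPt.Affine
import Mathlib.AlgebraicGeometry.QuasiAffine

/-!
# Finite surjections from quasi-affine schemes: preliminaries
-/

set_option autoImplicit false
set_option linter.style.haveILetI false

universe u

open CategoryTheory CategoryTheory.Limits AlgebraicGeometry TopologicalSpace

set_option backward.isDefEq.respectTransparency false

namespace Groth.Agent.SpChev

open _root_.AlgSp Groth.Agent.AlgSpLib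

/-- finite sets of points in an open of a quasi-affine scheme lie in an affine open inside it -/
theorem exists_affine_finset {X : Scheme.{u}} [X.IsQuasiAffine] {F : Set X} (hF : F.Finite) (O : X.Opens)
    (hO : F ⊆ O) : ∃ V : X.Opens, IsAffineOpen V ∧ F ⊆ V ∧ V ≤ O := by
  classical
  let ι := X.toSpecΓ
  obtain ⟨a, ha, hFa⟩ := SymAF.exists_basicOpen_finset (isAffineOpen_top (Spec Γ(X, ⊤))) (hF.toFinset.image ι)
    (fun t _ => trivial) (ι ''ᵁ O) (fun t ht => by
      obtain ⟨s, hs, rfl⟩ := Finset.mem_image.1 ht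
      exact ⟨s, hO (hF.mem_toFinset.1 hs), rfl⟩)
  refine ⟨ι ⁻¹ᵁ (Spec Γ(X, ⊤)).basicOpen a, ?_, fun s hs => hFa _ (Finset.mem_image_of_mem _ (hF.mem_toFinset.2 hs)),
    fun s hs => ?_⟩
  · rw [← Scheme.Hom.isAffineOpen_iff_of_isOpenImmersion ι]
    convert (isAffineOpen_top (Spec Γ(X, ⊤))).basicOpen a using 1
    rw [Scheme.Hom.image_preimage_eq_opensRange_inf, inf_eq_right]
    intro y hy
    obtain ⟨s, -, rfl⟩ := ha hy
    exact ⟨s, rfl⟩
  · obtain ⟨s', hs', e⟩ := ha hs
    exact ι.isOpenEmbedding.injective e ▸ hs'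

/-- distinct lifts of one field point along a finite morphism are boundedly many -/
theorem exists_lift_bound {U V : Scheme.{u}} [IsAffine U] (v : V ⟶ U) [IsFinite v] :
    ∃ N : ℕ, ∀ (K : Type u) [Field K] (uK : Spec (CommRingCat.of K) ⟶ U) (n : ℕ)
      (l : Fin n → (Spec (CommRingCat.of K) ⟶ V)), Function.Injective l → (∀ i, l i ≫ v = uK) → n ≤ N := by
  have : IsAffine V := isAffine_of_isAffineHom v
  obtain ⟨-, hfin⟩ := (HasAffineProperty.iff_of_isAffine (P := @IsFinite)).1 ‹IsFinite v›
  letI : Algebra Γ(U, ⊤) Γ(V, ⊤) := v.appTop.hom.toAlgebra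
  have : Module.Finite Γ(U, ⊤) Γ(V, ⊤) := hfin
  obtain ⟨N, e, he⟩ := Module.Finite.exists_fin (R := Γ(U, ⊤)) (M := Γ(V, ⊤))
  refine ⟨N, fun K _ uK n l hl hlv => ?_⟩
  let φ : Fin n → Γ(V, ⊤) →+* K := fun i =>
    (Scheme.ΓSpecIso (CommRingCat.of K)).hom.hom.comp (l i).appTop.hom
  have hφi : Function.Injective φ := fun i j h => hl (ext_of_isAffine (CommRingCat.hom_ext (RingHom.ext fun x =>
    (Scheme.ΓSpecIso (CommRingCat.of K)).commRingCatIsoToRingEquiv.injective (RingHom.congr_fun h x))))
  have hφA : ∀ i (a : Γ(U, ⊤)) (x : Γ(V, ⊤)),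
      φ i (a • x) = (Scheme.ΓSpecIso (CommRingCat.of K)).hom.hom (uK.appTop.hom a) * φ i x := fun i a x => by
    rw [Algebra.smul_def, map_mul]
    congr 1
    show (Scheme.ΓSpecIso (CommRingCat.of K)).hom.hom ((l i).appTop.hom (v.appTop.hom a)) = _
    rw [← hlv i]
    rfl
  have hind : LinearIndependent K (fun i : Fin n => (φ i : Γ(V, ⊤) → K)) :=
    (linearIndependent_monoidHom Γ(V, ⊤) K).comp (fun i => (φ i).toMonoidHom) fun i j h =>
      hφi (RingHom.ext fun x => DFunLike.congr_fun h x)
  let Ψ : (Fin n → K) →ₗ[K] (Fin N → K) :=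
    { toFun := fun c j => ∑ i, c i * φ i (e j)
      map_add' := fun c d => funext fun j => by simp [add_mul, Finset.sum_add_distrib]
      map_smul' := fun r c => funext fun j => by simp [Finset.mul_sum, mul_assoc] }
  have hΨ : Function.Injective Ψ := by
    rw [← LinearMap.ker_eq_bot, LinearMap.ker_eq_bot']
    intro c hc
    have hall : ∀ x, ∑ i, c i * φ i x = 0 := fun x => by
      refine Submodule.span_induction (p := fun x _ => ∑ i, c i * φ i x = 0) ?_ (by simp) ?_ ?_
        (he ▸ Submodule.mem_top : x ∈ Submodule.span Γ(U, ⊤) (Set.range e))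
      · rintro _ ⟨j, rfl⟩
        exact congrFun hc j
      · intro x y _ _ hx hy
        simp [mul_add, Finset.sum_add_distrib, hx, hy]
      · intro a x _ hx
        simp only [hφA, mul_left_comm (c _), ← Finset.mul_sum, hx, mul_zero]
    exact funext (Fintype.linearIndependent_iff.1 hind c (funext fun x => by simpa using hall x))
  simpa using LinearMap.finrank_le_finrank_of_injective hΨ

/-- in a noetherian scheme a point of the closure of a locally closed set generalises into it -/
theorem exists_generisation_of_mem_closure {P : Scheme.{u}} [NoetherianSpace P] {L O : Set P}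
    (hL : IsClosed L) (hO : IsOpen O) {y : P} (hy : y ∈ closure (L ∩ O)) : ∃ g ∈ L ∩ O, g ⤳ y := by
  obtain ⟨s, hsf, hsc, hsi, hs⟩ := NoetherianSpace.exists_finite_set_isClosed_irreducible hL
  have hsub : closure (L ∩ O) ⊆ ⋃ t ∈ s, closure (t ∩ O) := by
    refine closure_minimal (fun z hz => ?_) (hsf.isClosed_biUnion fun _ _ => isClosed_closure)
    obtain ⟨t, ht, hzt⟩ := Set.mem_sUnion.1 (hs ▸ hz.1 : z ∈ ⋃₀ s)
    exact Set.mem_biUnion ht (subset_closure ⟨hzt, hz.2⟩)
  obtain ⟨t, ht, hyt⟩ := Set.mem_iUnion₂.1 (hsub hy)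
  obtain ⟨g, hg⟩ := QuasiSober.sober (hsi t ht) (hsc t ht)
  obtain ⟨z, hzt, hzO⟩ : (t ∩ O).Nonempty := closure_nonempty_iff.1 ⟨y, hyt⟩
  have hgL : g ∈ L := hs ▸ Set.mem_sUnion.2 ⟨t, ht, hg.mem⟩
  refine ⟨g, ⟨hgL, ?_⟩, hg.specializes (closure_minimal Set.inter_subset_left (hsc t ht) hyt)⟩
  exact (hg.specializes hzt).mem_open hO hzO

variable {S : Scheme.{u}}

theorem surjective_of_repWith_chart {Y : Sp S} {T U : Over S} {f : (yon S).obj T ⟶ Y}
    {a : (yon S).obj U ⟶ Y} (has : RepWith @Surjective a) {V : Over S} {p : V ⟶ T} {q : V ⟶ U}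
    (sq : IsPullback ((yon S).map p) ((yon S).map q) f a) : Function.Surjective p.left := by
  have h : Surjective p.left := (repWith_yon_iff p).1 (repWith_baseChange sq.flip has)
  exact h.surj

/-- the fibre over a point of a finite map -/
theorem finite_fibre {Y : Sp S} {T U : Over S} {f : (yon S).obj T ⟶ Y} (hf : RepWith @IsFinite f)
    {a : (yon S).obj U ⟶ Y} (has : RepWith @Surjective a) (y : Points Y) :
    (Points.ofPt f ⁻¹' {y}).Finite := by
  obtain ⟨u, rfl⟩ := ofPt_surjective has y
  obtain ⟨V, p', q, sq, hq⟩ := exists_repWith hf a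
  obtain ⟨p, rfl⟩ := exists_map_eq p'
  have : IsFinite q.left := hq
  refine Set.Finite.subset (((q.left.finite_preimage_singleton u)).image p.left) fun t ht => ?_
  obtain ⟨z, hz₁, hz₂⟩ := exists_point_of_isPullback sq (Points.schemeHomeo T t) (Points.schemeHomeo U u) (by
    show Points.map f (Points.ofPt (𝟙 _) t) = Points.map a (Points.ofPt (𝟙 _) u)
    rw [Points.map_ofPt, Points.map_ofPt, Category.id_comp, Category.id_comp]
    exact ht)
  obtain ⟨z, rfl⟩ := (Points.schemeHomeo V).surjective z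
  rw [Points.map_yon_map_apply] at hz₁ hz₂
  exact ⟨z, (Points.schemeHomeo U).injective hz₂, (Points.schemeHomeo T).injective hz₁⟩

/-- no specialisations in fibres of finite maps to locally noetherian spaces -/
theorem eq_of_specializes_of_finiteMap {Y : Sp S} (hY : IsAlgSpace Y) {T U : Over S}
    [IsLocallyNoetherian U.left] {f : (yon S).obj T ⟶ Y} (hf : RepWith @IsFinite f) {a : (yon S).obj U ⟶ Y}
    (ha : RepWith @Etale a) (has : RepWith @Surjective a) {t t' : T.left} (hs : t' ⤳ t)
    (e : Points.ofPt f t' = Points.ofPt f t) : t' = t := by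
  obtain ⟨V, p', q, sq, hq⟩ := exists_repWith hf a
  obtain ⟨p, rfl⟩ := exists_map_eq p'
  have : IsFinite q.left := hq
  have : Etale p.left := (repWith_yon_iff p).1 (repWith_baseChange sq.flip ha)
  obtain ⟨z, rfl⟩ := surjective_of_repWith_chart has sq t
  obtain ⟨z', hz', rfl⟩ := Flat.generalizingMap p.left hs
  have e' : Points.ofPt a (q.left z') = Points.ofPt a (q.left z) := by
    rw [← ofPt_comp, ← ofPt_comp, ← sq.w, ofPt_comp, ofPt_comp]
    exact e
  have h1 : q.left z = q.left z' := SpQS.eq_of_specializes_of_locNoeth hY ha e'.symm (hz'.map q.left.continuous)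
  rw [EquidimPt.eq_of_specializes q.left hz' h1.symm]

/-- a finite map to a space with noetherian affine chart has noetherian source -/
theorem noetherianSpace_of_finiteMap {Y : Sp S} {T U : Over S} [IsAffine U.left]
    [IsLocallyNoetherian U.left] {f : (yon S).obj T ⟶ Y} (hf : RepWith @IsFinite f)
    {a : (yon S).obj U ⟶ Y} (has : RepWith @Surjective a) : NoetherianSpace T.left := by
  obtain ⟨V, p', q, sq, hq⟩ := exists_repWith hf a
  obtain ⟨p, rfl⟩ := exists_map_eq p'
  have : IsFinite q.left := hq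
  have : IsAffine V.left := isAffine_of_isAffineHom q.left
  have : IsLocallyNoetherian V.left := LocallyOfFiniteType.isLocallyNoetherian q.left
  have : IsNoetherian V.left := {}
  exact noetherianSpace_of_surjective p.left p.left.continuous (surjective_of_repWith_chart has sq)

end Groth.Agent.SpChev
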