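import Groth.Agent.SpChev.Conductor
import Groth.Agent.SpChev.Pinch

/-!
# A finite birational affine cover makes a minimal space affine
-/

set_option autoImplicit false
set_option linter.style.haveILetI false

universe u

open CategoryTheory CategoryTheory.Limits AlgebraicGeometry

set_option backward.isDefEq.respectTransparency false

namespace Groth.Agent.SpChev

open _root_.AlgSp Groth.Agent.AlgSpLib

variable {S : Scheme.{u}}

set_option maxHeartbeats 2000000 in
theorem isAff_of_finite_birat (hS : IsTerminal S) {Y : Sp S} (hYa : IsAlgSpace Y) (hY : IsSeparatedSp Y)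
    {U R : Over S} [IsAffine U.left] [IsAffine R.left] {π : (yon S).obj U ⟶ Y}
    (hπe : RepWith @Etale π) (hπs : RepWith @Surjective π) {p₁ p₂ : R ⟶ U}
    (sqR : IsPullback ((yon S).map p₁) ((yon S).map p₂) π π)
    (hmin : ∀ ⦃Z : Sp S⦄ (i : Z ⟶ Y), RepWith @IsClosedImmersion i → IsIso i ∨ IsAff Z)
    {W W' : Over S} [IsAffine W.left] [IsAffine W'.left] {f : (yon S).obj W ⟶ Y}
    (hf : RepWith @IsIntegralHom f) (hfs : RepWith @Surjective f) {a : W' ⟶ W} {q : W' ⟶ U}
    (sqW : IsPullback ((yon S).map a) ((yon S).map q) f π) (hqinj : Function.Injective q.left.appTop)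
    (hqfin : q.left.appTop.hom.Finite) {b : Γ(U.left, ⊤)} (hb : b ∈ conductor q.left.appTop.hom) (hb0 : b ≠ 0) :
    IsAff Y := by
  have hflat : ∀ p : R ⟶ U, RepWith @Etale ((yon S).map p) → Flat p.left := fun p h => by
    have : Etale p.left := (repWith_yon_iff (P := @Etale) p).1 h
    infer_instance
  have h₁ : Flat p₁.left := hflat _ (repWith_baseChange sqR.flip hπe)
  have h₂ : Flat p₂.left := hflat _ (repWith_baseChange sqR hπe)
  obtain ⟨R', r₁, r, sqR'⟩ : ∃ (R' : Over S) (r₁ : R' ⟶ W') (r : R' ⟶ R),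
      IsPullback r₁.left r.left q.left p₁.left :=
    ⟨Over.mk (pullback.snd q.left p₁.left ≫ R.hom), Over.homMk (pullback.fst q.left p₁.left) (hS.hom_ext _ _),
      Over.homMk (pullback.snd q.left p₁.left) rfl, IsPullback.of_hasPullback _ _⟩
  have sq' := isPullback_yon_iff.2 sqR'
  obtain ⟨l, hl⟩ := exists_map_eq (sqW.lift ((yon S).map (r₁ ≫ a)) ((yon S).map (r ≫ p₂)) (by
    rw [Functor.map_comp, Category.assoc, sqW.w, reassoc_of% sq'.w, Functor.map_comp, Category.assoc, sqR.w]))
  have hl₁ : (yon S).map l ≫ (yon S).map a = (yon S).map r₁ ≫ (yon S).map a := by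
    rw [hl, sqW.lift_fst, Functor.map_comp]
  have hl₂ : (yon S).map l ≫ (yon S).map q = (yon S).map r ≫ (yon S).map p₂ := by
    rw [hl, sqW.lift_snd, Functor.map_comp]
  have sqR'' : IsPullback ((yon S).map l) ((yon S).map r) ((yon S).map q) ((yon S).map p₂) := by
    refine IsPullback.of_right ?_ hl₂ sqW
    rw [hl₁, ← sqR.w]
    exact sq'.paste_horiz sqW
  have c₁ := map_conductor (isPushout_appTop_of_isPullback sqR') p₁.left.flat_appTop hqfin
  have c₂ := map_conductor (isPushout_appTop_of_isPullback (isPullback_yon_iff.1 sqR'')) p₂.left.flat_appTop hqfin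
  let I := Scheme.IdealSheafData.ofIdealTop (X := U.left) (conductor q.left.appTop.hom)
  have hinv : I.comap p₁.left = I.comap p₂.left := by
    refine Scheme.IdealSheafData.ext_of_isAffine ?_
    rw [FpqcDescent.ideal_comap_of_isAffine, FpqcDescent.ideal_comap_of_isAffine]
    simp only [I, Scheme.IdealSheafData.ofIdealTop_ideal]
    simpa using c₁.trans c₂.symm
  obtain ⟨C, i, hCa, hi, hI⟩ := SchImg.exists_closedSub hYa hπe hπs sqR I hinv
  have htop : I.ideal ⟨⊤, isAffineOpen_top _⟩ = conductor q.left.appTop.hom := by simp [I]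
  rcases hmin i hi with hiso | hC
  · exfalso
    have h0 := (hI (𝟙 U)).1 ⟨(yon S).map (𝟙 U) ≫ π ≫ inv i, by simp⟩
    rw [Over.id_left, Scheme.IdealSheafData.comap_id] at h0
    rw [← htop, h0, Scheme.IdealSheafData.ideal_bot] at hb
    exact hb0 hb
  · refine isAff_of_pinch hS hYa hY hπe hπs sqR hf hfs sqW hqinj hi hC hI fun x hx b' => ?_
    rw [htop] at hx
    exact hx b'

end Groth.Agent.SpChev
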