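import Mathlib

/-!
# Residue fields over separably closed closed points
-/

set_option autoImplicit false

universe u

namespace Groth.Agent.SpChev

variable (P : Type u) {Q E B : Type u} [CommRing Q] [CommRing P] [CommRing E] [CommRing B] [Algebra Q P] [Algebra Q B]
  [Algebra P E] [Algebra Q E] [IsScalarTower Q P E] [Algebra.IsIntegral Q P] [Algebra.QuasiFinite P E]

include P

theorem residue_isIntegral (φ : B →ₐ[Q] E) (n : Ideal B) [n.IsPrime] (m : Ideal E) [m.IsPrime]
    (hm : m.comap φ = n) [hq : (n.comap (algebraMap Q B)).IsMaximal] : Algebra.IsIntegral Q (B ⧸ n) := by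
  let p := m.under P
  have hp : p.IsMaximal := by
    refine Ideal.isMaximal_of_isIntegral_of_isMaximal_comap (R := Q) p ?_
    have : p.comap (algebraMap Q P) = n.comap (algebraMap Q B) := by
      subst hm
      simp only [p, Ideal.under_def, Ideal.comap_comap]
      ext x
      simp [← IsScalarTower.algebraMap_apply Q P E]
    rwa [this]
  let L := m.ResidueField
  have : m.LiesOver p := ⟨rfl⟩
  let := Localization.AtPrime.algebraOfLiesOver p m
  have : Algebra.IsIntegral P L := by
    have : Module.Finite P p.ResidueField :=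
      Module.Finite.of_surjective (Algebra.linearMap P p.ResidueField) p.algebraMap_residueField_surjective
    have : Module.Finite P L := Module.Finite.trans p.ResidueField L
    exact Algebra.IsIntegral.of_finite P L
  have : IsScalarTower Q P L := IsScalarTower.to₁₂₄ Q P E L
  have : Algebra.IsIntegral Q L := Algebra.IsIntegral.trans (R := Q) (A := P) (B := L)
  let ψ : (B ⧸ n) →ₐ[Q] L := Ideal.Quotient.liftₐ n ((IsScalarTower.toAlgHom Q E L).comp φ) fun x hx => by
    subst hm
    exact (Ideal.algebraMap_residueField_eq_zero).2 hx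
  have hψ : Function.Injective ψ := by
    rw [injective_iff_map_eq_zero]
    intro x hx
    obtain ⟨x, rfl⟩ := Ideal.Quotient.mk_surjective x
    rw [Ideal.Quotient.eq_zero_iff_mem, ← hm]
    exact (Ideal.algebraMap_residueField_eq_zero (I := m)).1 hx
  exact ⟨fun x => (isIntegral_algHom_iff ψ hψ).1 (Algebra.IsIntegral.isIntegral (ψ x))⟩

/-- maximality and rigidity of points over separably closed closed points -/
theorem isMaximal_and_rigid (n : Ideal B) [n.IsPrime] [hq : (n.comap (algebraMap Q B)).IsMaximal]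
    (hsc : IsSepClosed (n.comap (algebraMap Q B)).ResidueField)
    (φ : B →ₐ[Q] E) (m : Ideal E) [m.IsPrime] (hm : m.comap φ = n) :
    n.IsMaximal ∧ ∀ (K : Type u) [Field K] (a b : B →+* K), a.comp (algebraMap Q B) = b.comp (algebraMap Q B) →
      RingHom.ker a = n → RingHom.ker b = n → a = b := by
  have := residue_isIntegral P φ n m hm
  have hn : n.IsMaximal := by
    have hbot : (⊥ : Ideal (B ⧸ n)).IsMaximal := by
      have : (⊥ : Ideal (B ⧸ n)).IsPrime := Ideal.isPrime_bot
      refine Ideal.isMaximal_of_isIntegral_of_isMaximal_comap (R := Q) _ ?_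
      rw [← RingHom.ker_eq_comap_bot, IsScalarTower.algebraMap_eq Q B (B ⧸ n), ← RingHom.comap_ker,
        Ideal.Quotient.algebraMap_eq, Ideal.mk_ker]
      exact hq
    refine Ideal.Quotient.maximal_of_isField n ?_
    by_contra hnf
    exact Ring.not_isField_iff_exists_ideal_bot_lt_and_lt_top.1 hnf |>.elim fun J hJ => hJ.2.ne (hbot.1.2 J hJ.1)
  refine ⟨hn, fun K _ a b hab ha hb => ?_⟩
  let q := n.comap (algebraMap Q B)
  let := Ideal.Quotient.field q
  let := Ideal.Quotient.field n
  let A := B ⧸ n
  have hlo : n.LiesOver q := ⟨rfl⟩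
  have : IsSepClosed (Q ⧸ q) :=
    .of_exists_root _ fun f hf hirr hsep => by
      let e := RingEquiv.ofBijective (algebraMap (Q ⧸ q) q.ResidueField) q.bijective_algebraMap_quotient_residueField
      obtain ⟨x, hx⟩ := IsSepClosed.exists_root (f.map e.toRingHom)
        (by rw [Polynomial.degree_map]; exact (Polynomial.degree_pos_of_irreducible hirr).ne') hsep.map
      refine ⟨e.symm x, e.injective ?_⟩
      rw [map_zero]
      calc e (f.eval (e.symm x)) = (f.map e.toRingHom).eval (e (e.symm x)) := (Polynomial.eval_map_apply e.toRingHom (e.symm x)).symm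
        _ = 0 := by rw [e.apply_symm_apply]; exact hx
  have : Algebra.IsIntegral (Q ⧸ q) A := .tower_top (R := Q)
  let a₀ : A →+* K := Ideal.Quotient.lift n a fun x hx => RingHom.mem_ker.1 (ha ▸ hx)
  let b₀ : A →+* K := Ideal.Quotient.lift n b fun x hx => RingHom.mem_ker.1 (hb ▸ hx)
  have h0 : a₀.comp (algebraMap (Q ⧸ q) A) = b₀.comp (algebraMap (Q ⧸ q) A) := by
    refine Ideal.Quotient.ringHom_ext (RingHom.ext fun x => ?_)
    exact RingHom.congr_fun hab x
  let : Algebra (Q ⧸ q) K := (a₀.comp (algebraMap (Q ⧸ q) A)).toAlgebra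
  let a₁ : A →ₐ[Q ⧸ q] K := ⟨a₀, fun _ => rfl⟩
  let b₁ : A →ₐ[Q ⧸ q] K := ⟨b₀, fun x => (RingHom.congr_fun h0 x).symm⟩
  refine RingHom.ext fun x => ?_
  exact AlgHom.congr_fun (Subsingleton.elim a₁ b₁) (Ideal.Quotient.mk n x)

end Groth.Agent.SpChev
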