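import Mathlib.Topology.Separation.Profinite
import Mathlib.Topology.Separation.Basic

/-!
# Transversals of open equivalence relations on profinite spaces
-/

universe u v w

namespace Groth.Agent.SpChev

variable {U : Type u} {R : Type v} {Y : Type w} [TopologicalSpace U] [TopologicalSpace R]
  [CompactSpace U] [T2Space U] [TotallyDisconnectedSpace U] [CompactSpace R]

/-- an equivalence relation with open projections on a profinite space whose diagonal is open has a clopen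
transversal -/
theorem exists_transversal {t s : R → U} (ht : Continuous t) (hs : Continuous s) (hto : IsOpenMap t)
    (φ : U → Y) (h : ∀ a b, φ a = φ b ↔ ∃ r, t r = a ∧ s r = b) {Δ : Set R} (hΔ : IsOpen Δ)
    (hd : ∀ r, t r = s r → r ∈ Δ) (hd' : ∀ r ∈ Δ, t r = s r) :
    ∃ W : Set U, IsClopen W ∧ (∀ r, t r ∈ W → s r ∈ W → r ∈ Δ) ∧ ∀ u, ∃ w ∈ W, φ w = φ u := by
  classical
  have key : ∀ u, ∃ V : Set U, IsClopen V ∧ u ∈ V ∧ ∀ r, t r ∈ V → s r ∈ V → r ∈ Δ := fun u => by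
    have hK : IsClosed (s '' (Δᶜ ∩ t ⁻¹' {u})) :=
      ((hΔ.isClosed_compl.inter (isClosed_singleton.preimage ht)).isCompact.image hs).isClosed
    have huK : u ∉ s '' (Δᶜ ∩ t ⁻¹' {u}) := by
      rintro ⟨r, ⟨hr, hru⟩, hsu⟩
      exact hr (hd r (hru.trans hsu.symm))
    obtain ⟨V, hV, huV, hVK⟩ := compact_exists_isClopen_in_isOpen hK.isOpen_compl huK
    let B := t '' (Δᶜ ∩ t ⁻¹' V ∩ s ⁻¹' V)
    have hB : IsClosed B :=
      (((hΔ.isClosed_compl.inter (hV.1.preimage ht)).inter (hV.1.preimage hs)).isCompact.image ht).isClosed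
    have huB : u ∉ B := by
      rintro ⟨r, ⟨⟨hr, -⟩, hsV⟩, hru⟩
      exact hVK hsV ⟨r, ⟨hr, hru⟩, rfl⟩
    obtain ⟨V', hV', huV', hV'V⟩ := compact_exists_isClopen_in_isOpen (hV.2.inter hB.isOpen_compl) ⟨huV, huB⟩
    refine ⟨V', hV', huV', fun r h1 h2 => by_contra fun hr => (hV'V h1).2 ?_⟩
    exact ⟨r, ⟨⟨hr, (hV'V h1).1⟩, (hV'V h2).1⟩, rfl⟩
  choose V hV huV hVΔ using key
  obtain ⟨σ, hσ⟩ := isCompact_univ.elim_finite_subcover V (fun u => (hV u).2)
    fun u _ => Set.mem_iUnion.2 ⟨u, huV u⟩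
  have build : ∀ σ : Finset U, ∃ W : Set U, IsClopen W ∧ (∀ r, t r ∈ W → s r ∈ W → r ∈ Δ) ∧
      ∀ u ∈ σ, ∀ v ∈ V u, ∃ w ∈ W, φ w = φ v := by
    intro σ
    induction σ using Finset.induction with
    | empty => exact ⟨∅, isClopen_empty, fun r h => h.elim, fun u hu => by simp at hu⟩
    | insert a σ _ ih =>
      obtain ⟨W, hW, hWΔ, hWc⟩ := ih
      let sat := t '' (s ⁻¹' W)
      have hsat : IsClopen sat :=
        ⟨((hW.1.preimage hs).isCompact.image ht).isClosed, hto _ (hW.2.preimage hs)⟩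
      refine ⟨W ∪ (V a \ sat), hW.union ((hV a).diff hsat), fun r h1 h2 => ?_, fun u hu v hv => ?_⟩
      · rcases h1 with h1 | h1 <;> rcases h2 with h2 | h2
        · exact hWΔ r h1 h2
        · obtain ⟨r', hr1, hr2⟩ := (h (s r) (t r)).1 ((h (t r) (s r)).2 ⟨r, rfl, rfl⟩).symm
          exact absurd ⟨r', show s r' ∈ W by rw [hr2]; exact h1, hr1⟩ h2.2
        · exact absurd ⟨r, h2, rfl⟩ h1.2
        · exact hVΔ a r h1.1 h2.1
      · rcases Finset.mem_insert.1 hu with rfl | hu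
        · by_cases hvs : v ∈ sat
          · obtain ⟨r, hr, rfl⟩ := hvs
            exact ⟨s r, Or.inl hr, ((h _ _).2 ⟨r, rfl, rfl⟩).symm⟩
          · exact ⟨v, Or.inr ⟨hv, hvs⟩, rfl⟩
        · obtain ⟨w, hw, e⟩ := hWc u hu v hv
          exact ⟨w, Or.inl hw, e⟩
  obtain ⟨W, hW, hWΔ, hWc⟩ := build σ
  refine ⟨W, hW, hWΔ, fun u => ?_⟩
  obtain ⟨a, ha, hua⟩ := Set.mem_iUnion₂.1 (hσ (Set.mem_univ u))
  exact hWc a ha u hua

end Groth.Agent.SpChev
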