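import Groth.Agent.SpChev.Basic
import Groth.Agent.SpChev.Residue
import Groth.Agent.SpChev.Transversal
import Groth.Agent.WContr.WLocalSquare
import Groth.Agent.Hensel.Etale
import Groth.Agent.Hensel.Ops
import Groth.Agent.EtaleSections.Basic
import Groth.Agent.AbsApprox.Chevalley

/-!
# Spaces receiving a surjection from an integral algebra over a strictly henselian base are affine
-/

set_option autoImplicit false
set_option linter.style.haveILetI false

universe u

open CategoryTheory CategoryTheory.Limits AlgebraicGeometry Topology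

set_option backward.isDefEq.respectTransparency false

namespace Groth.Agent.SpChev

open _root_.AlgSp Groth.Agent.AlgSpLib

variable {S : Scheme.{u}}

theorem exists_spec_form (X : Over S) [IsAffine X.left] :
    ∃ (A : CommRingCat.{u}) (a : Spec A ⟶ S), Nonempty (X ≅ Over.mk a) :=
  ⟨Γ(X.left, ⊤), X.left.isoSpec.inv ≫ X.hom, ⟨Over.isoMk X.left.isoSpec (by simp)⟩⟩

/-- an etale monomorphism between affine schemes over the base -/
theorem isOpenImmersion_of_section {X Z : Over S} {s : X ⟶ Z} {p : Z ⟶ X} [Etale p.left] (h : s ≫ p = 𝟙 X) :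
    IsOpenImmersion s.left := by
  have e : s.left ≫ p.left = 𝟙 X.left := congrArg (fun k => k.left) h
  have : Etale (s.left ≫ p.left) := by rw [e]; infer_instance
  have : Etale s.left := Etale.of_comp s.left p.left
  have : IsSplitMono s.left := ⟨⟨⟨p.left, e⟩⟩⟩
  exact IsOpenImmersion.of_flat_of_mono s.left

theorem universallyInjective_of_field_points {X Z : Scheme.{u}} (p : X ⟶ Z)
    (h : ∀ (K : Type u) [Field K] (a b : Spec (CommRingCat.of K) ⟶ X), a ≫ p = b ≫ p → a = b) :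
    UniversallyInjective p := by
  refine (UniversallyInjective.iff_diagonal p).2 ⟨fun y => ?_⟩
  let K := (pullback p p).residueField y
  let ρ := (pullback p p).fromSpecResidueField y
  have e := h K (ρ ≫ pullback.fst p p) (ρ ≫ pullback.snd p p) (by simp [pullback.condition])
  refine ⟨(ρ ≫ pullback.fst p p) (IsLocalRing.closedPoint K), ?_⟩
  have hρ : (ρ ≫ pullback.fst p p) ≫ pullback.diagonal p = ρ := by
    apply pullback.hom_ext <;> simp [e]
  rw [← Scheme.Hom.comp_apply, hρ]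
  exact Scheme.fromSpecResidueField_apply _ _

/-- maps from the spectrum of a field to an affine scheme are detected by a nonempty scheme over it -/
theorem eq_of_nonempty_comp {K : Type u} [Field K] {X : Scheme.{u}} {Z : Scheme.{u}} [IsAffine Z] [Nonempty ↥X]
    (β : X ⟶ Spec (CommRingCat.of K)) (a b : Spec (CommRingCat.of K) ⟶ Z) (e : β ≫ a = β ≫ b) : a = b := by
  refine ext_of_isAffine ?_
  have e' := congrArg Scheme.Hom.appTop e
  simp only [Scheme.Hom.comp_appTop] at e'
  have : IsField Γ(Spec (CommRingCat.of K), ⊤) :=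
    (Scheme.ΓSpecIso _).commRingCatIsoToRingEquiv.toMulEquiv.isField (Field.toIsField K)
  letI := this.toField
  have : Nontrivial Γ(X, ⊤) := (X.presheaf.germ ⊤ (Classical.arbitrary X) trivial).hom.domain_nontrivial
  refine CommRingCat.hom_ext (RingHom.ext fun x => β.appTop.hom.injective ?_)
  exact congr($(e').hom x)

/-- field points of a base change of an injective piece agree -/
theorem field_inj (hS : IsTerminal S) {Y : Sp S} {P : CommRingCat.{u}} {pS : Spec P ⟶ S} {E U : Over S}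
    {c : E ⟶ Over.mk pS} {q : E ⟶ U} {f : (yon S).obj (Over.mk pS) ⟶ Y} {π : (yon S).obj U ⟶ Y}
    (sq : IsPullback ((yon S).map c) ((yon S).map q) f π) {Q : CommRingCat.{u}} (J : Set Q)
    {q₀ : Spec Q ⟶ S} (u : U ⟶ Over.mk q₀)
    (inj : ∀ (X : Over S) (z : ↥X.left), Subsingleton ↥X.left → IsReduced X.left → ∀ a b : X ⟶ U,
      (yon S).map a ≫ π = (yon S).map b ≫ π → u.left (a.left z) ∈ PrimeSpectrum.zeroLocus J → a = b)
    (K : Type u) [Field K] (a b : Spec (CommRingCat.of K) ⟶ E.left) (e : a ≫ c.left = b ≫ c.left)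
    (ha : ∀ z, u.left (q.left (a z)) ∈ PrimeSpectrum.zeroLocus J) : a = b := by
  let A : Over.mk (a ≫ E.hom) ⟶ E := Over.homMk a rfl
  let B : Over.mk (a ≫ E.hom) ⟶ E := Over.homMk b (hS.hom_ext _ _)
  have e₁ : A ≫ c = B ≫ c := Over.OverMorphism.ext e
  let z : ↥(Spec (CommRingCat.of K)) := IsLocalRing.closedPoint K
  have e₂ : A ≫ q = B ≫ q := inj _ z (inferInstanceAs (Subsingleton (PrimeSpectrum K)))
    (inferInstanceAs (IsReduced (Spec (CommRingCat.of K)))) _ _ (by
      rw [Functor.map_comp, Functor.map_comp, Category.assoc, Category.assoc, ← sq.w, ← Category.assoc,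
        ← Category.assoc, ← Functor.map_comp, ← Functor.map_comp, e₁]) (ha z)
  exact congrArg (fun m => m.left) ((yon S).map_injective (sq.hom_ext
    (by rw [← Functor.map_comp, ← Functor.map_comp, e₁]) (by rw [← Functor.map_comp, ← Functor.map_comp, e₂])) : A = B)

/-- an etale scheme with trivial closed fibre over a henselian pair has a section through that fibre -/
theorem exists_hens_section {P : CommRingCat.{u}} {E : Scheme.{u}} [IsAffine E] (c : E ⟶ Spec P) [Etale c]
    (JP : Ideal P) [HenselianRing P JP]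
    (surj : ∀ x : Spec P, x ∈ PrimeSpectrum.zeroLocus (R := P) JP → ∃ e, c e = x)
    (inj : ∀ (K : Type u) [Field K] (a b : Spec (CommRingCat.of K) ⟶ E), a ≫ c = b ≫ c →
      (∀ z, c (a z) ∈ PrimeSpectrum.zeroLocus (R := P) JP) → a = b) :
    ∃ s : Spec P ⟶ E, s ≫ c = 𝟙 _ ∧ ∀ e, c e ∈ PrimeSpectrum.zeroLocus (R := P) JP → e ∈ Set.range s := by
  let k : Spec (CommRingCat.of (P ⧸ JP)) ⟶ Spec P := Spec.map (CommRingCat.ofHom (Ideal.Quotient.mk JP))
  have : IsClosedImmersion k := IsClosedImmersion.spec_of_surjective _ Ideal.Quotient.mk_surjective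
  have hkr : Set.range k = PrimeSpectrum.zeroLocus (R := P) JP :=
    (range_comap_of_surjective _ _ Ideal.Quotient.mk_surjective).trans (by rw [Ideal.mk_ker])
  let p₀ := pullback.snd c k
  have : UniversallyInjective p₀ := universallyInjective_of_field_points p₀ fun K _ a b e => by
    have e' : a ≫ pullback.fst c k = b ≫ pullback.fst c k := inj K _ _
      (by
        have h1 := congrArg (· ≫ k) e
        simp only [p₀, Category.assoc] at h1
        simpa only [Category.assoc, pullback.condition] using h1)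
      fun z => by
        rw [← hkr, ← Scheme.Hom.comp_apply, Category.assoc, pullback.condition, ← Category.assoc,
          Scheme.Hom.comp_apply]
        exact ⟨_, rfl⟩
    exact pullback.hom_ext e' e
  have : IsOpenImmersion p₀ := EtaleSections.isOpenImmersion_of_etale_universallyInjective p₀
  have : IsIso p₀ := (isIso_iff_isOpenImmersion_and_surjective p₀).2 ⟨inferInstance, ⟨fun x => by
    obtain ⟨e, he⟩ := surj (k x) (hkr ▸ ⟨x, rfl⟩)
    obtain ⟨y, -, hy⟩ := Scheme.Pullback.exists_preimage_pullback e x he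
    exact ⟨y, hy⟩⟩⟩
  let σ₀ : Spec (CommRingCat.of (P ⧸ JP)) ⟶ E := inv p₀ ≫ pullback.fst c k
  have hσ₀ : σ₀ ≫ c = k := by simp [σ₀, p₀, pullback.condition]
  let e := E.isoSpec
  obtain ⟨aC, haC⟩ : ∃ φ : P ⟶ Γ(E, ⊤), e.inv ≫ c = Spec.map φ := ⟨_, (Spec.map_preimage _).symm⟩
  obtain ⟨σ₁, hσ₁⟩ : ∃ φ : Γ(E, ⊤) ⟶ CommRingCat.of (P ⧸ JP), σ₀ ≫ e.hom = Spec.map φ :=
    ⟨_, (Spec.map_preimage _).symm⟩
  have hσc : aC ≫ σ₁ = CommRingCat.ofHom (Ideal.Quotient.mk JP) := Spec.map_injective (by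
    rw [Spec.map_comp, ← haC, ← hσ₁, Category.assoc, e.hom_inv_id_assoc, hσ₀])
  letI : Algebra P Γ(E, ⊤) := aC.hom.toAlgebra
  haveI : Algebra.Etale P Γ(E, ⊤) := by
    have h1 : Etale (Spec.map aC) := by rw [← haC]; infer_instance
    exact RingHom.etale_algebraMap.1 ((HasRingHomProperty.Spec_iff (P := @Etale) (φ := aC)).1 h1)
  obtain ⟨τ, hτ, -⟩ := Hensel.existsUnique_algHom_lift (I := JP)
    (⟨σ₁.hom, fun x => congr($(hσc).hom x)⟩ : (Γ(E, ⊤) : Type u) →ₐ[P] P ⧸ JP)
  let s : Spec P ⟶ E := Spec.map (CommRingCat.ofHom τ.toRingHom) ≫ e.inv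
  refine ⟨s, ?_, fun y hy => ?_⟩
  · rw [Category.assoc, haC, ← Spec.map_comp, ← Spec.map_id]
    exact congrArg Spec.map (CommRingCat.hom_ext (RingHom.ext fun x => τ.commutes x))
  · have hks : k ≫ s = σ₀ := by
      rw [← cancel_mono e.hom, hσ₁]
      simp only [k, s, Category.assoc, e.inv_hom_id]
      erw [Category.comp_id]
      rw [← Spec.map_comp]
      exact congrArg Spec.map (CommRingCat.hom_ext (RingHom.ext fun x => hτ x))
    rw [← hkr] at hy
    obtain ⟨x, hx⟩ := hy
    obtain ⟨z, hz1, hz2⟩ := Scheme.Pullback.exists_preimage_pullback y x hx.symm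
    refine ⟨k x, ?_⟩
    rw [← Scheme.Hom.comp_apply, hks, ← hz2, ← Scheme.Hom.comp_apply]
    show (p₀ ≫ inv p₀ ≫ pullback.fst c k) z = y
    rw [IsIso.hom_inv_id_assoc, hz1]

set_option maxHeartbeats 1600000 in
/-- an affine etale piece meeting every fibre over closed points exactly once -/
theorem exists_piece (hS : IsTerminal S) {Y : Sp S} (hYa : IsAlgSpace Y) (hY : IsSeparatedSp Y)
    {Q P : CommRingCat.{u}} (q₀ : Spec Q ⟶ S) (pS : Spec P ⟶ S) (f : (yon S).obj (Over.mk pS) ⟶ Y)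
    (hfs : RepWith @Surjective f) (g : Y ⟶ (yon S).obj (Over.mk q₀)) {h : Over.mk pS ⟶ Over.mk q₀}
    (comm : f ≫ g = (yon S).map h) (hint : IsIntegralHom h.left) (J : Ideal Q)
    (hmax : ∀ q : Ideal Q, q.IsPrime → J ≤ q → q.IsMaximal)
    (hsc : ∀ (q : Ideal Q) [q.IsMaximal], IsSepClosed q.ResidueField) :
    ∃ (U₁ : Over S) (π₁ : (yon S).obj U₁ ⟶ Y) (u₁ : U₁ ⟶ Over.mk q₀), IsAffine U₁.left ∧ RepWith @Etale π₁ ∧
      π₁ ≫ g = (yon S).map u₁ ∧
      (∀ (X : Over S) (z : ↥X.left), Subsingleton ↥X.left → IsReduced X.left → ∀ a b : X ⟶ U₁,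
        (yon S).map a ≫ π₁ = (yon S).map b ≫ π₁ →
          u₁.left (a.left z) ∈ PrimeSpectrum.zeroLocus (J : Set Q) → a = b) ∧
      ∀ x : Spec P, h.left x ∈ PrimeSpectrum.zeroLocus (J : Set Q) →
        ∃ w, Points.ofPt π₁ w = Points.ofPt f x := by
  have := isAffine_base hS
  haveI : IsAffine (Over.mk pS).left := inferInstanceAs (IsAffine (Spec P))
  have := compactSpace_of_isQuasiCompactSp
    (isQuasiCompactSp_of_isSurjectiveMor hYa f (isSurjectiveMor_of_repWith hfs) (isQuasiCompactSp_yon _))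
  -- the chart
  obtain ⟨U₀, π₀, hU₀, hπ₀e, hπ₀s⟩ := exists_affine_chart_of_compact hYa
  obtain ⟨B, bS, ⟨eU⟩⟩ := exists_spec_form U₀
  let U : Over S := Over.mk bS
  haveI : IsAffine U.left := inferInstanceAs (IsAffine (Spec B))
  let π : (yon S).obj U ⟶ Y := (yon S).map eU.inv ≫ π₀
  have hπe : RepWith @Etale π := (repWith_iso_comp_iff _ _).2 hπ₀e
  have hπs : RepWith @Surjective π := (repWith_iso_comp_iff _ _).2 hπ₀s
  obtain ⟨u, hu⟩ := exists_map_eq (π ≫ g)
  obtain ⟨uB, huB⟩ : ∃ φ : Q ⟶ B, u.left = Spec.map φ := ⟨_, (Spec.map_preimage _).symm⟩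
  obtain ⟨wP, hwP⟩ : ∃ φ : Q ⟶ P, h.left = Spec.map φ := ⟨_, (Spec.map_preimage _).symm⟩
  -- the relation
  obtain ⟨R, t, s, sqR⟩ := exists_pullback hYa.diag π π
  have : IsAffine R.left := (affine_pullback_of_isSeparatedSp hY sqR).1
  have : Etale t.left := (repWith_yon_iff t).1 (repWith_baseChange sqR.flip hπe)
  have hts : t ≫ u = s ≫ u := (yon S).map_injective (by
    rw [Functor.map_comp, Functor.map_comp, hu, reassoc_of% sqR.w])
  obtain ⟨d, hd⟩ := exists_map_eq (sqR.lift (𝟙 _) (𝟙 _) rfl)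
  have hdt : d ≫ t = 𝟙 U := (yon S).map_injective (by
    rw [Functor.map_comp, hd, sqR.lift_fst, CategoryTheory.Functor.map_id])
  have hds : d ≫ s = 𝟙 U := (yon S).map_injective (by
    rw [Functor.map_comp, hd, sqR.lift_snd, CategoryTheory.Functor.map_id])
  have := isOpenImmersion_of_section hdt
  -- the closed fibre of the chart
  let V₀ : Set (PrimeSpectrum Q) := PrimeSpectrum.zeroLocus (J : Set Q)
  let U₀ : Set U.left := u.left ⁻¹' V₀
  obtain ⟨E', e₁', e₂', sqE'⟩ := exists_pullback hYa.diag f π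
  have : IsAffine E'.left := (affine_pullback_of_isSeparatedSp hY sqE').1
  obtain ⟨E, eS, ⟨eE⟩⟩ := exists_spec_form E'
  let e₁ : Over.mk eS ⟶ Over.mk pS := eE.inv ≫ e₁'
  let e₂ : Over.mk eS ⟶ U := eE.inv ≫ e₂'
  have sqE : IsPullback ((yon S).map e₁) ((yon S).map e₂) f π :=
    sqE'.of_iso ((yon S).mapIso eE) (Iso.refl _) (Iso.refl _) (Iso.refl _) (by simp [e₁]) (by simp [e₂])
      (by simp) (by simp)
  obtain ⟨aP, haP⟩ : ∃ φ : P ⟶ E, e₁.left = Spec.map φ := ⟨_, (Spec.map_preimage _).symm⟩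
  obtain ⟨aB, haB⟩ : ∃ φ : B ⟶ E, e₂.left = Spec.map φ := ⟨_, (Spec.map_preimage _).symm⟩
  have hue : e₁ ≫ h = e₂ ≫ u := (yon S).map_injective (by
    rw [Functor.map_comp, Functor.map_comp (yon S) e₂ u, ← comm, hu, reassoc_of% sqE.w])
  have hcomm : wP ≫ aP = uB ≫ aB := Spec.map_injective (by
    rw [Spec.map_comp, Spec.map_comp, ← hwP, ← haP, ← huB, ← haB, ← Over.comp_left, hue, Over.comp_left])
  have hetE : Etale e₁.left := (repWith_yon_iff e₁).1 (repWith_baseChange sqE.flip hπe)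
  have hofPt : ∀ {X : Over S} (a : X ⟶ U) (x : ↥X.left) (b : X ⟶ Over.mk q₀),
      (yon S).map a ≫ π ≫ g = (yon S).map b → u.left (a.left x) = b.left x := fun a x b e => by
    rw [← hu, ← Functor.map_comp] at e
    rw [← Scheme.Hom.comp_apply, ← Over.comp_left, (yon S).map_injective e]
  have key : ∀ n ∈ U₀, IsClosed ({n} : Set U.left) ∧ ∀ (K : Type u) [Field K]
      (a b : Spec (CommRingCat.of K) ⟶ U.left) (z : ↥(Spec (CommRingCat.of K))),
      a z = n → b z = n → a ≫ u.left = b ≫ u.left → a = b := by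
    intro n hn
    obtain ⟨x, hx⟩ := ofPt_surjective hfs (Points.ofPt π n)
    obtain ⟨m, -, hm⟩ := (ofPt_eq_iff sqE x n).1 hx
    letI : Algebra Q P := wP.hom.toAlgebra
    letI : Algebra Q B := uB.hom.toAlgebra
    letI : Algebra P E := aP.hom.toAlgebra
    letI : Algebra Q E := (wP ≫ aP).hom.toAlgebra
    haveI : IsScalarTower Q P E := .of_algebraMap_eq fun _ => rfl
    haveI : Algebra.IsIntegral Q P := ⟨by
      have := hint
      rw [hwP] at this
      exact IsIntegralHom.SpecMap_iff.1 this⟩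
    haveI : Algebra.Etale P E := by
      have := (HasRingHomProperty.Spec_iff (P := @Etale) (φ := aP)).1 (haP ▸ hetE)
      exact RingHom.etale_algebraMap.1 this
    let φ : (B : Type u) →ₐ[Q] E := ⟨aB.hom, fun x => congr($(hcomm.symm).hom x)⟩
    have hnq : J ≤ (PrimeSpectrum.asIdeal n).comap uB.hom := by
      have h1 : u.left n ∈ V₀ := hn
      rwa [huB] at h1
    haveI : ((PrimeSpectrum.asIdeal n).comap (algebraMap Q B)).IsMaximal := hmax _ inferInstance hnq
    have hmn : (PrimeSpectrum.asIdeal m).comap φ = PrimeSpectrum.asIdeal n := by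
      have h1 : (e₂.left m) = n := hm
      rw [haB] at h1
      rw [← h1]
      rfl
    obtain ⟨h1, h2⟩ := isMaximal_and_rigid P (PrimeSpectrum.asIdeal n) (hsc _) φ (PrimeSpectrum.asIdeal m) hmn
    refine ⟨(PrimeSpectrum.isClosed_singleton_iff_isMaximal _).2 h1, fun K _ a b z ha hb hab => ?_⟩
    obtain ⟨a', rfl⟩ : ∃ φ : B ⟶ CommRingCat.of K, a = Spec.map φ := ⟨_, (Spec.map_preimage _).symm⟩
    obtain ⟨b', rfl⟩ : ∃ φ : B ⟶ CommRingCat.of K, b = Spec.map φ := ⟨_, (Spec.map_preimage _).symm⟩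
    have hz : PrimeSpectrum.asIdeal z = ⊥ := Ideal.eq_bot_of_prime _
    congr 1
    refine CommRingCat.hom_ext (h2 K a'.hom b'.hom ?_ ?_ ?_)
    · rw [huB, ← Spec.map_comp, ← Spec.map_comp] at hab
      exact congrArg CommRingCat.Hom.hom (Spec.map_injective hab)
    · rw [← ha, RingHom.ker_eq_comap_bot, ← hz]; rfl
    · rw [← hb, RingHom.ker_eq_comap_bot, ← hz]; rfl
  -- the closed fibre is profinite
  have hU₀ : U₀ = PrimeSpectrum.zeroLocus (R := B) (J.map uB.hom) := by
    show u.left ⁻¹' V₀ = _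
    rw [huB, Ideal.map, PrimeSpectrum.zeroLocus_span]
    exact PrimeSpectrum.preimage_comap_zeroLocus uB.hom _
  obtain ⟨hUc, hUt, hUd⟩ : ProEtW.IsProfinite U₀ := by
    rw [hU₀]
    exact WContr.WSquare.isProfinite_zeroLocus _ fun n hn => (key n (hU₀ ▸ hn)).1
  have hU₀c : IsClosed U₀ := (PrimeSpectrum.isClosed_zeroLocus _).preimage u.left.continuous
  let R₀ : Set R.left := t.left ⁻¹' U₀
  have hsR : ∀ r : R.left, r ∈ R₀ ↔ s.left r ∈ U₀ := fun r => by
    show u.left (t.left r) ∈ V₀ ↔ u.left (s.left r) ∈ V₀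
    rw [← Scheme.Hom.comp_apply, ← Over.comp_left, hts, Over.comp_left, Scheme.Hom.comp_apply]
  have : CompactSpace R₀ := isCompact_iff_compactSpace.1 (hU₀c.preimage t.left.continuous).isCompact
  let t₀ : R₀ → U₀ := Set.restrictPreimage U₀ t.left
  let s₀ : R₀ → U₀ := fun r => ⟨s.left r.1, (hsR r.1).1 r.2⟩
  have hto : IsOpenMap t₀ := t.left.isOpenMap.restrictPreimage U₀
  obtain ⟨W₀, hW₀, hW₀Δ, hW₀s⟩ := exists_transversal (Δ := (Subtype.val ⁻¹' Set.range d.left : Set R₀))
    (t.left.continuous.restrictPreimage (s := U₀)) ((s.left.continuous.comp continuous_subtype_val).subtype_mk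
      fun r => (hsR r.1).1 r.2) hto (fun n => Points.ofPt π n.1)
    (fun a b => by
      rw [ofPt_eq_iff sqR]
      refine ⟨fun ⟨r, h1, h2⟩ => ⟨⟨r, show t.left r ∈ U₀ from h1 ▸ a.2⟩, Subtype.ext h1, Subtype.ext h2⟩,
        fun ⟨r, h1, h2⟩ => ⟨r.1, congrArg Subtype.val h1, congrArg Subtype.val h2⟩⟩)
    (d.left.isOpenEmbedding.isOpen_range.preimage continuous_subtype_val)
    (fun r hr => by
      let K := R.left.residueField r.1
      let ρ : Over.mk (R.left.fromSpecResidueField r.1 ≫ R.hom) ⟶ R := Over.homMk (R.left.fromSpecResidueField r.1) rfl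
      let z : ↥(Spec K) := IsLocalRing.closedPoint K
      have hρ : ρ.left z = r.1 := Scheme.fromSpecResidueField_apply _ _
      have e : ρ ≫ t = ρ ≫ s := Over.OverMorphism.ext ((key _ r.2).2 K _ _ z (congrArg t.left hρ)
        ((congrArg s.left hρ).trans (congrArg Subtype.val hr).symm)
        (by rw [← Over.comp_left, ← Over.comp_left, Category.assoc, hts, ← Category.assoc]))
      refine ⟨t.left r.1, ?_⟩
      have e' : ρ = (ρ ≫ t) ≫ d := (yon S).map_injective (sqR.hom_ext
        (by rw [← Functor.map_comp, ← Functor.map_comp, Category.assoc, hdt, Category.comp_id])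
        (by rw [← Functor.map_comp, ← Functor.map_comp, Category.assoc, hds, Category.comp_id, e]))
      exact ((congrArg (fun m => m.left z) e').trans (congrArg (fun x => d.left (t.left x)) hρ)).symm.trans hρ)
    (fun r ⟨v, hv⟩ => Subtype.ext (by
      show t.left r.1 = s.left r.1
      rw [← hv, ← Scheme.Hom.comp_apply, ← Scheme.Hom.comp_apply, ← Over.comp_left, ← Over.comp_left, hdt, hds]))
  -- a basic open set through the transversal
  obtain ⟨b, hb⟩ : ∃ b : B, ∀ n : U₀, n ∈ W₀ ↔ b ∉ PrimeSpectrum.asIdeal n.1 := by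
    let I := J.map uB.hom
    let ι : PrimeSpectrum (B ⧸ I) → U₀ := fun p => ⟨PrimeSpectrum.comap (Ideal.Quotient.mk I) p, by
      rw [hU₀]
      intro x hx
      show Ideal.Quotient.mk I x ∈ p.asIdeal
      rw [Ideal.Quotient.eq_zero_iff_mem.2 hx]
      exact zero_mem _⟩
    have hι : Continuous ι := (PrimeSpectrum.continuous_comap (Ideal.Quotient.mk I)).subtype_mk _
    obtain ⟨e, -, he⟩ := PrimeSpectrum.isClopen_iff.1 (hW₀.preimage hι)
    obtain ⟨b, rfl⟩ := Ideal.Quotient.mk_surjective e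
    refine ⟨b, fun n => ?_⟩
    obtain ⟨p, hp⟩ : n.1 ∈ Set.range (PrimeSpectrum.comap (Ideal.Quotient.mk I)) := by
      rw [range_comap_of_surjective _ _ Ideal.Quotient.mk_surjective, Ideal.mk_ker, ← hU₀]
      exact n.2
    have hpn : ι p = n := Subtype.ext hp
    rw [← hpn]
    exact (Set.ext_iff.1 he p)
  let U₁ : Over S := Over.mk (Spec.map (CommRingCat.ofHom (algebraMap B (Localization.Away b))) ≫ bS)
  let j : U₁ ⟶ U := Over.homMk (Spec.map (CommRingCat.ofHom (algebraMap B (Localization.Away b)))) rfl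
  have hjo : IsOpenImmersion j.left := IsOpenImmersion.of_isLocalization b
  have : IsAffine U₁.left := inferInstanceAs (IsAffine (Spec _))
  have hjr : Set.range j.left = (PrimeSpectrum.basicOpen b : Set (PrimeSpectrum B)) :=
    PrimeSpectrum.localization_away_comap_range _ b
  let π₁ : (yon S).obj U₁ ⟶ Y := (yon S).map j ≫ π
  have hπ₁e : RepWith @Etale π₁ := repWith_comp ((repWith_yon_iff j).2 (inferInstance : Etale j.left)) hπe
  refine ⟨U₁, π₁, j ≫ u, inferInstance, hπ₁e, by rw [Category.assoc, Functor.map_comp, hu], ?_, ?_⟩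
  · intro X z _ _ a b' e ha
    replace ha : j.left (a.left z) ∈ U₀ := ha
    simp only [π₁, ← Category.assoc, ← Functor.map_comp] at e
    obtain ⟨ρ, hρ⟩ := exists_map_eq (sqR.lift _ _ e)
    have hρt : ρ ≫ t = a ≫ j := (yon S).map_injective (by rw [Functor.map_comp, hρ, sqR.lift_fst])
    have hρs : ρ ≫ s = b' ≫ j := (yon S).map_injective (by rw [Functor.map_comp, hρ, sqR.lift_snd])
    have hW : ∀ n : U₀, n.1 ∈ Set.range j.left → n ∈ W₀ := fun n hn => (hb n).2 (by
      rw [hjr] at hn; exact hn)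
    have hr : ρ.left z ∈ R₀ := by
      show t.left (ρ.left z) ∈ U₀
      rwa [← Scheme.Hom.comp_apply, ← Over.comp_left, hρt]
    have ht' : t.left (ρ.left z) = j.left (a.left z) := by
      rw [← Scheme.Hom.comp_apply, ← Over.comp_left, hρt]; rfl
    have hs' : s.left (ρ.left z) = j.left (b'.left z) := by
      rw [← Scheme.Hom.comp_apply, ← Over.comp_left, hρs]; rfl
    have hΔ := hW₀Δ ⟨ρ.left z, hr⟩ (hW _ ⟨_, ht'.symm⟩) (hW _ ⟨_, hs'.symm⟩)
    have hsub : Set.range ρ.left ⊆ Set.range d.left := by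
      rintro _ ⟨z', rfl⟩
      rw [Subsingleton.elim z' z]
      exact hΔ
    let l : X ⟶ U := Over.homMk (IsOpenImmersion.lift d.left ρ.left hsub) (by
      rw [← Over.w d, ← Category.assoc, IsOpenImmersion.lift_fac, Over.w ρ])
    have hl : l ≫ d = ρ := Over.OverMorphism.ext (IsOpenImmersion.lift_fac _ _ _)
    have : Mono j := mono_of_left j
    rw [← cancel_mono j, ← hρt, ← hρs, ← hl, Category.assoc, Category.assoc, hdt, hds]
  · intro x hx
    obtain ⟨n, hn⟩ := ofPt_surjective hπs (Points.ofPt f x)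
    have hnU : n ∈ U₀ := by
      obtain ⟨e, rfl, rfl⟩ := (ofPt_eq_iff sqE x n).1 hn.symm
      show u.left (e₂.left e) ∈ V₀
      rw [← Scheme.Hom.comp_apply, ← Over.comp_left, ← hue, Over.comp_left, Scheme.Hom.comp_apply]
      exact hx
    obtain ⟨w, hw, hwn⟩ := hW₀s ⟨n, hnU⟩
    obtain ⟨w', hw'⟩ : w.1 ∈ Set.range j.left := by rw [hjr]; exact (hb w).1 hw
    refine ⟨w', ?_⟩
    rw [← hn, ← hwn, ← hw']
    exact ofPt_comp j π w'

set_option maxHeartbeats 1600000 in
/-- over a base whose closed points form a henselian zero locus with separably closed residue fields -/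
theorem isAff_of_integral_hens_spec (hS : IsTerminal S) {Y : Sp S} (hYa : IsAlgSpace Y) (hY : IsSeparatedSp Y)
    {Q P : CommRingCat.{u}} (q₀ : Spec Q ⟶ S) (pS : Spec P ⟶ S) (f : (yon S).obj (Over.mk pS) ⟶ Y)
    (hfs : RepWith @Surjective f) (g : Y ⟶ (yon S).obj (Over.mk q₀)) {h : Over.mk pS ⟶ Over.mk q₀}
    (comm : f ≫ g = (yon S).map h) (hint : IsIntegralHom h.left) (J : Ideal Q) [HenselianRing Q J]
    (hmax : ∀ q : Ideal Q, q.IsPrime → J ≤ q → q.IsMaximal)
    (hsc : ∀ (q : Ideal Q) [q.IsMaximal], IsSepClosed q.ResidueField) : IsAff Y := by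
  have := isAffine_base hS
  haveI : IsAffine (Over.mk pS).left := inferInstanceAs (IsAffine (Spec P))
  have hfi : RepWith @IsIntegralHom f := repWith_integral_of_over hS hYa hY f g comm hint
  obtain ⟨wP, hwP⟩ : ∃ φ : Q ⟶ P, h.left = Spec.map φ := ⟨_, (Spec.map_preimage _).symm⟩
  let V₀ : Set (PrimeSpectrum Q) := PrimeSpectrum.zeroLocus (J : Set Q)
  obtain ⟨U₁, π₁, u₁, hU₁, hπ₁e, hu₁, inj₁, cover₁⟩ :=
    exists_piece hS hYa hY q₀ pS f hfs g comm hint J hmax hsc
  obtain ⟨E₁, c, q₁, sq₁⟩ := exists_pullback hYa.diag f π₁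
  have : IsAffine E₁.left := (affine_pullback_of_isSeparatedSp hY sq₁).1
  have : Etale c.left := (repWith_yon_iff c).1 (repWith_baseChange sq₁.flip hπ₁e)
  have : IsIntegralHom q₁.left := (repWith_yon_iff q₁).1 (repWith_baseChange sq₁ hfi)
  have hcu : c ≫ h = q₁ ≫ u₁ := (yon S).map_injective (by
    rw [Functor.map_comp, Functor.map_comp, ← comm, ← hu₁, reassoc_of% sq₁.w])
  let Z₀ : Set (Spec P) := h.left ⁻¹' V₀
  have hcu' : ∀ e : E₁.left, u₁.left (q₁.left e) ∈ V₀ ↔ c.left e ∈ Z₀ := fun e => by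
    show u₁.left (q₁.left e) ∈ V₀ ↔ h.left (c.left e) ∈ V₀
    simp only [← Scheme.Hom.comp_apply, ← Over.comp_left, hcu]
  have surj₁ : ∀ x : Spec P, x ∈ Z₀ → ∃ e : E₁.left, c.left e = x := fun x hx => by
    obtain ⟨w, hw⟩ := cover₁ x hx
    obtain ⟨e, he, -⟩ := (ofPt_eq_iff sq₁ x w).1 hw.symm
    exact ⟨e, he⟩
  -- the section
  letI : Algebra Q P := wP.hom.toAlgebra
  haveI : Algebra.IsIntegral Q P := ⟨by
      have := hint
      rw [hwP] at this
      exact IsIntegralHom.SpecMap_iff.1 this⟩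
  haveI : HenselianRing P (J.map wP.hom) := Hensel.henselianRing_integral Q J P
  have hZ₀ : Z₀ = PrimeSpectrum.zeroLocus (R := P) (J.map wP.hom) := by
    show h.left ⁻¹' V₀ = _
    rw [hwP]
    exact (PrimeSpectrum.preimage_comap_zeroLocus wP.hom (J : Set Q)).trans (PrimeSpectrum.zeroLocus_span _).symm
  obtain ⟨s₀, hs₀c, hs₀⟩ := exists_hens_section c.left (J.map wP.hom) (fun x hx => surj₁ x (hZ₀ ▸ hx))
    (fun K _ a b e hz => field_inj hS sq₁ (J : Set Q) u₁ inj₁ K a b e fun z => by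
      have := hz z
      rw [← hZ₀] at this
      exact (hcu' (a z)).2 this)
  let s₁ : Over.mk pS ⟶ E₁ := Over.homMk s₀ (hS.hom_ext _ _)
  have hs₁ : s₁ ≫ c = 𝟙 _ := Over.OverMorphism.ext hs₀c
  have := isOpenImmersion_of_section hs₁
  have hsc' : ∀ e : E₁.left, c.left e ∈ Z₀ → e ∈ Set.range s₁.left := fun e he => hs₀ e (hZ₀ ▸ he)
  let C : Set E₁.left := (Set.range s₁.left)ᶜ
  have hZc : IsClosed (q₁.left '' C) :=
    q₁.left.isClosedMap _ s₁.left.isOpenEmbedding.isOpen_range.isClosed_compl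
  let O : U₁.left.Opens := ⟨(q₁.left '' C)ᶜ, hZc.isOpen_compl⟩
  -- every point avoids the bad locus
  have good : ∀ x : Spec P, q₁.left (s₁.left x) ∈ O := by
    intro x hxZ
    obtain ⟨m, hm, hxm⟩ := Ideal.exists_le_maximal _ x.2.ne_top
    let x' : Spec P := ⟨m, hm.isPrime⟩
    have hsp : x ⤳ x' := (PrimeSpectrum.le_iff_specializes x x').1 hxm
    have hx' : q₁.left (s₁.left x') ∈ q₁.left '' C :=
      ((hsp.map s₁.left.continuous).map q₁.left.continuous).mem_closed hZc hxZ
    obtain ⟨e, heC, he⟩ := hx'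
    refine heC (hsc' e ((hcu' e).1 ?_))
    rw [he, hcu' , ← Scheme.Hom.comp_apply, ← Over.comp_left, hs₁]
    show x' ∈ Z₀
    rw [hZ₀]
    intro z hz
    have := HenselianRing.jac (R := P) (I := J.map wP.hom) hz
    exact (Ideal.mem_sInf.1 this) ⟨bot_le, hm⟩
  let U₂ : Over S := Over.mk (O.ι ≫ U₁.hom)
  let i₂ : U₂ ⟶ U₁ := Over.homMk O.ι rfl
  have : IsOpenImmersion i₂.left := inferInstanceAs (IsOpenImmersion O.ι)
  let π₂ : (yon S).obj U₂ ⟶ Y := (yon S).map i₂ ≫ π₁
  have hπ₂e : RepWith @Etale π₂ := repWith_comp ((repWith_yon_iff i₂).2 (inferInstance : Etale i₂.left)) hπ₁e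
  have hπ₂s : RepWith @Surjective π₂ :=
    repWith_surjective_of_isSurjectiveMor hπ₂e.1 (isSurjectiveMor_of_ofPt_surjective fun y => by
      obtain ⟨x, rfl⟩ := ofPt_surjective hfs y
      obtain ⟨v, hv⟩ : q₁.left (s₁.left x) ∈ Set.range i₂.left := by
        rw [show Set.range i₂.left = (O : Set U₁.left) from O.range_ι]
        exact good x
      refine ⟨v, ?_⟩
      show Points.ofPt ((yon S).map i₂ ≫ π₁) v = _
      rw [ofPt_comp, hv]
      refine ((ofPt_eq_iff sq₁ x _).2 ⟨s₁.left x, ?_, rfl⟩).symm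
      rw [← Scheme.Hom.comp_apply, ← Over.comp_left, hs₁]; rfl)
  have hmono : Mono π₂ := by
    obtain ⟨R₂, t₂, s₂, sq₂⟩ := exists_pullback hYa.diag π₂ π₂
    have : Etale t₂.left := (repWith_yon_iff t₂).1 (repWith_baseChange sq₂.flip hπ₂e)
    obtain ⟨d₂, hd₂⟩ := exists_map_eq (sq₂.lift (𝟙 _) (𝟙 _) rfl)
    have hd₂t : d₂ ≫ t₂ = 𝟙 U₂ := (yon S).map_injective (by
      rw [Functor.map_comp, hd₂, sq₂.lift_fst, CategoryTheory.Functor.map_id])
    have hd₂s : d₂ ≫ s₂ = 𝟙 U₂ := (yon S).map_injective (by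
      rw [Functor.map_comp, hd₂, sq₂.lift_snd, CategoryTheory.Functor.map_id])
    have := isOpenImmersion_of_section hd₂t
    have hsurj : Surjective d₂.left := ⟨fun r => by
      let K := R₂.left.residueField r
      let X : Over S := Over.mk (R₂.left.fromSpecResidueField r ≫ R₂.hom)
      let ρ : X ⟶ R₂ := Over.homMk (R₂.left.fromSpecResidueField r) rfl
      let z : ↥(Spec K) := IsLocalRing.closedPoint K
      have e₀ : ((yon S).map (ρ ≫ t₂)) ≫ π₂ = (yon S).map (ρ ≫ s₂) ≫ π₂ := by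
        rw [Functor.map_comp, Functor.map_comp, Category.assoc, Category.assoc, sq₂.w]
      obtain ⟨x, hx⟩ := ofPt_surjective hfs (Points.ofPt ((yon S).map (ρ ≫ t₂) ≫ π₂) z)
      obtain ⟨K', α, β, k', eK, -, -⟩ := exists_of_ofPt_eq hx
      have mk : ∀ a : X ⟶ U₂, (yon S).map a ≫ π₂ = (yon S).map (ρ ≫ t₂) ≫ π₂ → β ≫ a ≫ i₂ = α ≫ s₁ ≫ q₁ := by
        intro a ha
        obtain ⟨l, hl⟩ := exists_map_eq (sq₁.lift ((yon S).map α) ((yon S).map (β ≫ a ≫ i₂)) (by
          rw [eK, ← ha, Functor.map_comp, Functor.map_comp]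
          simp only [π₂, Category.assoc]))
        have hlc : l ≫ c = α := (yon S).map_injective (by rw [Functor.map_comp, hl, sq₁.lift_fst])
        have hlq : l ≫ q₁ = β ≫ a ≫ i₂ := (yon S).map_injective (by rw [Functor.map_comp, hl, sq₁.lift_snd])
        have hsub : Set.range l.left ⊆ Set.range s₁.left := by
          rintro _ ⟨z', rfl⟩
          by_contra hC
          have h1 : q₁.left (l.left z') ∈ q₁.left '' C := ⟨_, hC, rfl⟩
          rw [← Scheme.Hom.comp_apply, ← Over.comp_left, hlq, Over.comp_left, Over.comp_left, Scheme.Hom.comp_apply,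
            Scheme.Hom.comp_apply] at h1
          exact (a.left (β.left z')).2 h1
        let m : K' ⟶ Over.mk pS := Over.homMk (IsOpenImmersion.lift s₁.left l.left hsub) (hS.hom_ext _ _)
        have hm : m ≫ s₁ = l := Over.OverMorphism.ext (IsOpenImmersion.lift_fac _ _ _)
        have hmα : m = α := by rw [← hlc, ← hm, Category.assoc, hs₁, Category.comp_id]
        rw [← hlq, ← hm, hmα, Category.assoc]
      have e₁' := (mk _ rfl).trans (mk _ e₀.symm).symm
      have : Mono i₂.left := inferInstance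
      have : Nonempty ↥K'.left := ⟨k'⟩
      have e₂' : (ρ ≫ t₂).left = (ρ ≫ s₂).left := by
        rw [← cancel_mono i₂.left]
        refine eq_of_nonempty_comp β.left _ _ ?_
        simpa only [Over.comp_left] using congrArg (fun m => m.left) e₁'
      refine ⟨(ρ ≫ t₂).left z, ?_⟩
      have e' : ρ = (ρ ≫ t₂) ≫ d₂ := (yon S).map_injective (sq₂.hom_ext
        (by rw [← Functor.map_comp, ← Functor.map_comp, Category.assoc, hd₂t, Category.comp_id])
        (by rw [← Functor.map_comp, ← Functor.map_comp, Category.assoc, hd₂s, Category.comp_id,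
          Over.OverMorphism.ext e₂']))
      rw [← Scheme.Hom.comp_apply, ← Over.comp_left, ← e']
      exact Scheme.fromSpecResidueField_apply _ _⟩
    have : IsIso d₂.left := (isIso_iff_isOpenImmersion_and_surjective _).2 ⟨inferInstance, hsurj⟩
    have : IsIso d₂ := by
      have : IsIso ((Over.forget S).map d₂) := ‹IsIso d₂.left›
      exact isIso_of_reflects_iso d₂ (Over.forget S)
    have hts₂ : t₂ = s₂ := (cancel_epi d₂).1 (hd₂t.trans hd₂s.symm)
    exact ⟨fun a b e => (sq₂.lift_fst a b e).symm.trans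
      ((congrArg (fun m => sq₂.lift a b e ≫ (yon S).map m) hts₂).trans (sq₂.lift_snd a b e))⟩
  have := isLocallySurjective_of_atlas hπ₂e hπ₂s
  have : Epi π₂ := (Sheaf.isLocallySurjective_iff_epi' _ π₂).1 ‹_›
  have : IsIso π₂ := isIso_of_mono_of_epi _
  obtain ⟨f', hf'⟩ := exists_map_eq (f ≫ inv π₂)
  have : Surjective f'.left := (repWith_yon_iff f').1 (hf' ▸ (repWith_comp_iso_iff _ _).2 hfs)
  have : IsIntegralHom f'.left := (repWith_yon_iff f').1 (hf' ▸ (repWith_comp_iso_iff _ _).2 hfi)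
  exact ⟨U₂, AbsApprox.isAffine_of_universallyClosed f'.left, ⟨asIso π₂⟩⟩

/-- over a base whose closed points form a henselian zero locus with separably closed residue fields -/
theorem isAff_of_integral_hens (hS : IsTerminal S) {Y : Sp S} (hYa : IsAlgSpace Y) (hY : IsSeparatedSp Y)
    {Q : CommRingCat.{u}} (q₀ : Spec Q ⟶ S) {W : Over S} [IsAffine W.left] (f : (yon S).obj W ⟶ Y)
    (hfs : RepWith @Surjective f) (g : Y ⟶ (yon S).obj (Over.mk q₀)) {h : W ⟶ Over.mk q₀}
    (comm : f ≫ g = (yon S).map h) (hint : IsIntegralHom h.left) (J : Ideal Q) [HenselianRing Q J]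
    (hmax : ∀ q : Ideal Q, q.IsPrime → J ≤ q → q.IsMaximal)
    (hsc : ∀ (q : Ideal Q) [q.IsMaximal], IsSepClosed q.ResidueField) : IsAff Y := by
  obtain ⟨P, pS, ⟨eW⟩⟩ := exists_spec_form W
  refine isAff_of_integral_hens_spec hS hYa hY q₀ pS ((yon S).map eW.inv ≫ f)
    ((repWith_iso_comp_iff _ _).2 hfs) g (h := eW.inv ≫ h) (by rw [Category.assoc, comm, Functor.map_comp]) ?_ J hmax hsc
  have : IsIso eW.inv.left := inferInstanceAs (IsIso ((Over.forget S).map eW.inv))
  exact (MorphismProperty.cancel_left_of_respectsIso @IsIntegralHom eW.inv.left h.left).2 hint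

end Groth.Agent.SpChev
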