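import Groth.Agent.SpChev.Hens
import Groth.Agent.WContr.Exists
import Groth.Agent.WContr.Necessity
import Groth.Agent.FpqcDescent.Affine
import Groth.Agent.AlgSpLib.FpqcRep
import Groth.Agent.AlgSpLib.FpqcProps

/-!
# A separated space receiving a surjection from a scheme integral over an affine one is affine
-/

set_option autoImplicit false
set_option linter.style.haveILetI false

universe u

open CategoryTheory CategoryTheory.Limits AlgebraicGeometry Topology

set_option backward.isDefEq.respectTransparency false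

namespace Groth.Agent.SpChev

open _root_.AlgSp Groth.Agent.AlgSpLib

theorem range_basicOpen {R : Type u} [CommRing R] (b : R) :
    Set.range (Spec.map (CommRingCat.ofHom (algebraMap R (Localization.Away b)))) =
      (PrimeSpectrum.basicOpen b : Set (PrimeSpectrum R)) :=
  PrimeSpectrum.localization_away_comap_range (Localization.Away b) b

/-- closed points of a ring with etale retractions form a henselian zero locus -/
theorem henselianRing_of_retractions {D : Type u} [CommRing D] (hD : ProEtW.HasEtaleRetractions D) (J : Ideal D)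
    (hJ : ∀ m : Ideal D, m.IsMaximal → J ≤ m) : HenselianRing D J := by
  have hjac : J ≤ Ideal.jacobson ⊥ := le_sInf fun m hm => hJ m hm.2
  refine Hensel.henselianRing_of_lift hjac fun E _ _ _ σ => ?_
  let p : Spec (CommRingCat.of E) ⟶ Spec (CommRingCat.of D) := Spec.map (CommRingCat.ofHom (algebraMap D E))
  let k : Spec (CommRingCat.of (D ⧸ J)) ⟶ Spec (CommRingCat.of D) :=
    Spec.map (CommRingCat.ofHom (Ideal.Quotient.mk J))
  have : Etale p := (HasRingHomProperty.Spec_iff (P := @Etale)).2 (RingHom.etale_algebraMap.2 ‹_›)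
  have : IsClosedImmersion k := IsClosedImmersion.spec_of_surjective _ Ideal.Quotient.mk_surjective
  let σ' : Spec (CommRingCat.of (D ⧸ J)) ⟶ Spec (CommRingCat.of E) := Spec.map (CommRingCat.ofHom σ.toRingHom)
  have hσ' : σ' ≫ p = k := by
    rw [← Spec.map_comp]
    exact congrArg Spec.map (CommRingCat.hom_ext (RingHom.ext σ.commutes))
  let F := pullback p k
  let fF : F ⟶ Spec (CommRingCat.of E) := pullback.fst p k
  let s : Spec (CommRingCat.of (D ⧸ J)) ⟶ F := pullback.lift σ' (𝟙 _) (by rw [hσ', Category.id_comp])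
  have hs : s ≫ pullback.snd p k = 𝟙 _ := pullback.lift_snd _ _ _
  have : IsOpenImmersion s := by
    have : Etale (s ≫ pullback.snd p k) := by rw [hs]; infer_instance
    have : Etale s := Etale.of_comp s (pullback.snd p k)
    have : IsSplitMono s := ⟨⟨⟨_, hs⟩⟩⟩
    exact IsOpenImmersion.of_flat_of_mono s
  have : IsClosedImmersion s := by
    have : IsClosedImmersion (s ≫ pullback.snd p k) := by rw [hs]; infer_instance
    exact IsClosedImmersion.of_comp s (pullback.snd p k)
  -- an element cutting out the section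
  let φ := F.isoSpec
  have hcl : IsClopen (φ.inv ⁻¹' Set.range s) :=
    IsClopen.preimage ⟨s.isClosedEmbedding.isClosed_range, s.isOpenEmbedding.isOpen_range⟩ φ.inv.continuous
  obtain ⟨ε, -, hε⟩ := PrimeSpectrum.isClopen_iff.1 hcl
  have : IsClosedImmersion fF := inferInstance
  obtain ⟨b₀, hb₀⟩ := fF.app_surjective ⊤ (isAffineOpen_top _) ε
  obtain ⟨b, rfl⟩ : ∃ b : E, (Scheme.ΓSpecIso (CommRingCat.of E)).inv b = b₀ :=
    ⟨(Scheme.ΓSpecIso (CommRingCat.of E)).hom b₀, by simp⟩
  have hmem : ∀ y : F, fF y ∈ PrimeSpectrum.basicOpen b ↔ y ∈ Set.range s := fun y => by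
    have h1 : φ.inv (φ.hom y) = y := by
      rw [← Scheme.Hom.comp_apply, Iso.hom_inv_id]; rfl
    have h2 : φ.hom y ∈ φ.inv ⁻¹' Set.range s ↔ y ∈ Set.range s := by rw [Set.mem_preimage, h1]
    rw [← h2, hε]
    show y ∈ fF ⁻¹ᵁ PrimeSpectrum.basicOpen b ↔ y ∈ φ.hom ⁻¹ᵁ PrimeSpectrum.basicOpen ε
    have e1 : φ.hom ⁻¹ᵁ (PrimeSpectrum.basicOpen ε) = F.basicOpen ε := F.toSpecΓ_preimage_basicOpen ε
    have e2 : fF ⁻¹ᵁ (PrimeSpectrum.basicOpen b) = F.basicOpen ε :=
      (congrArg (fF ⁻¹ᵁ ·) (basicOpen_eq_of_affine b).symm).trans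
        ((Scheme.preimage_basicOpen_top fF _).trans (congrArg F.basicOpen hb₀))
    rw [e1, e2]
  -- the localisation is faithfully flat
  let Eb := Localization.Away b
  haveI : Algebra.Etale E Eb := Algebra.Etale.of_isLocalizationAway b
  haveI : Algebra.Etale D Eb := Algebra.Etale.comp D E Eb
  have hσb : ∀ x, σ' x ∈ PrimeSpectrum.basicOpen b := fun x => by
    have : fF (s x) = σ' x := by rw [← Scheme.Hom.comp_apply, pullback.lift_fst]
    rw [← this]
    exact (hmem _).2 ⟨x, rfl⟩
  haveI : Module.Flat D Eb := inferInstance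
  have hff : Module.FaithfullyFlat D Eb := by
    refine Module.FaithfullyFlat.of_comap_surjective fun x => ?_
    have hopen : IsOpen (Set.range (PrimeSpectrum.comap (algebraMap D Eb))) :=
      PrimeSpectrum.isOpenMap_comap_of_hasGoingDown_of_finitePresentation.isOpen_range
    obtain ⟨m, hm, hxm⟩ := Ideal.exists_le_maximal _ x.2.ne_top
    let xm : PrimeSpectrum D := ⟨m, hm.isPrime⟩
    refine ((PrimeSpectrum.le_iff_specializes x xm).1 hxm).mem_open hopen ?_
    obtain ⟨z, hz⟩ : xm ∈ Set.range k := by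
      have : Set.range k = PrimeSpectrum.zeroLocus (R := D) J :=
        (range_comap_of_surjective _ _ Ideal.Quotient.mk_surjective).trans (by rw [Ideal.mk_ker])
      rw [this]
      exact hJ m hm
    obtain ⟨w, hw⟩ : σ' z ∈ Set.range (Spec.map (CommRingCat.ofHom (algebraMap E Eb))) := by
      rw [range_basicOpen]; exact hσb z
    refine ⟨w, ?_⟩
    rw [← hz, ← hσ', Scheme.Hom.comp_apply, ← hw]
    show _ = PrimeSpectrum.comap (algebraMap D E) (PrimeSpectrum.comap (algebraMap E Eb) w)
    rw [← PrimeSpectrum.comap_comp_apply, ← IsScalarTower.algebraMap_eq]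
  obtain ⟨τ⟩ := hD Eb hff inferInstance
  let τ₀ : E →ₐ[D] D := τ.comp (IsScalarTower.toAlgHom D E Eb)
  refine ⟨τ₀, fun x => ?_⟩
  -- the reduction of the retraction factors through the section
  let τ' : Spec (CommRingCat.of (D ⧸ J)) ⟶ Spec (CommRingCat.of E) :=
    k ≫ Spec.map (CommRingCat.ofHom τ₀.toRingHom)
  have hτp : τ' ≫ p = k := by
    rw [Category.assoc, ← Spec.map_comp,
      show CommRingCat.ofHom (algebraMap D E) ≫ CommRingCat.ofHom τ₀.toRingHom = 𝟙 (CommRingCat.of D) from
        CommRingCat.hom_ext (RingHom.ext τ₀.commutes), Spec.map_id, Category.comp_id]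
  let l₀ : Spec (CommRingCat.of (D ⧸ J)) ⟶ F := pullback.lift τ' (𝟙 _) (by rw [hτp, Category.id_comp])
  have hsub : Set.range l₀ ⊆ Set.range s := by
    rintro _ ⟨z, rfl⟩
    refine (hmem _).1 ?_
    rw [← Scheme.Hom.comp_apply, pullback.lift_fst]
    rw [← SetLike.mem_coe, ← range_basicOpen b]
    refine ⟨Spec.map (CommRingCat.ofHom τ.toRingHom) (k z), ?_⟩
    show (Spec.map (CommRingCat.ofHom τ.toRingHom) ≫ Spec.map (CommRingCat.ofHom (algebraMap E Eb))) (k z) =
      (k ≫ Spec.map (CommRingCat.ofHom τ₀.toRingHom)) z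
    rw [← Spec.map_comp, Scheme.Hom.comp_apply]
    rfl
  have hl : IsOpenImmersion.lift s l₀ hsub = 𝟙 _ := by
    rw [← Category.comp_id (IsOpenImmersion.lift s l₀ hsub), ← hs, ← Category.assoc, IsOpenImmersion.lift_fac,
      pullback.lift_snd, hs]
  have : σ' = τ' := by
    have h1 := IsOpenImmersion.lift_fac s l₀ hsub
    rw [hl, Category.id_comp] at h1
    simpa [s, l₀] using congrArg (fun m => m ≫ pullback.fst p k) h1
  have h2 := Spec.map_injective (this.trans (Spec.map_comp _ _).symm)
  exact congr($(h2.symm).hom x)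

variable {S : Scheme.{u}}

/-- a separated space receiving a surjection from an affine scheme integral over an affine scheme through it is affine -/
theorem isAff_of_integral_over (hS : IsTerminal S) {Y : Sp S} (hYa : IsAlgSpace Y) (hY : IsSeparatedSp Y)
    {W T : Over S} [IsAffine W.left] [IsAffine T.left] (f : (yon S).obj W ⟶ Y) (hfs : RepWith @Surjective f)
    (g : Y ⟶ (yon S).obj T) {h : W ⟶ T} (comm : f ≫ g = (yon S).map h) (hint : IsIntegralHom h.left) :
    IsAff Y := by
  have := isAffine_base hS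
  obtain ⟨Q, qS, ⟨eT⟩⟩ := exists_spec_form T
  obtain ⟨D, _, _, hff, -, hwc⟩ := WContr.exists_wContractible Q
  obtain ⟨J, hJ⟩ := WContr.WSquare.exists_ideal_closedPoints (WContr.isWLocal hwc)
  have hJmem : ∀ q : PrimeSpectrum D, J ≤ q.asIdeal ↔ q.asIdeal.IsMaximal := fun q => by
    rw [← PrimeSpectrum.isClosed_singleton_iff_isMaximal]
    exact Set.ext_iff.1 hJ q
  haveI := henselianRing_of_retractions (WContr.hasEtaleRetractions hwc) J
    fun m hm => (hJmem ⟨m, hm.isPrime⟩).2 hm
  let φ : Q ⟶ CommRingCat.of D := CommRingCat.ofHom (algebraMap Q D)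
  let T' : Over S := Over.mk (Spec.map φ ≫ qS)
  let c : T' ⟶ T := (Over.homMk (Spec.map φ) rfl : T' ⟶ Over.mk qS) ≫ eT.inv
  have : IsAffine T'.left := inferInstanceAs (IsAffine (Spec _))
  have : IsIso eT.inv.left := inferInstanceAs (IsIso ((Over.forget S).map eT.inv))
  have hflat : Flat c.left ∧ Surjective c.left := by
    have h1 : Flat (Spec.map φ) :=
      (HasRingHomProperty.Spec_iff (P := @Flat)).2 (RingHom.flat_algebraMap_iff.2 inferInstance)
    have h2 : Surjective (Spec.map φ) := ⟨PrimeSpectrum.comap_surjective_of_faithfullyFlat⟩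
    exact ⟨inferInstanceAs (Flat (Spec.map φ ≫ eT.inv.left)), inferInstanceAs (Surjective (Spec.map φ ≫ eT.inv.left))⟩
  have := hflat.1
  have := hflat.2
  have : QuasiCompact c.left := quasiCompact_of_compactSpace c.left
  have sqY := IsPullback.of_hasPullback g ((yon S).map c)
  have hY'a : IsAlgSpace (pullback g ((yon S).map c)) :=
    isAlgSpace_of_isPullback_space (IsAlgSpace.yon_obj T) hYa (IsAlgSpace.yon_obj T') sqY
  have hgs : IsSeparatedMor g :=
    ColimEtale.isSeparatedMor_cancel (SpQS.baseStr _) (by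
      rw [show g ≫ SpQS.baseStr _ = SpQS.baseStr Y from SpQS.isTerminalBase.hom_ext _ _]
      exact (isSeparatedSp_iff_mor _).1 hY)
  have hY's : IsSeparatedSp (pullback g ((yon S).map c)) := by
    refine (isSeparatedSp_iff_mor (SpQS.baseStr _)).2 ?_
    rw [show SpQS.baseStr (pullback g ((yon S).map c)) = pullback.snd g ((yon S).map c) ≫ SpQS.baseStr _ from
      SpQS.isTerminalBase.hom_ext _ _]
    exact isSeparatedMor_comp (isSeparatedMor_baseChange sqY hgs) (ColimEtale.isSeparatedMor_of_affine_source ‹_› _)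
  let W' : Over S := Over.mk (pullback.fst h.left c.left ≫ W.hom)
  have : IsAffine W'.left := inferInstanceAs (IsAffine (pullback h.left c.left))
  let w₁ : W' ⟶ W := Over.homMk (pullback.fst h.left c.left) rfl
  let w₂ : W' ⟶ T' := Over.homMk (pullback.snd h.left c.left) (hS.hom_ext _ _)
  have sqW : IsPullback ((yon S).map w₁) ((yon S).map w₂) ((yon S).map h) ((yon S).map c) :=
    isPullback_yon_iff.2 (IsPullback.of_hasPullback h.left c.left)
  let f' : (yon S).obj W' ⟶ pullback g ((yon S).map c) :=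
    sqY.lift ((yon S).map w₁ ≫ f) ((yon S).map w₂) (by rw [Category.assoc, comm]; exact sqW.w)
  have sqf : IsPullback ((yon S).map w₁) f' f (pullback.fst g ((yon S).map c)) := by
    refine IsPullback.of_bot ?_ (sqY.lift_fst _ _ _).symm sqY
    rw [sqY.lift_snd, comm]
    exact sqW
  have hf's : RepWith @Surjective f' := repWith_baseChange sqf hfs
  obtain ⟨T'', hT'', ⟨eY⟩⟩ := isAff_of_integral_hens hS hY'a hY's (Q := CommRingCat.of D) (Spec.map φ ≫ qS) f' hf's
    (pullback.snd g ((yon S).map c)) (h := w₂) (sqY.lift_snd _ _ _)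
    (by
      have : IsIntegralHom h.left := hint
      exact (inferInstance : IsIntegralHom (pullback.snd h.left c.left)))
    J (fun q hq hJq => (hJmem ⟨q, hq⟩).1 hJq) (fun q _ => (WContr.isStrictlyHenselian hwc q).2)
  -- descend
  have hr : RepWith @IsAffineHom g := by
    obtain ⟨a, ha⟩ := exists_map_eq (eY.hom ≫ pullback.snd g ((yon S).map c))
    refine repWith_of_fpqcCover @IsAffineHom (fun _ _ r hr => ?_) (IsAlgSpace.yon_obj T) hYa
      (isFpqcCover_of_flat_qc_surjective (IsAlgSpace.yon_obj T') (IsAlgSpace.yon_obj T) ((yon S).map c) ?_ ?_ ?_)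
      g (fun _ : PUnit.{u + 1} => pullback g ((yon S).map c)) (fun _ => pullback.snd g ((yon S).map c))
      (fun _ => pullback.fst g ((yon S).map c)) (fun _ => sqY) (fun _ => ?_)
    · have : IsAffineHom r := hr
      exact indQA_of_isAffineHom r
    · exact (locP_iff_repWith etST_flat (IsAlgSpace.yon_obj T) (repWith_yon_iff (P := @Flat) c |>.2 ‹_›).1).2
        ((repWith_yon_iff c).2 ‹_›)
    · exact (isQuasiCompactMor_iff_repWith (IsAlgSpace.yon_obj T') (IsAlgSpace.yon_obj T)
        (repWith_yon_iff (P := @QuasiCompact) c |>.2 ‹_›).1).2 ((repWith_yon_iff c).2 ‹_›)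
    · exact isSurjectiveMor_of_repWith ((repWith_yon_iff c).2 ‹_›)
    · have : RepWith @IsAffineHom (eY.hom ≫ pullback.snd g ((yon S).map c)) :=
        ha ▸ (repWith_yon_iff a).2 (isAffineHom_of_isAffine a.left)
      exact (repWith_iso_comp_iff _ _).1 this
  obtain ⟨V, v₁, v₂, sqV, hv⟩ := exists_repWith hr (𝟙 ((yon S).obj T))
  have := sqV.isIso_fst_of_isIso
  have : IsAffineHom v₂.left := hv
  exact ⟨V, isAffine_of_isAffineHom v₂.left, ⟨asIso v₁⟩⟩

end Groth.Agent.SpChev
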