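import Groth.Agent.SpChev.Pinch
import Groth.Agent.SpChev.Chain
import Groth.Agent.RelNorm.SigmaInt

/-!
# A reduced space covered by two affine closed subspaces is affine
-/

set_option autoImplicit false
set_option linter.style.haveILetI false

universe u

open CategoryTheory CategoryTheory.Limits AlgebraicGeometry

set_option backward.isDefEq.respectTransparency false

namespace Groth.Agent.SpChev

open _root_.AlgSp Groth.Agent.AlgSpLib

variable {S : Scheme.{u}}

set_option maxHeartbeats 4000000 in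
theorem isAff_of_split (hS : IsTerminal S) {Y : Sp S} (hYa : IsAlgSpace Y) (hY : IsSeparatedSp Y)
    (hq : IsQuasiCompactSp Y) {U R : Over S} [IsAffine U.left] [IsReduced U.left] [IsAffine R.left]
    {π : (yon S).obj U ⟶ Y} (hπe : RepWith @Etale π) (hπs : RepWith @Surjective π) {p₁ p₂ : R ⟶ U}
    (sqR : IsPullback ((yon S).map p₁) ((yon S).map p₂) π π) {Z : Bool → Sp S} {i : ∀ k, Z k ⟶ Y}
    (hi : ∀ k, RepWith @IsClosedImmersion (i k)) (hZ : ∀ k, IsAff (Z k))
    (hcov : ∀ x : Points Y, ∃ k, x ∈ Set.range (Points.map (i k))) : IsAff Y := by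
  choose T hT he using hZ
  let e := fun k => (he k).some
  let fk : ∀ k, (yon S).obj (T k) ⟶ Y := fun k => (e k).hom ≫ i k
  have hfk : ∀ k, RepWith @IsClosedImmersion (fk k) := fun k => (repWith_iso_comp_iff _ _).2 (hi k)
  obtain ⟨W, f, j, hf, hjo, hjf, hjd, hjc⟩ := RelNorm.exists_sigma_integral' hYa
    (fun k : ULift.{u} Bool => T k.down) (fun k => fk k.down)
    (fun k => repWith_mono (fun _ _ r hr => by
      have : IsClosedImmersion r := hr
      exact (inferInstance : IsIntegralHom r)) (hfk k.down))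
  have := hjo
  have hWaff : IsAffine W.left := by
    have : IsOpenImmersion (Limits.Sigma.desc fun k => (j k).left) := isOpenImmersion_sigmaDesc _ _ hjd
    have : Surjective (Limits.Sigma.desc fun k => (j k).left) := ⟨fun t => by
      obtain ⟨k, y, rfl⟩ := hjc t
      exact ⟨Limits.Sigma.ι (fun k => (T k.down).left) k y, by rw [← Scheme.Hom.comp_apply, Limits.Sigma.ι_desc]⟩⟩
    have : Epi (Limits.Sigma.desc fun k => (j k).left).base :=
      (TopCat.epi_iff_surjective _).2 (Limits.Sigma.desc fun k => (j k).left).surjective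
    have := IsOpenImmersion.isIso (Limits.Sigma.desc fun k => (j k).left)
    have : ∀ k : ULift.{u} Bool, IsAffine (T k.down).left := fun k => hT k.down
    exact IsAffine.of_isIso (inv (Limits.Sigma.desc fun k => (j k).left))
  have hfs : RepWith @Surjective f := repWith_surjective_of_isSurjectiveMor hf.1 fun x => by
    obtain ⟨k, z, rfl⟩ := hcov x
    refine ⟨Points.map ((yon S).map (j ⟨k⟩)) (Points.map (e k).inv z), ?_⟩
    rw [← Points.map_comp, hjf, ← Points.map_comp, Iso.inv_hom_id_assoc]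
  obtain ⟨W', a', q, sqW, hqi⟩ := exists_repWith hf π
  obtain ⟨a, rfl⟩ := exists_map_eq a'
  have : IsIntegralHom q.left := hqi
  have : IsAffine W'.left := isAffine_of_isAffineHom q.left
  -- the pieces on the chart
  have hUk : ∀ k, ∃ (Uk : Over S) (z : Uk ⟶ T k) (v : Uk ⟶ U),
      IsPullback ((yon S).map z) ((yon S).map v) (fk k) π ∧ IsClosedImmersion v.left := fun k => by
    obtain ⟨Uk, z, v, sq, hv⟩ := exists_repWith (hfk k) π
    obtain ⟨z, rfl⟩ := exists_map_eq z
    exact ⟨Uk, z, v, sq, hv⟩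
  choose Uk z v sqv hv using hUk
  have hIk : ∀ k, SchImg.IsPullIdeal (i k) π (v k).left.ker := fun k => by
    have := hv k
    refine SpThick.isPullIdeal_ker (z := (yon S).map (z k) ≫ (e k).hom) ?_
    exact (sqv k).of_iso (Iso.refl _) (e k) (Iso.refl _) (Iso.refl _) (by simp) (by simp) (by simp [fk]) (by simp)
  -- pieces of the pullback
  have hl : ∀ k, ∃ l : Uk k ⟶ W', IsPullback (z k).left l.left (j ⟨k⟩).left a.left ∧ l ≫ q = v k := fun k => by
    obtain ⟨l, hl⟩ := exists_map_eq (sqW.lift ((yon S).map (z k ≫ j ⟨k⟩)) ((yon S).map (v k)) (by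
      rw [Functor.map_comp, Category.assoc, hjf, (sqv k).w]))
    refine ⟨l, isPullback_yon_iff.1 (IsPullback.of_bot (?_) ?_ sqW), (yon S).map_injective ?_⟩
    · rw [hjf, hl, sqW.lift_snd]; exact sqv k
    · rw [hl, sqW.lift_fst, Functor.map_comp]
    · rw [Functor.map_comp, hl, sqW.lift_snd]
  choose l hlsq hlq using hl
  have hlo : ∀ k, IsOpenImmersion (l k).left := fun k =>
    MorphismProperty.of_isPullback (P := @IsOpenImmersion) (hlsq k) (hjo ⟨k⟩)
  have hlc : ∀ w : W'.left, ∃ k y, (l k).left y = w := fun w => by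
    obtain ⟨⟨k⟩, y, hy⟩ := hjc (a.left w)
    obtain ⟨p, -, hp⟩ := Scheme.exists_preimage_of_isPullback (hlsq k) y w hy
    exact ⟨k, p, hp⟩
  have hzero : ∀ x : Γ(W'.left, ⊤), (∀ k, (l k).left.appTop x = 0) → x = 0 := fun x hx => by
    refine TopCat.Presheaf.section_ext W'.left.sheaf ⊤ x 0 fun w hw => ?_
    obtain ⟨k, y, rfl⟩ := hlc w
    have := hlo k
    show W'.left.presheaf.germ ⊤ ((l k).left y) hw x = W'.left.presheaf.germ ⊤ ((l k).left y) hw 0
    rw [map_zero]
    refine (ConcreteCategory.bijective_of_isIso ((l k).left.stalkMap y)).1 ?_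
    rw [map_zero]
    exact (Scheme.Hom.germ_stalkMap_apply (l k).left ⊤ y hw x).trans ((congrArg _ (hx k)).trans (map_zero _))
  have hqinj : Function.Injective q.left.appTop := by
    refine (injective_iff_map_eq_zero q.left.appTop.hom).2 fun b hb => ?_
    refine (basicOpen_eq_bot_iff b).1 ?_
    rw [eq_bot_iff]
    intro y hy
    obtain ⟨w, rfl⟩ := (have : Surjective q.left :=
      (repWith_yon_iff (P := @Surjective) q).1 (repWith_baseChange sqW hfs); q.left.surjective y)
    have hw : w ∈ q.left ⁻¹ᵁ U.left.basicOpen b := hy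
    rw [Scheme.preimage_basicOpen_top, show q.left.appTop b = 0 from hb, Scheme.basicOpen_zero] at hw
    exact hw
  -- the intersection
  let C := pullback (i false) (i true)
  have sqC : IsPullback (pullback.fst (i false) (i true)) (pullback.snd (i false) (i true)) (i false) (i true) :=
    IsPullback.of_hasPullback _ _
  let iC : C ⟶ Y := pullback.fst (i false) (i true) ≫ i false
  have hiC : RepWith @IsClosedImmersion iC := repWith_comp (repWith_baseChange sqC.flip (hi true)) (hi false)
  have hCaff : IsAff C := by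
    obtain ⟨V, v₁, v₂, sqV, hv₂⟩ := exists_repWith (repWith_baseChange sqC.flip (hi true)) (e false).hom
    have := sqV.isIso_fst_of_isIso
    have : IsClosedImmersion v₂.left := hv₂
    have := hT false
    exact ⟨V, isAffine_of_isAffineHom v₂.left, ⟨asIso v₁⟩⟩
  have hIC : SchImg.IsPullIdeal iC π ((v false).left.ker ⊔ (v true).left.ker) := fun T' α => by
    rw [Scheme.IdealSheafData.comap_sup, sup_eq_bot_iff, ← hIk false, ← hIk true]
    refine ⟨fun ⟨l, hl⟩ => ⟨⟨l ≫ pullback.fst _ _, by rw [Category.assoc]; exact hl⟩,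
      ⟨l ≫ pullback.snd _ _, by rw [Category.assoc, ← pullback.condition]; exact hl⟩⟩,
      fun ⟨⟨l₁, h₁⟩, ⟨l₂, h₂⟩⟩ => ?_⟩
    exact ⟨pullback.lift l₁ l₂ (h₁.trans h₂.symm), by rw [pullback.lift_fst_assoc]; exact h₁⟩
  refine isAff_of_pinch hS hYa hY hπe hπs sqR hf hfs sqW hqinj hiC hCaff hIC fun x hx b' => ?_
  rw [Scheme.IdealSheafData.ideal_sup, Pi.sup_apply, Submodule.mem_sup] at hx
  obtain ⟨x₁, hx₁, x₂, hx₂, rfl⟩ := hx
  have := hv false
  have := hv true
  rw [SpThick.ideal_ker_top, RingHom.mem_ker] at hx₁ hx₂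
  obtain ⟨b₁, hb₁⟩ := (v false).left.app_surjective ⊤ (isAffineOpen_top _) ((l false).left.appTop b')
  obtain ⟨b₂, hb₂⟩ := (v true).left.app_surjective ⊤ (isAffineOpen_top _) ((l true).left.appTop b')
  refine ⟨x₂ * b₁ + x₁ * b₂, sub_eq_zero.1 (hzero _ fun k => ?_)⟩
  have hk : ∀ y, (l k).left.appTop (q.left.appTop y) = (v k).left.appTop y := fun y => by
    rw [← hlq k]; rfl
  rw [map_sub, map_mul, hk, hk, sub_eq_zero]
  cases k
  · rw [map_add, map_add, map_mul, map_mul, hx₁, zero_mul, add_zero, zero_add]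
    exact congrArg _ hb₁
  · rw [map_add, map_add, map_mul, map_mul, hx₂, zero_mul, add_zero, zero_add]
    exact congrArg _ hb₂

end Groth.Agent.SpChev
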