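import Groth.Agent.SpChev.Birat
import Groth.Agent.SpChev.Split
import Groth.Agent.SpThick.Affine
import Groth.Agent.SpQS.RedInduced
import Groth.Agent.AlgSpLib.StalkSupport

/-!
# Chevalley's theorem for algebraic spaces
-/

set_option autoImplicit false
set_option linter.style.haveILetI false

universe u

open CategoryTheory CategoryTheory.Limits AlgebraicGeometry

set_option backward.isDefEq.respectTransparency false

namespace Groth.Agent.SpChev

open _root_.AlgSp Groth.Agent.AlgSpLib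

variable {S : Scheme.{u}}

/-- an affine chart of a separated quasi-compact space has affine relation -/
theorem exists_sep_chart (hS : IsTerminal S) {Y : Sp S} (hYa : IsAlgSpace Y) (hY : IsSeparatedSp Y)
    (hq : IsQuasiCompactSp Y) :
    ∃ (U R : Over S) (π : (yon S).obj U ⟶ Y) (p₁ p₂ : R ⟶ U), IsAffine U.left ∧ IsAffine R.left ∧
      RepWith @Etale π ∧ RepWith @Surjective π ∧ IsPullback ((yon S).map p₁) ((yon S).map p₂) π π := by
  have := isAffine_base hS
  have := compactSpace_of_isQuasiCompactSp hq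
  obtain ⟨U, π, hU, hπe, hπs⟩ := exists_affine_chart_of_compact hYa
  obtain ⟨R, p₁, p₂, sqR⟩ := exists_pullback hYa.diag π π
  exact ⟨U, R, π, p₁, p₂, hU, (affine_pullback_of_isSeparatedSp hY sqR).1, hπe, hπs, sqR⟩

set_option maxHeartbeats 2000000 in
/-- spaces with affine proper closed subspaces -/
theorem isAff_of_minimal (hS : IsTerminal S) {Y : Sp S} (hYa : IsAlgSpace Y) (hY : IsSeparatedSp Y)
    {W : Over S} [IsAffine W.left] {f : (yon S).obj W ⟶ Y} (hf : RepWith @IsIntegralHom f)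
    (hfs : RepWith @Surjective f)
    (hmin : ∀ ⦃Z : Sp S⦄ (i : Z ⟶ Y), RepWith @IsClosedImmersion i → IsIso i ∨ IsAff Z) : IsAff Y := by
  have := isAffine_base hS
  have hq : IsQuasiCompactSp Y :=
    isQuasiCompactSp_of_isSurjectiveMor hYa f (isSurjectiveMor_of_repWith hfs) (isQuasiCompactSp_yon W)
  by_cases hne : Nonempty (Points Y)
  swap
  · have hW : IsEmpty W.left := ⟨fun w => hne ⟨Points.ofPt f w⟩⟩
    let strW : W ⟶ Over.mk (𝟙 S) := Over.homMk W.hom (Category.comp_id _)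
    have : IsAffine (Over.mk (𝟙 S)).left := ‹IsAffine S›
    refine isAff_of_integral_over hS hYa hY f hfs (SpQS.baseStr Y) (h := strW) (SpQS.isTerminalBase.hom_ext _ _)
      ((HasAffineProperty.iff_of_isAffine (P := @IsIntegralHom)).2 ⟨inferInstance, ?_⟩)
    have : IsEmpty (PrimeSpectrum Γ(W.left, ⊤)) := ⟨fun p => hW.false (W.left.isoSpec.inv p)⟩
    have : Subsingleton Γ(W.left, ⊤) := PrimeSpectrum.isEmpty_iff_subsingleton.1 ‹_›
    exact RingHom.isIntegral_of_surjective _ fun x => ⟨0, Subsingleton.elim _ _⟩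
  obtain ⟨U, R, π, p₁, p₂, hU, hR, hπe, hπs, sqR⟩ := exists_sep_chart hS hYa hY hq
  obtain ⟨Z, i, hZa, hic, hir, hZr⟩ := SpQS.exists_redInduced hYa (isClosed_univ (X := Points Y))
  rcases hmin i hic with hiso | ⟨T, hT, ⟨eT⟩⟩
  swap
  · have his : RepWith @Surjective i := repWith_surjective_of_isSurjectiveMor hic.1 fun y =>
      (hir.symm ▸ Set.mem_univ y : y ∈ Set.range (Points.map i))
    have hth : IsThickMor i := ⟨hic.1, fun _ _ _ _ _ sq => ⟨hic.2 _ _ _ sq, his.2 _ _ _ sq⟩⟩
    exact SpThick.exists_affine_of_thick hS hYa hth T eT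
  have : IsReduced U.left := StalkPoint.isReduced_chart hZa hZr
    ⟨CostructuredArrow.mk (π ≫ inv i), (repWith_comp_iso_iff π (inv i)).2 hπe⟩
  by_cases hirr : ∀ O₁ O₂ : Set (Points Y), IsOpen O₁ → IsOpen O₂ → O₁.Nonempty → O₂.Nonempty → (O₁ ∩ O₂).Nonempty
  · exact isAff_of_irred hS hYa hY hq hπe hπs sqR hf hfs hirr hmin
  · push Not at hirr
    obtain ⟨O₁, O₂, h₁, h₂, hn₁, hn₂, hd⟩ := hirr
    let E : Bool → Set (Points Y) := fun k => if k then O₁ᶜ else O₂ᶜ
    have hE : ∀ k, IsClosed (E k) ∧ E k ≠ Set.univ := fun k => by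
      cases k
      · exact ⟨h₂.isClosed_compl, fun h => hn₂.ne_empty (Set.compl_univ_iff.1 h)⟩
      · exact ⟨h₁.isClosed_compl, fun h => hn₁.ne_empty (Set.compl_univ_iff.1 h)⟩
    choose Zk ik hZk hik hrk _hred using fun k => SpQS.exists_redInduced hYa (hE k).1
    have haff : ∀ k, IsAff (Zk k) := fun k => (hmin (ik k) (hik k)).resolve_left fun hi => (hE k).2 (by
      rw [← hrk k]
      exact Set.eq_univ_of_forall fun y =>
        ⟨Points.map (inv (ik k)) y, by rw [← Points.map_comp, IsIso.inv_hom_id, Points.map_id]⟩)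
    refine isAff_of_split hS hYa hY hq hπe hπs sqR hik haff fun y => ?_
    simp only [hrk]
    by_cases hy : y ∈ O₁
    · exact ⟨false, fun hy2 => (Set.eq_empty_iff_forall_notMem.1 hd) y ⟨hy, hy2⟩⟩
    · exact ⟨true, hy⟩

set_option maxHeartbeats 2000000 in
/-- a separated space with an integral surjection from an affine scheme is affine -/
theorem isAff_of_integral_surj (hS : IsTerminal S) {Y : Sp S} (hYa : IsAlgSpace Y) (hY : IsSeparatedSp Y)
    {W : Over S} [IsAffine W.left] {f : (yon S).obj W ⟶ Y} (hf : RepWith @IsIntegralHom f)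
    (hfs : RepWith @Surjective f) : IsAff Y := by
  classical
  by_contra hY0
  have hq : IsQuasiCompactSp Y :=
    isQuasiCompactSp_of_isSurjectiveMor hYa f (isSurjectiveMor_of_repWith hfs) (isQuasiCompactSp_yon W)
  obtain ⟨U, R, π, p₁, p₂, hU, hR, hπe, hπs, sqR⟩ := exists_sep_chart hS hYa hY hq
  let bad : Set U.left.IdealSheafData := {I | I.comap p₁.left = I.comap p₂.left ∧
    ∀ ⦃Z : Sp S⦄ (i : Z ⟶ Y), RepWith @IsClosedImmersion i → SchImg.IsPullIdeal i π I → ¬ IsAff Z}
  have hbot : (⊥ : U.left.IdealSheafData) ∈ bad := by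
    refine ⟨by simp, fun Z i hi hI hZ => hY0 ?_⟩
    have := SpThick.isIso_of_bot hi hπe hπs hI
    exact hZ.of_iso (asIso i)
  obtain ⟨I, hbotI, hI⟩ := zorn_le_nonempty₀ bad (fun c hc hchain I₀ hI₀ => by
    refine ⟨sSup c, ⟨?_, fun Z i hi hJ hZ => ?_⟩, fun I hI => le_sSup hI⟩
    · rw [SchImg.comap_sSup, SchImg.comap_sSup]
      exact iSup_congr fun I => iSup_congr fun hI => (hc hI).1
    · have : Nonempty c := ⟨⟨I₀, hI₀⟩⟩
      obtain ⟨k, hk⟩ := exists_isAff_stage hS hYa hY hq hπe hπs sqR (κ := c) Subtype.val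
        (fun a b => (hchain.total a.2 b.2).elim (fun h => ⟨b, h, le_rfl⟩) (fun h => ⟨a, le_rfl, h⟩))
        (fun k => (hc k.2).1) hi hJ (fun k => le_sSup k.2) (fun x hx => by
          rw [sSup_eq_iSup', Scheme.IdealSheafData.ideal_iSup, iSup_apply] at hx
          refine (Submodule.mem_iSup_of_directed _ ?_).1 hx
          intro a b
          rcases hchain.total a.2 b.2 with h | h
          · exact ⟨b, h _, le_rfl⟩
          · exact ⟨a, le_rfl, h _⟩) hZ
      obtain ⟨Zk, ik, -, hik, hIk⟩ := SchImg.exists_closedSub hYa hπe hπs sqR k.1 (hc k.2).1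
      exact (hc k.2).2 ik hik hIk (hk ik hik hIk)) ⊥ hbot
  obtain ⟨Z, i, hZa, hi, hIi⟩ := SchImg.exists_closedSub hYa hπe hπs sqR I hI.prop.1
  obtain ⟨-, hZs, -, -⟩ := good_of_closed hYa hY hq hi
  obtain ⟨WZ, wZ, v, sqW, hv⟩ := exists_repWith hi f
  have : IsClosedImmersion v.left := hv
  have : IsAffine WZ.left := isAffine_of_isAffineHom v.left
  refine hI.prop.2 i hi hIi (isAff_of_minimal hS hZa hZs (repWith_baseChange sqW.flip hf)
    (repWith_baseChange sqW.flip hfs) fun Z' i' hi' => ?_)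
  have hcomp : RepWith @IsClosedImmersion (i' ≫ i) := repWith_comp hi' hi
  obtain ⟨I', hI'⟩ := SchImg.exists_pullIdeal hcomp π
  have hle : I ≤ I' := hI'.le_of_factor hIi i' rfl
  by_cases hbad : I' ∈ bad
  · left
    have heq : I = I' := le_antisymm hle (hI.le_of_ge hbad hle)
    obtain ⟨b, hb⟩ := SchImg.exists_factor_of_le hcomp hZa hYa hπe hπs hI'
      (heq ▸ hIi.le_kerIdeal_self)
    have := SchImg.mono_of_closed hi
    have := SchImg.mono_of_closed hi'
    have hbi : b ≫ i' = 𝟙 Z := (cancel_mono i).1 (by rw [Category.assoc, hb, Category.id_comp])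
    exact ⟨b, (cancel_mono i').1 (by rw [Category.assoc, hbi, Category.comp_id, Category.id_comp]), hbi⟩
  · right
    have hnot : ¬ ∀ ⦃Z : Sp S⦄ (i : Z ⟶ Y), RepWith @IsClosedImmersion i → SchImg.IsPullIdeal i π I' → ¬ IsAff Z :=
      fun h => hbad ⟨hI'.invariant sqR, h⟩
    push Not at hnot
    obtain ⟨Z'', i'', hi'', hI'', hZ''⟩ := hnot
    exact hZ''.of_iso (nonempty_iso_of_pullIdeal hYa hπe hπs hi'' hcomp hI'' hI').some

end Groth.Agent.SpChev
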